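import Mathlib

/-!
# Uniqueness of the simple group of order 7920 (S0420): shared definitions (helper7 lemma server "M11U")

`Inverts t H` : conjugation by `t` inverts every element of the subgroup `H`.
`Adj R R'`    : the graph on the 55 Sylow 3-subgroups: `R ≠ R'` and one involution inverts both.
`Base G`      : standing facts about a simple group `G` of order 7920 (all proved on main / by S0434, S0435).
`Loc G`       : the 3-local facts.
`Tri t R R2 R3`: an involution `t` and the three Sylow 3-subgroups it inverts.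
-/

set_option autoImplicit false

namespace Cfsg.Agent.Helper7.M11U

open Subgroup

/-- conjugation by `t` inverts every element of `H` -/
def Inverts {G : Type*} [Group G] (t : G) (H : Subgroup G) : Prop :=
  ∀ x ∈ H, t * x * t⁻¹ = x⁻¹

/-- adjacency on Sylow 3-subgroups: distinct and inverted by a common involution -/
def Adj {G : Type*} [Group G] (R R' : Sylow 3 G) : Prop :=
  R ≠ R' ∧ ∃ t : G, orderOf t = 2 ∧ Inverts t (R : Subgroup G) ∧ Inverts t (R' : Subgroup G)

/-- standing facts about a simple group of order 7920 -/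
structure Base (G : Type*) [Group G] : Prop where
  simple : IsSimpleGroup G
  card : Nat.card G = 7920
  h48 : ∀ t : G, orderOf t = 2 → Nat.card (centralizer ({t} : Set G)) = 48
  hconj : ∀ s t : G, orderOf s = 2 → orderOf t = 2 → ∃ g : G, g * s * g⁻¹ = t
  hsq : ∀ t : G, orderOf t = 2 → ∃ v : G, v ^ 2 = t
  h5 : ∀ y : G, orderOf y = 5 → Nat.card (centralizer ({y} : Set G)) = 5
  h11 : ∀ x : G, orderOf x = 11 → Nat.card (centralizer ({x} : Set G)) = 11
  h144 : ∀ R : Sylow 3 G, Nat.card (normalizer ((R : Subgroup G) : Set G)) = 144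

/-- the 3-local facts -/
structure Loc (G : Type*) [Group G] : Prop where
  card3 : ∀ R : Sylow 3 G, Nat.card (R : Subgroup G) = 9
  comm : ∀ R : Sylow 3 G, ∀ x ∈ (R : Subgroup G), ∀ y ∈ (R : Subgroup G), x * y = y * x
  cent : ∀ R : Sylow 3 G, ∀ g : G, g ∈ centralizer ((R : Subgroup G) : Set G) → g ∈ (R : Subgroup G)
  n55 : Nat.card (Sylow 3 G) = 55
  exp3 : ∀ R : Sylow 3 G, ∀ x ∈ (R : Subgroup G), x ^ 3 = 1
  exInv : ∀ R : Sylow 3 G, ∃ t : G, orderOf t = 2 ∧ Inverts t (R : Subgroup G)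
  ti : ∀ R R' : Sylow 3 G, R ≠ R' → ∀ x : G, x ∈ (R : Subgroup G) → x ∈ (R' : Subgroup G) → x = 1
  c18 : ∀ z : G, orderOf z = 3 → Nat.card (centralizer ({z} : Set G)) = 18
  three : ∀ t : G, orderOf t = 2 → Nat.card {R : Sylow 3 G // Inverts t (R : Subgroup G)} = 3
  seven : ∀ t : G, orderOf t = 2 →
    Nat.card {R : Sylow 3 G // t ∈ normalizer ((R : Subgroup G) : Set G)} = 7

/-- an involution `t` and the three Sylow 3-subgroups it inverts -/
structure Tri {G : Type*} [Group G] (t : G) (R R2 R3 : Sylow 3 G) : Prop where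
  ht : orderOf t = 2
  i1 : Inverts t (R : Subgroup G)
  i2 : Inverts t (R2 : Subgroup G)
  i3 : Inverts t (R3 : Subgroup G)
  ne12 : R ≠ R2
  ne13 : R ≠ R3
  ne23 : R2 ≠ R3

/-- the configuration facts around a triangle: `O = N(R) ⊓ N(R2)` (a quaternion group of order 8 in `M₁₁`) -/
structure Conf {G : Type*} [Group G] (t : G) (R R2 R3 : Sylow 3 G) : Prop where
  cS : Nat.card (normalizer ((R : Subgroup G) : Set G) ⊓ centralizer ({t} : Set G) : Subgroup G) = 16
  cO : Nat.card (normalizer ((R : Subgroup G) : Set G) ⊓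
    normalizer ((R2 : Subgroup G) : Set G) : Subgroup G) = 8
  Ot : ∀ o : G, o ∈ normalizer ((R : Subgroup G) : Set G) → o ∈ normalizer ((R2 : Subgroup G) : Set G) →
    o * t = t * o ∧ o ∈ normalizer ((R3 : Subgroup G) : Set G)
  Oreg : ∀ o : G, o ∈ normalizer ((R : Subgroup G) : Set G) → o ∈ normalizer ((R2 : Subgroup G) : Set G) →
    ∀ r ∈ (R : Subgroup G), r ≠ 1 → o * r * o⁻¹ = r → o = 1
  sw23 : ∃ s : G, s ∈ normalizer ((R : Subgroup G) : Set G) ∧ s * t = t * s ∧ s • R2 = R3 ∧ s • R3 = R2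
  sw12 : ∃ g : G, g * t = t * g ∧ g • R = R2 ∧ g • R2 = R ∧ g • R3 = R3

/-- the output of the local analysis: a subgroup `M` of order 720 with a chain of point stabilizers
`N0 = M ⊓ sMs⁻¹` (order 72), `O = N0 ⊓ mN0m⁻¹` (order 8), `O ⊓ nOn⁻¹ = 1` (`m ∈ M`, `n ∈ N0`). -/
def Chain {G : Type*} [Group G] (M N0 O : Subgroup G) (s m n : G) : Prop :=
  Nat.card M = 720 ∧ Nat.card N0 = 72 ∧ Nat.card O = 8 ∧ m ∈ M ∧ n ∈ N0 ∧
  (∀ x : G, x ∈ N0 ↔ x ∈ M ∧ s⁻¹ * x * s ∈ M) ∧
  (∀ x : G, x ∈ O ↔ x ∈ N0 ∧ m⁻¹ * x * m ∈ N0) ∧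
  (∀ x : G, x ∈ O → n⁻¹ * x * n ∈ O → x = 1)

/-- `K ≤ Perm α` is sharply 4-transitive -/
def Sharp4 {α : Type*} (K : Subgroup (Equiv.Perm α)) : Prop :=
  MulAction.IsMultiplyPretransitive K α 4 ∧ ∀ x : Fin 4 ↪ α, MulAction.stabilizer K x = ⊥

end Cfsg.Agent.Helper7.M11U
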