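import Mathlib

set_option autoImplicit false

/-!
# S3793 (Shult–Gross) piece (COP) for helper31: a fixed point in an invariant coset
-/

namespace Cfsg.Agent.Helper7.SG

/-- (COP) coprime action, fixed point in an invariant coset: `y` a `p`-element normalising the finite
`p'`-subgroup `R`, the coset `u R` is `y`-invariant; then some `u r` is centralised by `y`. -/
theorem sg_coset_fixed {G : Type*} [Group G] {p k : ℕ} (hp : p.Prime) (R : Subgroup G) [Finite R]
    (hpR : ¬ p ∣ Nat.card R) (y u : G) (hy : y ^ p ^ k = 1) (hyR : ∀ r ∈ R, y * r * y⁻¹ ∈ R)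
    (hu : u⁻¹ * (y * u * y⁻¹) ∈ R) : ∃ r ∈ R, y * (u * r) * y⁻¹ = u * r := by
  classical
  have : Fact p.Prime := ⟨hp⟩
  let _ : Fintype R := Fintype.ofFinite R
  -- the self-map of `R`
  have hmem : ∀ r : R, u⁻¹ * (y * (u * (r : G)) * y⁻¹) ∈ R := by
    intro r
    have h1 : u⁻¹ * (y * (u * (r : G)) * y⁻¹) = (u⁻¹ * (y * u * y⁻¹)) * (y * (r : G) * y⁻¹) := by
      group
    rw [h1]
    exact R.mul_mem hu (hyR r r.2)
  let f : Function.End R := fun r => ⟨u⁻¹ * (y * (u * (r : G)) * y⁻¹), hmem r⟩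
  have hpow : ∀ (j : ℕ) (r : R), (((f ^ j) r : R) : G) = u⁻¹ * (y ^ j * (u * (r : G)) * (y ^ j)⁻¹) := by
    intro j
    induction j with
    | zero =>
      intro r
      rw [pow_zero, pow_zero]
      change (r : G) = _
      group
    | succ j ih =>
      intro r
      rw [pow_succ']
      change ((f ((f ^ j) r) : R) : G) = _
      change u⁻¹ * (y * (u * (((f ^ j) r : R) : G)) * y⁻¹) = _
      rw [ih r, pow_succ']
      group
  have hf : f ^ p ^ k = 1 := by
    funext r
    apply Subtype.ext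
    rw [hpow (p ^ k) r, hy]
    change _ = (r : G)
    group
  have hmod := Equiv.Perm.card_fixedPoints_modEq (f := f) (p := p) (n := k) hf
  have hne : Fintype.card (Function.fixedPoints f) ≠ 0 := by
    intro h0
    rw [h0] at hmod
    have : p ∣ Fintype.card R := (Nat.modEq_zero_iff_dvd).mp hmod
    rw [Nat.card_eq_fintype_card] at hpR
    exact hpR this
  obtain ⟨⟨r, hr⟩⟩ := Fintype.card_pos_iff.mp (Nat.pos_of_ne_zero hne)
  refine ⟨(r : G), r.2, ?_⟩
  have h2 : ((f r : R) : G) = (r : G) := congrArg Subtype.val hr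
  change u⁻¹ * (y * (u * (r : G)) * y⁻¹) = (r : G) at h2
  calc y * (u * (r : G)) * y⁻¹ = u * (u⁻¹ * (y * (u * (r : G)) * y⁻¹)) := by group
    _ = u * (r : G) := by rw [h2]

end Cfsg.Agent.Helper7.SG
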