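import Mathlib

/-!
# M11 is determined by its order and nse (S3592): shared definition (helper7 lemma server "NSE")
-/

set_option autoImplicit false

namespace Cfsg.Agent.Helper7.NSE

/-- the number of elements of order `n` -/
noncomputable def sn (G : Type*) [Group G] (n : ℕ) : ℕ := Nat.card {g : G // orderOf g = n}

end Cfsg.Agent.Helper7.NSE
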