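import Mathlib

/-!
# Local analysis of a simple group of order 7920 (S0435 / S0434): shared definitions

`inv H`  : the number of involutions of `G` lying in the subgroup `H`.
`cls t`  : the size of the conjugacy class of `t`.
`Facts G`: the basic Sylow facts about a simple group of order 7920.
-/

set_option autoImplicit false

namespace Cfsg.Agent.Helper7.M11LA

/-- the number of involutions of `G` lying in `H` -/
noncomputable def inv {G : Type*} [Group G] (H : Subgroup G) : ℕ :=
  Nat.card {t : G // orderOf t = 2 ∧ t ∈ H}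

/-- the size of the conjugacy class of `t` -/
noncomputable def cls {G : Type*} [Group G] (t : G) : ℕ :=
  Nat.card {s : G // IsConj t s}

/-- Case I structure of `N(P)` (`P` of order 5, `|N(P)| = 20`, `C(P) = P`): an element `f` of order 4 in `N(P)`,
exactly five involutions in `N(P)`, all of them `P`-conjugate to `f ^ 2` and inverting `P`. -/
def NPI {G : Type*} [Group G] (P : Subgroup G) : Prop :=
  ∃ f : G, f ∈ Subgroup.normalizer (P : Set G) ∧ orderOf f = 4 ∧
    inv (Subgroup.normalizer (P : Set G)) = 5 ∧
    ∀ s : G, s ∈ Subgroup.normalizer (P : Set G) → orderOf s = 2 →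
      (∃ p ∈ P, p * f ^ 2 * p⁻¹ = s) ∧ ∀ y ∈ P, s * y * s⁻¹ = y⁻¹

/-- Basic Sylow facts about a simple group of order 7920. -/
structure Facts (G : Type*) [Group G] : Prop where
  simple : IsSimpleGroup G
  card : Nat.card G = 7920
  nq : ∀ Q : Sylow 11 G, Nat.card (Subgroup.normalizer ((Q : Subgroup G) : Set G)) = 55
  cq : ∀ Q : Sylow 11 G, Nat.card (Subgroup.centralizer ((Q : Subgroup G) : Set G)) = 11
  np : ∀ P : Sylow 5 G, Nat.card (Subgroup.normalizer ((P : Subgroup G) : Set G)) = 20
  phi : ∀ P : Sylow 5 G, Nat.card {Q : Sylow 11 G //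
    (P : Subgroup G) ≤ Subgroup.normalizer ((Q : Subgroup G) : Set G)} = 4
  td : ∀ H : Subgroup G, (Nat.card H).Coprime 55 → Nat.card H ∣ 144

end Cfsg.Agent.Helper7.M11LA
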