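import Mathlib
import Cfsg.Agent.Lib.Helper7.M11LADefs
import Cfsg.Agent.Lib.Helper24.M11LAK3
import Cfsg.Agent.Lib.Helper24.M11LAK9
import Cfsg.Agent.Lib.Helper42.M11LAK2
import Cfsg.Agent.Lib.Helper42.M11LAK4b
import Cfsg.Agent.Lib.Helper49.M11LAK1
import Cfsg.Agent.Lib.Helper49.M11LAK15
import Cfsg.Agent.Lib.Helper50.M11LAK16
import Cfsg.Agent.Lib.Helper50.M11LAK4a
import Cfsg.Agent.Lib.Helper65.M11LAK13
import Cfsg.Agent.Lib.Helper65.M11LAK14
import Cfsg.Agent.Lib.Helper69.M11LAK11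
import Cfsg.Agent.Lib.Helper69.M11LAK12
import Cfsg.Agent.Lib.Helper95.M11LAK5
import Cfsg.Agent.Lib.Helper77.M11LAK10
import Cfsg.Agent.Lib.Helper77.M11LAK6
import Cfsg.Agent.Lib.Helper9.M11LAK7
import Cfsg.Agent.Lib.Helper90.M11LAK8

/-!
# M11LA: the delivered pieces, restated verbatim in one namespace (glue for S0435)
-/

set_option autoImplicit false

namespace Cfsg.Agent.Helper7.M11LA

open Subgroup

variable {G : Type*} [Group G] [Finite G]

theorem n11_ne_twelve [IsSimpleGroup G] (hord : Nat.card G = 7920) :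
    Nat.card (Sylow 11 G) ≠ 12 := 
  Cfsg.Agent.Helper49.M11LA.n11_ne_twelve hord

theorem sylow11_facts [IsSimpleGroup G] (hord : Nat.card G = 7920)
    (h144 : Nat.card (Sylow 11 G) = 144) (Q : Sylow 11 G) :
    Nat.card (normalizer ((Q : Subgroup G) : Set G)) = 55 ∧
      Nat.card (centralizer ((Q : Subgroup G) : Set G)) = 11 := 
  Cfsg.Agent.Helper42.M11LA.sylow11_facts hord h144 Q

theorem td (hord : Nat.card G = 7920)
    (hN : ∀ Q : Sylow 11 G, Nat.card (normalizer ((Q : Subgroup G) : Set G)) = 55)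
    (H : Subgroup G) (hcop : (Nat.card H).Coprime 55) : Nat.card H ∣ 144 := 
  Cfsg.Agent.Helper24.M11LA.td hord hN H hcop

theorem phi_count (hord : Nat.card G = 7920)
    (hN : ∀ Q : Sylow 11 G, Nat.card (normalizer ((Q : Subgroup G) : Set G)) = 55)
    (hC : ∀ Q : Sylow 11 G, Nat.card (centralizer ((Q : Subgroup G) : Set G)) = 11)
    (P : Sylow 5 G) :
    Nat.card (Sylow 5 G) * Nat.card {Q : Sylow 11 G //
        (P : Subgroup G) ≤ normalizer ((Q : Subgroup G) : Set G)} = 1584 ∧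
      Nat.card {Q : Sylow 11 G // (P : Subgroup G) ≤ normalizer ((Q : Subgroup G) : Set G)} ≤ 14 := 
  Cfsg.Agent.Helper50.M11LA.phi_count hord hN hC P

theorem np_card [IsSimpleGroup G] (hord : Nat.card G = 7920) (P : Sylow 5 G)
    (hphi : ∃ f : ℕ, Nat.card (Sylow 5 G) * f = 1584 ∧ f ≤ 14) :
    Nat.card (normalizer ((P : Subgroup G) : Set G)) = 20 := 
  Cfsg.Agent.Helper42.M11LA.np_card hord P hphi

theorem cls_mul_card_centralizer (t : G) :
    cls t * Nat.card (centralizer ({t} : Set G)) = Nat.card G := 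
  Cfsg.Agent.Helper77.M11LA.cls_mul_card_centralizer t

theorem card_centralizer_eq_of_isConj {a b : G} (h : IsConj a b) :
    Nat.card (centralizer ({a} : Set G)) = Nat.card (centralizer ({b} : Set G)) ∧ cls a = cls b := 
  Cfsg.Agent.Helper77.M11LA.card_centralizer_eq_of_isConj h

theorem cls_le_inv (a : G) (ha : orderOf a = 2) : cls a ≤ inv (⊤ : Subgroup G) := 
  Cfsg.Agent.Helper77.M11LA.cls_le_inv a ha

theorem cls_add_le_inv (a b : G) (ha : orderOf a = 2) (hb : orderOf b = 2) (hab : ¬ IsConj a b) :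
    cls a + cls b ≤ inv (⊤ : Subgroup G) := 
  Cfsg.Agent.Helper77.M11LA.cls_add_le_inv a b ha hb hab

theorem cls_add_add_le_inv (a b c : G) (ha : orderOf a = 2) (hb : orderOf b = 2) (hc : orderOf c = 2)
    (hab : ¬ IsConj a b) (hac : ¬ IsConj a c) (hbc : ¬ IsConj b c) :
    cls a + cls b + cls c ≤ inv (⊤ : Subgroup G) := 
  Cfsg.Agent.Helper77.M11LA.cls_add_add_le_inv a b c ha hb hc hab hac hbc

theorem isConj_of_cls_eq_inv (a : G) (ha : orderOf a = 2) (h : cls a = inv (⊤ : Subgroup G))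
    (x : G) (hx : orderOf x = 2) : IsConj a x := 
  Cfsg.Agent.Helper77.M11LA.isConj_of_cls_eq_inv a ha h x hx

theorem tf (c Y : Set G) (m : ℕ) (h1 : (1 : G) ∉ Y)
    (h : ∀ y ∈ Y, m ≤ Nat.card {s : G // s ∈ c ∧ s * y ∈ c}) :
    Nat.card c + m * Nat.card Y ≤ Nat.card c ^ 2 := 
  Cfsg.Agent.Helper9.M11LA.tf c Y m h1 h

theorem lemmaT (h16 : ∀ S : Sylow 2 G, Nat.card S = 16) (f : G) (hf : orderOf f = 4) (m : ℕ)
    (hm : Odd m) (hC : Nat.card (centralizer ({f ^ 2} : Set G)) = 8 * m) : False := 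
  Cfsg.Agent.Helper90.M11LA.lemmaT h16 f hf m hm hC

theorem excl720 [IsSimpleGroup G] (hord : Nat.card G = 7920) (z y : G) (hz : orderOf z = 2)
    (hy : orderOf y = 5) (hzy : Commute z y)
    (hCy : Nat.card (centralizer ({y} : Set G)) = 10)
    (hCz : Nat.card (centralizer ({z} : Set G)) = 720) : False := 
  Cfsg.Agent.Helper24.M11LA.excl720 hord z y hz hy hzy hCy hCz

theorem caseII_cz (F : Facts G) (z y : G) (hz : orderOf z = 2) (hy : orderOf y = 5)
    (hzy : Commute z y) :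
    Nat.card (centralizer ({y} : Set G)) = 10 ∧
      (Nat.card (centralizer ({z} : Set G)) = 20 ∨ Nat.card (centralizer ({z} : Set G)) = 120 ∨
        Nat.card (centralizer ({z} : Set G)) = 720) := 
  Cfsg.Agent.Helper77.M11LA.caseII_cz F z y hz hy hzy

theorem caseI_np (P : Subgroup G) (hP : Nat.card P = 5)
    (hN : Nat.card (normalizer (P : Set G)) = 20)
    (hI : ∀ z y : G, orderOf z = 2 → orderOf y = 5 → ¬ Commute z y) : NPI P := 
  Cfsg.Agent.Helper69.M11LA.caseI_np P hP hN hI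

theorem card_orderOf_five (F : Facts G) : Nat.card {y : G // orderOf y = 5} = 1584 := 
  Cfsg.Agent.Helper65.M11LA.card_orderOf_five F

theorem card_orderOf_ten (F : Facts G) (z y : G) (hz : orderOf z = 2) (hy : orderOf y = 5)
    (hzy : Commute z y) : Nat.card {g : G // orderOf g = 10} = 1584 := 
  Cfsg.Agent.Helper65.M11LA.card_orderOf_ten F z y hz hy hzy

theorem caseI_pairs (F : Facts G) (hnp : ∀ P : Sylow 5 G, NPI (P : Subgroup G))
    (P₀ : Sylow 5 G) (t₀ : G) (ht₀ : orderOf t₀ = 2)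
    (ht₀P : t₀ ∈ normalizer ((P₀ : Subgroup G) : Set G)) (y : G) (hy : orderOf y = 5) :
    5 ≤ Nat.card {s : G // s ∈ {s : G | IsConj t₀ s} ∧ s * y ∈ {s : G | IsConj t₀ s}} := 
  Cfsg.Agent.Helper49.M11LA.caseI_pairs F hnp P₀ t₀ ht₀ ht₀P y hy

theorem caseIIa_classes (F : Facts G) (z y u : G) (hz : orderOf z = 2) (hy : orderOf y = 5)
    (hzy : Commute z y) (hu : orderOf u = 2) (huz : u ≠ z) (hcu : Commute u z)
    (hinv : u * y * u⁻¹ = y⁻¹)
    (he5 : Nat.card {y : G // orderOf y = 5} = 1584)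
    (he10 : Nat.card {g : G // orderOf g = 10} = 1584) :
    (¬ IsConj u (u * z) → 90 ≤ cls u ∧ 90 ≤ cls (u * z)) ∧ (IsConj u (u * z) → 179 ≤ cls u) := 
  Cfsg.Agent.Helper50.M11LA.caseIIa_classes F z y u hz hy hzy hu huz hcu hinv he5 he10

theorem inv_bound (F : Facts G) (P : Sylow 5 G) :
    inv (⊤ : Subgroup G) ≤ 110 + 11 * inv (normalizer ((P : Subgroup G) : Set G)) :=
  Cfsg.Agent.Helper95.M11LA.inv_bound F P

theorem caseII_np (F : Facts G) (z y : G) (hz : orderOf z = 2) (hy : orderOf y = 5)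
    (hzy : Commute z y) (P : Sylow 5 G) (hyP : y ∈ (P : Subgroup G)) :
    (∃ f : G, orderOf f = 4 ∧ f ^ 2 = z ∧ inv (normalizer ((P : Subgroup G) : Set G)) = 1) ∨
    (∃ u : G, orderOf u = 2 ∧ u ≠ z ∧ Commute u z ∧ u * y * u⁻¹ = y⁻¹ ∧
      inv (normalizer ((P : Subgroup G) : Set G)) = 11) :=
  Cfsg.Agent.Helper69.M11LA.caseII_np F z y hz hy hzy P hyP

end Cfsg.Agent.Helper7.M11LA
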