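import Mathlib
import Cfsg.Agent.Lib.Helper7.M11LADefs
import Cfsg.Agent.Lib.Helper7.M11LAGlue
import Cfsg.Agent.S0215
import Cfsg.Agent.Lib.Helper83.Ord7920Main

/-!
# Assembly for S0435 (simple group of order 7920: involution centralizers have order 48)
-/

set_option autoImplicit false
set_option linter.style.haveILetI false

namespace Cfsg.Agent.Helper7.M11LA

open Subgroup

variable {G : Type*} [Group G] [Finite G]

theorem card_sylow2 (hord : Nat.card G = 7920) (S : Sylow 2 G) : Nat.card S = 16 := by
  haveI : Fact (Nat.Prime 2) := ⟨Nat.prime_two⟩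
  rw [Sylow.card_eq_multiplicity, hord]
  have : (7920 : ℕ).factorization 2 = 4 := by
    have h : (7920 : ℕ) = 2 ^ 4 * 495 := by norm_num
    rw [h, Nat.factorization_mul (by norm_num) (by norm_num), Nat.Prime.factorization_pow Nat.prime_two]
    simp
    exact Nat.factorization_eq_zero_of_not_dvd (by norm_num)
  rw [this]; norm_num

theorem card_sylow5 (hord : Nat.card G = 7920) (P : Sylow 5 G) : Nat.card (P : Subgroup G) = 5 := by
  haveI : Fact (Nat.Prime 5) := ⟨by norm_num⟩
  rw [Sylow.card_eq_multiplicity, hord]
  have : (7920 : ℕ).factorization 5 = 1 := by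
    have h : (7920 : ℕ) = 5 ^ 1 * 1584 := by norm_num
    rw [h, Nat.factorization_mul (by norm_num) (by norm_num), Nat.Prime.factorization_pow (by norm_num)]
    simp
    exact Nat.factorization_eq_zero_of_not_dvd (by norm_num)
  rw [this]; norm_num

theorem card_sylow11 (hord : Nat.card G = 7920) (P : Sylow 11 G) : Nat.card (P : Subgroup G) = 11 := by
  haveI : Fact (Nat.Prime 11) := ⟨by norm_num⟩
  rw [Sylow.card_eq_multiplicity, hord]
  have : (7920 : ℕ).factorization 11 = 1 := by
    have h : (7920 : ℕ) = 11 ^ 1 * 720 := by norm_num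
    rw [h, Nat.factorization_mul (by norm_num) (by norm_num), Nat.Prime.factorization_pow (by norm_num)]
    simp
    exact Nat.factorization_eq_zero_of_not_dvd (by norm_num)
  rw [this]; norm_num

/-- no element of order 11 commutes with an involution -/
theorem not_dvd_eleven (F : Facts G) (t : G) (ht : orderOf t = 2) :
    ¬ 11 ∣ Nat.card (centralizer ({t} : Set G)) := by
  intro h
  haveI : Fact (Nat.Prime 11) := ⟨by norm_num⟩
  obtain ⟨q, hq⟩ := exists_prime_orderOf_dvd_card' (G := centralizer ({t} : Set G)) 11 h
  have hq' : orderOf (q : G) = 11 := by rw [Subgroup.orderOf_coe]; exact hq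
  -- the subgroup generated by q is a 11-group, inside a Sylow 11-subgroup Q
  have hpg : IsPGroup 11 (zpowers (q : G)) := by
    apply IsPGroup.of_card (n := 1)
    rw [Nat.card_zpowers, hq']; norm_num
  obtain ⟨Q, hQ⟩ := hpg.exists_le_sylow
  have hQc : Nat.card (Q : Subgroup G) = 11 := card_sylow11 F.card Q
  have hzQ : zpowers (q : G) = (Q : Subgroup G) := by
    apply Subgroup.eq_of_le_of_card_ge hQ
    rw [hQc, Nat.card_zpowers, hq']
  -- t centralizes Q
  have htQ : t ∈ centralizer ((Q : Subgroup G) : Set G) := by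
    rw [← hzQ, Subgroup.mem_centralizer_iff]
    intro g hg
    obtain ⟨k, rfl⟩ := Subgroup.mem_zpowers_iff.1 hg
    have hqt : (q : G) * t = t * (q : G) := by
      have := q.2
      rw [Subgroup.mem_centralizer_iff] at this
      exact (this t (Set.mem_singleton t)).symm
    exact ((Commute.zpow_left (show Commute (q : G) t from hqt) k)).eq
  have h2 : orderOf t ∣ Nat.card (centralizer ((Q : Subgroup G) : Set G)) := by
    have := orderOf_dvd_natCard (⟨t, htQ⟩ : centralizer ((Q : Subgroup G) : Set G))
    rwa [Subgroup.orderOf_mk] at this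
  rw [ht, F.cq Q] at h2
  omega

/-- **Case I**: no involution commutes with an element of order 5. -/
theorem caseI (F : Facts G)
    (hI : ∀ z y : G, orderOf z = 2 → orderOf y = 5 → ¬ Commute z y)
    (x : G) (hx : orderOf x = 2) : Nat.card (centralizer ({x} : Set G)) = 48 := by
  haveI := F.simple
  have hord := F.card
  haveI : Fact (Nat.Prime 5) := ⟨by norm_num⟩
  obtain ⟨P₀⟩ : Nonempty (Sylow 5 G) := inferInstance
  have hnp : ∀ P : Sylow 5 G, NPI (P : Subgroup G) :=
    fun P => caseI_np _ (card_sylow5 hord P) (F.np P) hI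
  obtain ⟨f, hfN, hf4, hinv5, hs⟩ := hnp P₀
  have ht₀ : orderOf (f ^ 2) = 2 := by
    rw [orderOf_pow' f (by norm_num), hf4]; norm_num
  have ht₀N : f ^ 2 ∈ normalizer ((P₀ : Subgroup G) : Set G) := pow_mem hfN 2
  -- at most 165 involutions
  have hi : inv (⊤ : Subgroup G) ≤ 165 := by
    have := inv_bound F P₀
    rw [hinv5] at this
    omega
  -- the class of `f ^ 2` has at least 90 elements
  have h90 : 90 ≤ cls (f ^ 2) := by
    have h := tf {s : G | IsConj (f ^ 2) s} {y : G | orderOf y = 5} 5
      (by simp [orderOf_one])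
      (fun y hy => caseI_pairs F hnp P₀ (f ^ 2) ht₀ ht₀N y hy)
    have he5 : Nat.card {y : G | orderOf y = 5} = 1584 := card_orderOf_five F
    have h' : cls (f ^ 2) + 5 * Nat.card {y : G | orderOf y = 5} ≤ cls (f ^ 2) ^ 2 := h
    rw [he5] at h'
    by_contra hlt
    have hlt' : cls (f ^ 2) ≤ 89 := by omega
    generalize cls (f ^ 2) = k at h' hlt'
    have h1 : k ^ 2 ≤ 89 * k := by nlinarith
    omega
  have hle : cls (f ^ 2) ≤ 165 := (cls_le_inv _ ht₀).trans hi
  have hmul := cls_mul_card_centralizer (f ^ 2)
  rw [hord] at hmul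
  -- the centralizer has order prime to 55
  have h11 := not_dvd_eleven F (f ^ 2) ht₀
  have h5 : ¬ 5 ∣ Nat.card (centralizer ({f ^ 2} : Set G)) := by
    intro h
    obtain ⟨y, hy⟩ := exists_prime_orderOf_dvd_card' (G := centralizer ({f ^ 2} : Set G)) 5 h
    have hy' : orderOf (y : G) = 5 := by rw [Subgroup.orderOf_coe]; exact hy
    apply hI (f ^ 2) y ht₀ hy'
    have := y.2
    rw [Subgroup.mem_centralizer_iff] at this
    exact this (f ^ 2) (Set.mem_singleton _)
  have hcop : (Nat.card (centralizer ({f ^ 2} : Set G))).Coprime 55 := by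
    have : (55 : ℕ) = 5 * 11 := by norm_num
    rw [this]
    apply Nat.Coprime.mul_right
    · exact (Nat.Coprime.symm ((Nat.Prime.coprime_iff_not_dvd (by norm_num)).2 h5))
    · exact (Nat.Coprime.symm ((Nat.Prime.coprime_iff_not_dvd (by norm_num)).2 h11))
  have hdvd := F.td _ hcop
  -- so the order is 48 or 72
  have hC : Nat.card (centralizer ({f ^ 2} : Set G)) = 48 ∨
      Nat.card (centralizer ({f ^ 2} : Set G)) = 72 := by
    generalize Nat.card (centralizer ({f ^ 2} : Set G)) = c at *
    generalize cls (f ^ 2) = k at *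
    have hc144 : c ≤ 144 := Nat.le_of_dvd (by norm_num) hdvd
    have hc48 : 48 ≤ c := by
      by_contra hlt
      have : k * c ≤ 165 * 47 := Nat.mul_le_mul hle (by omega)
      omega
    have hc88 : c ≤ 88 := by
      by_contra hlt
      have : 90 * 89 ≤ k * c := Nat.mul_le_mul h90 (by omega)
      omega
    interval_cases c <;> simp_all
  rcases hC with hC | hC
  · -- all involutions are conjugate to `f ^ 2`
    rw [hC] at hmul
    have hk : cls (f ^ 2) = 165 := by omega
    have hall : cls (f ^ 2) = inv (⊤ : Subgroup G) := le_antisymm (cls_le_inv _ ht₀) (hk ▸ hi)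
    have hconj := isConj_of_cls_eq_inv (f ^ 2) ht₀ hall x hx
    rw [← (card_centralizer_eq_of_isConj hconj).1, hC]
  · exact (lemmaT (fun S => card_sylow2 hord S) f hf4 9 (by decide) (by rw [hC])).elim

/-- **Case II**: an involution commuting with an element of order 5 is impossible. -/
theorem caseII (F : Facts G) (z y : G) (hz : orderOf z = 2) (hy : orderOf y = 5)
    (hzy : Commute z y) : False := by
  haveI := F.simple
  have hord := F.card
  haveI : Fact (Nat.Prime 5) := ⟨by norm_num⟩
  obtain ⟨hCy, hCz⟩ := caseII_cz F z y hz hy hzy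
  -- the Sylow 5-subgroup containing `y`
  have hpg : IsPGroup 5 (zpowers y) := by
    apply IsPGroup.of_card (n := 1)
    rw [Nat.card_zpowers, hy]; norm_num
  obtain ⟨P, hP⟩ := hpg.exists_le_sylow
  have hyP : y ∈ (P : Subgroup G) := hP (Subgroup.mem_zpowers y)
  have hmul := cls_mul_card_centralizer z
  rw [hord] at hmul
  have hb := inv_bound F P
  have hzle := cls_le_inv z hz
  have h16 := fun S : Sylow 2 G => card_sylow2 hord S
  rcases caseII_np F z y hz hy hzy P hyP with ⟨f, hf4, hfz, hinv1⟩ | ⟨u, hu, huz, hcu, hinvy, hinv11⟩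
  · -- cyclic case
    rw [hinv1] at hb
    have hk : cls z ≤ 121 := by omega
    rcases hCz with h | h | h
    · rw [h] at hmul; omega
    · exact lemmaT h16 f hf4 15 (by decide) (by rw [hfz, h])
    · exact excl720 hord z y hz hy hzy hCy h
  · -- four-group case
    rw [hinv11] at hb
    have hk : cls z ≤ 231 := by omega
    have hcz : cls z = 66 := by
      rcases hCz with h | h | h
      · rw [h] at hmul; omega
      · rw [h] at hmul; omega
      · exact (excl720 hord z y hz hy hzy hCy h).elim
    have he5 := card_orderOf_five F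
    have he10 := card_orderOf_ten F z y hz hy hzy
    obtain ⟨hA, hB⟩ := caseIIa_classes F z y u hz hy hzy hu huz hcu hinvy he5 he10
    -- `u * z` is an involution
    have huz2 : orderOf (u * z) = 2 := by
      have h1 : (u * z) ^ 2 = 1 := by
        have hu2 : u ^ 2 = 1 := by rw [← hu]; exact pow_orderOf_eq_one u
        have hz2 : z ^ 2 = 1 := by rw [← hz]; exact pow_orderOf_eq_one z
        rw [hcu.mul_pow, hu2, hz2, one_mul]
      have h2 : u * z ≠ 1 := by
        intro h
        apply huz
        have hu2 : u * u = 1 := by rw [← pow_two, ← hu, pow_orderOf_eq_one]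
        have : u * z = u * u := by rw [h, hu2]
        exact (mul_left_cancel this).symm
      exact orderOf_eq_prime h1 h2
    by_cases hconj : IsConj u (u * z)
    · have h179 := hB hconj
      have hnz : ¬ IsConj z u := by
        intro h
        have := (card_centralizer_eq_of_isConj h).2
        omega
      have := cls_add_le_inv z u hz hu hnz
      omega
    · obtain ⟨h90u, h90w⟩ := hA hconj
      have hnzu : ¬ IsConj z u := by
        intro h
        have := (card_centralizer_eq_of_isConj h).2
        omega
      have hnzw : ¬ IsConj z (u * z) := by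
        intro h
        have := (card_centralizer_eq_of_isConj h).2
        omega
      have := cls_add_add_le_inv z u (u * z) hz hu huz2 hnzu hnzw hconj
      omega


/-- The basic Sylow facts of a simple group of order 7920. -/
theorem facts [IsSimpleGroup G] (hord : Nat.card G = 7920) : Facts G := by
  haveI : Fact (Nat.Prime 11) := ⟨by norm_num⟩
  haveI : Fact (Nat.Prime 5) := ⟨by norm_num⟩
  have h144 : Nat.card (Sylow 11 G) = 144 := by
    rcases Cfsg.Agent.Helper83.Ord7920.card_sylow_mem hord with h | h | h | h
    · exfalso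
      obtain ⟨Q⟩ : Nonempty (Sylow 11 G) := inferInstance
      haveI : Subsingleton (Sylow 11 G) := (Nat.card_eq_one_iff_unique.1 h).1
      have hnorm : (Q : Subgroup G).Normal := Sylow.normal_of_subsingleton Q
      have hQ := card_sylow11 hord Q
      rcases hnorm.eq_bot_or_eq_top with hb | ht
      · rw [hb] at hQ; simp at hQ
      · rw [ht, Subgroup.card_top, hord] at hQ; omega
    · exact absurd h (n11_ne_twelve hord)
    · exact absurd h (Cfsg.Agent.Helper83.Ord7920.card_sylow_ne_45 hord
        (fun H _ _ S u hu huS hiso => Cfsg.Agent.S0215.result S u hu huS hiso))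
    · exact h
  have hnq : ∀ Q : Sylow 11 G, Nat.card (normalizer ((Q : Subgroup G) : Set G)) = 55 :=
    fun Q => (sylow11_facts hord h144 Q).1
  have hcq : ∀ Q : Sylow 11 G, Nat.card (centralizer ((Q : Subgroup G) : Set G)) = 11 :=
    fun Q => (sylow11_facts hord h144 Q).2
  obtain ⟨P₀⟩ : Nonempty (Sylow 5 G) := inferInstance
  have hphi0 := phi_count hord hnq hcq P₀
  have hnp : ∀ P : Sylow 5 G, Nat.card (normalizer ((P : Subgroup G) : Set G)) = 20 :=
    fun P => np_card hord P ⟨_, hphi0.1, hphi0.2⟩
  have hn5 : Nat.card (Sylow 5 G) = 396 := by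
    have h1 : Nat.card (Sylow 5 G) = (normalizer ((P₀ : Subgroup G) : Set G)).index :=
      P₀.card_eq_index_normalizer
    have h2 := (normalizer ((P₀ : Subgroup G) : Set G)).card_mul_index
    rw [hnp P₀, hord] at h2
    omega
  refine ⟨inferInstance, hord, hnq, hcq, hnp, fun P => ?_, fun H hcop => td hord hnq H hcop⟩
  have h := (phi_count hord hnq hcq P).1
  rw [hn5] at h
  omega

/-- **S0435**: in a simple group of order 7920 every involution centralizer has order 48. -/
theorem card_centralizer_involution [IsSimpleGroup G] (hord : Nat.card G = 7920)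
    (x : G) (hx : orderOf x = 2) : Nat.card (centralizer ({x} : Set G)) = 48 := by
  have F := facts (G := G) hord
  by_cases h : ∃ z y : G, orderOf z = 2 ∧ orderOf y = 5 ∧ Commute z y
  · obtain ⟨z, y, hz, hy, hzy⟩ := h
    exact (caseII F z y hz hy hzy).elim
  · exact caseI F (fun z y hz hy hzy => h ⟨z, y, hz, hy, hzy⟩) x hx

end Cfsg.Agent.Helper7.M11LA
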