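import Mathlib
import Cfsg.Agent.Lib.Helper7.M11UDefs
import Cfsg.Agent.Lib.Helper74.M11Main

/-!
# M11U piece (B0) `base_of_simple` (helper7, second seat): the standing facts about a simple group of order 7920.
-/

set_option autoImplicit false

namespace Cfsg.Agent.Helper7.M11UB

open Subgroup Cfsg.Agent.Helper7.M11U Cfsg.Agent.Helper7.M11LA Cfsg.Agent.Helper74.M11

variable {G : Type*} [Group G] [Finite G]

theorem base_of_simple (hs : IsSimpleGroup G) (hc : Nat.card G = 7920)
    (h144 : ∀ R : Sylow 3 G, Nat.card (normalizer ((R : Subgroup G) : Set G)) = 144) : Base G := by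
  haveI := hs
  have F := facts (G := G) hc
  haveI : Fact (Nat.Prime 5) := ⟨by norm_num⟩
  have hI : ∀ z y : G, orderOf z = 2 → orderOf y = 5 → ¬ Commute z y :=
    fun z y hz hy h => caseII F z y hz hy h
  obtain ⟨P₀⟩ : Nonempty (Sylow 5 G) := inferInstance
  obtain ⟨f, hfN, hf4, hinv5, hs'⟩ := caseI_np _ (card_sylow5 hc P₀) (F.np P₀) hI
  have ht0 : orderOf (f ^ 2) = 2 := by
    rw [orderOf_pow' f (by norm_num), hf4]
    norm_num
  have h48 := card_centralizer_involution hc (f ^ 2) ht0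
  have hcls := cls_mul_card_centralizer (f ^ 2)
  rw [h48, hc] at hcls
  have hi : M11LA.inv (⊤ : Subgroup G) ≤ 165 := by
    have := inv_bound F P₀
    rw [hinv5] at this
    omega
  have hle := cls_le_inv (f ^ 2) ht0
  have heq : cls (f ^ 2) = M11LA.inv (⊤ : Subgroup G) := by omega
  have hconj0 : ∀ t : G, orderOf t = 2 → ∃ c : G, c * (f ^ 2) * c⁻¹ = t := by
    intro t ht
    have hconj := isConj_of_cls_eq_inv (f ^ 2) ht0 heq t ht
    obtain ⟨c, hcj⟩ := isConj_iff.1 hconj
    exact ⟨c, hcj⟩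
  refine ⟨hs, hc, fun t ht => card_centralizer_involution hc t ht, ?_,
    fun t ht => hsq_of_facts hc t ht, fun y hy => h5c_of_facts F y hy,
    fun x hx => h11_of_facts F x hx, h144⟩
  intro s t hs2 ht2
  obtain ⟨a, ha⟩ := hconj0 s hs2
  obtain ⟨b, hb⟩ := hconj0 t ht2
  refine ⟨b * a⁻¹, ?_⟩
  rw [← ha, ← hb]
  group

end Cfsg.Agent.Helper7.M11UB
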