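import Cfsg.Agent.Lib.Helper7.Fast

set_option autoImplicit false

namespace Cfsg.Agent.Helper7
open Cfsg
open scoped Pointwise

/-! ### Tables of permutations -/

/-- Table of the identity. -/
def idTab : List ℕ := List.range 24

theorem tab_one : Tab 1 idTab := by
  unfold Tab; decide

/-- Table of a product. -/
def mulTab (l1 l2 : List ℕ) : List ℕ := l2.map fun x => l1.getD x 0

theorem mulTab_length (l1 l2 : List ℕ) : (mulTab l1 l2).length = l2.length := by
  simp [mulTab]

theorem Tab.mul {σ1 σ2 : Equiv.Perm GolayPt} {l1 l2 : List ℕ} (h1 : Tab σ1 l1) (h2 : Tab σ2 l2)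
    (hlen : l2.length = 24) : Tab (σ1 * σ2) (mulTab l1 l2) := by
  intro p
  have hp : idx p < l2.length := by rw [hlen]; exact idx_lt p
  have hp' : idx p < (mulTab l1 l2).length := by rw [mulTab_length]; exact hp
  have key : (mulTab l1 l2).getD (idx p) 0 = l1.getD (l2.getD (idx p) 0) 0 := by
    rw [List.getD_eq_getElem _ _ hp', List.getD_eq_getElem l2 _ hp]
    simp [mulTab]
  rw [key, Equiv.Perm.mul_apply, h1, h2]

theorem Tab.apply {σ : Equiv.Perm GolayPt} {l : List ℕ} (h : Tab σ l) (i : ℕ) (hi : i < 24) :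
    σ (pt i) = pt (l.getD i 0) := by
  apply idx_injective
  rw [h, idx_pt i hi, idx_pt _ (h.lt i hi)]

theorem Tab.fix {σ : Equiv.Perm GolayPt} {l : List ℕ} (h : Tab σ l) (i : ℕ) (hi : i < 24)
    (hl : l.getD i 0 = i) : σ (pt i) = pt i := by
  rw [h.apply i hi, hl]

/-- A table `l'` inverse to the table `l` of `σ` is a table of `σ⁻¹`. -/
theorem Tab.inv {σ : Equiv.Perm GolayPt} {l l' : List ℕ} (h : Tab σ l)
    (hinv : ∀ i < 24, l'.getD i 0 < 24 ∧ l.getD (l'.getD i 0) 0 = i) : Tab σ⁻¹ l' := by
  intro p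
  obtain ⟨h1, h2⟩ := hinv (idx p) (idx_lt p)
  have : σ (pt (l'.getD (idx p) 0)) = p := by
    rw [h.apply _ h1, h2, pt_idx]
  have h3 : σ⁻¹ p = pt (l'.getD (idx p) 0) := by
    rw [Equiv.Perm.inv_eq_iff_eq, this]
  rw [h3, idx_pt _ h1]

/-! ### Reachability and depth-first orbit certificates -/

/-- The set coded by `m` is the image of the set coded by `r` under an element of `H`. -/
def Reach (H : Subgroup (Equiv.Perm GolayPt)) (r m : ℕ) : Prop :=
  m < 2 ^ 24 ∧ ∃ g ∈ H, g • ofMask r = ofMask m

theorem Reach.refl (H : Subgroup (Equiv.Perm GolayPt)) (r : ℕ) (hr : r < 2 ^ 24) : Reach H r r :=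
  ⟨hr, 1, H.one_mem, one_smul _ _⟩

theorem Reach.step {H : Subgroup (Equiv.Perm GolayPt)} {r m : ℕ} (h : Reach H r m)
    {σ : Equiv.Perm GolayPt} {l : List ℕ} (hσ : σ ∈ H) (ht : Tab σ l) (hlen : l.length = 24) :
    Reach H r (pm l m) := by
  obtain ⟨_, g, hg, hgm⟩ := h
  refine ⟨?_, σ * g, H.mul_mem hσ hg, ?_⟩
  · rw [pm_eq l hlen]; exact permMask_lt ht _
  · rw [mul_smul, hgm, smul_ofMask ht, pm_eq l hlen]

/-- The generator tables are tables of elements of `H`. -/
def GoodTabs (H : Subgroup (Equiv.Perm GolayPt)) (tabs : List (List ℕ)) : Prop :=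
  ∀ l ∈ tabs, ∃ σ ∈ H, Tab σ l ∧ l.length = 24

theorem GoodTabs.getD {H : Subgroup (Equiv.Perm GolayPt)} {tabs : List (List ℕ)}
    (h : GoodTabs H tabs) (j : ℕ) : ∃ σ ∈ H, Tab σ (tabs.getD j idTab) ∧ (tabs.getD j idTab).length = 24 := by
  by_cases hj : j < tabs.length
  · rw [List.getD_eq_getElem _ _ hj]
    exact h _ (List.getElem_mem hj)
  · rw [List.getD_eq_default _ _ (by omega)]
    exact ⟨1, H.one_mem, tab_one, rfl⟩

/-- Depth-first traversal driven by a certificate: an entry `(k, j)` pops `k` masks off the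
stack and applies generator `j` to the top of the stack. Returns all masks produced. -/
def dfs (tabs : List (List ℕ)) (root : ℕ) : List (ℕ × ℕ) → List ℕ → List ℕ → List ℕ
  | [], _, out => out
  | (k, j) :: cs, stack, out =>
    dfs tabs root cs (pm (tabs.getD j idTab) ((stack.drop k).headD root) :: stack.drop k)
      (pm (tabs.getD j idTab) ((stack.drop k).headD root) :: out)

theorem dfs_reach {H : Subgroup (Equiv.Perm GolayPt)} {tabs : List (List ℕ)} (hT : GoodTabs H tabs)
    (root : ℕ) (hroot : root < 2 ^ 24) (cert : List (ℕ × ℕ)) (stack out : List ℕ)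
    (hs : ∀ m ∈ stack, Reach H root m) (ho : ∀ m ∈ out, Reach H root m) :
    ∀ m ∈ dfs tabs root cert stack out, Reach H root m := by
  induction cert generalizing stack out with
  | nil => exact ho
  | cons c cs ih =>
    obtain ⟨k, j⟩ := c
    rw [dfs]
    obtain ⟨σ, hσ, ht, hlen⟩ := hT.getD j
    have htop : Reach H root ((stack.drop k).headD root) := by
      cases hd : stack.drop k with
      | nil => exact Reach.refl H root hroot
      | cons a as =>
        apply hs
        apply List.mem_of_mem_drop (i := k)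
        rw [hd]
        exact List.mem_cons_self
    have hnew := htop.step hσ ht hlen
    apply ih
    · intro m hm
      rcases List.mem_cons.mp hm with rfl | hm
      · exact hnew
      · exact hs m (List.mem_of_mem_drop hm)
    · intro m hm
      rcases List.mem_cons.mp hm with rfl | hm
      · exact hnew
      · exact ho m hm

/-! ### Bitmaps of lists -/

/-- The number whose set bits are the keys of the members of a list. -/
def bitmapOf (key : ℕ → ℕ) : List ℕ → ℕ → ℕ
  | [], v => v
  | m :: ms, v => bitmapOf key ms (Nat.lor v (Nat.shiftLeft 1 (key m)))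

theorem testBit_bitmapOf (key : ℕ → ℕ) (l : List ℕ) (v a : ℕ)
    (h : (bitmapOf key l v).testBit a = true) : v.testBit a = true ∨ ∃ m ∈ l, key m = a := by
  induction l generalizing v with
  | nil => exact Or.inl h
  | cons m ms ih =>
    rw [bitmapOf] at h
    rcases ih _ h with h | ⟨m', hm', hk⟩
    · have h3 : Nat.lor v (Nat.shiftLeft 1 (key m)) = v ||| 2 ^ key m := by
        show v ||| 1 <<< key m = _
        rw [Nat.shiftLeft_eq, one_mul]
      rw [h3, Nat.testBit_lor, Bool.or_eq_true, Nat.testBit_two_pow] at h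
      rcases h with h | h
      · exact Or.inl h
      · exact Or.inr ⟨m, List.mem_cons_self, by simpa using h⟩
    · exact Or.inr ⟨m', List.mem_cons_of_mem _ hm', hk⟩

/-- Fast test of a bit. -/
def tb (n i : ℕ) : Bool := Nat.beq (Nat.land (Nat.shiftRight n i) 1) 1

theorem tb_eq (n i : ℕ) : tb n i = n.testBit i := by
  rw [tb, land_one]
  have : Nat.shiftRight n i = n >>> i := rfl
  rw [this, Nat.testBit_shiftRight, Nat.add_zero]
  cases n.testBit i <;> rfl

/-- Key of a code word: its twelve information bits. -/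
def key12 (m : ℕ) : ℕ := Nat.land m 4095

theorem key12_eq (m : ℕ) : key12 m = m % 4096 := by
  show m &&& (2 ^ 12 - 1) = m % 2 ^ 12
  exact Nat.and_two_pow_sub_one_eq_mod m 12

/-- Everything flagged in the bitmap of a depth-first traversal is reachable. -/
theorem reach_of_bitmap {H : Subgroup (Equiv.Perm GolayPt)} {tabs : List (List ℕ)}
    (hT : GoodTabs H tabs) (hH : H ≤ M24) (root : ℕ) (hr : root < 2 ^ 24)
    (hroot : ofMask root ∈ supports (golayCode : Set W)) (cert : List (ℕ × ℕ)) (V : ℕ)
    (hV : bitmapOf key12 (dfs tabs root cert [] [root]) 0 = V) (m : ℕ) (hm : encMask m = m)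
    (ht : tb V (key12 m) = true) : Reach H root m := by
  rw [tb_eq, ← hV] at ht
  rcases testBit_bitmapOf _ _ _ _ ht with h | ⟨m', hm', hk⟩
  · simp at h
  · have hreach : Reach H root m' := by
      apply dfs_reach hT root hr cert [] [root] _ _ m' hm'
      · intro x hx; simp at hx
      · intro x hx
        rw [List.mem_singleton] at hx
        rw [hx]; exact Reach.refl H root hr
    obtain ⟨hlt, g, hg, hgm⟩ := hreach
    have hcode : ofMask m' ∈ supports (golayCode : Set W) := by
      rw [← hgm]
      exact smul_mem_supports (hH hg) hroot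
    have h1 : encMask m' = m' := (ofMask_mem_iff m' hlt).mp hcode
    have h2 : m' = m := by
      rw [← h1, ← hm, ← encMask_mod m', ← encMask_mod m, ← key12_eq, ← key12_eq, hk]
    rw [← h2]
    exact ⟨hlt, g, hg, hgm⟩

/-! ### Straight-line programs -/

/-- Evaluate a straight-line program of products on tables. -/
def slpTabs : List (ℕ × ℕ) → List (List ℕ) → List (List ℕ)
  | [], acc => acc
  | (i, j) :: prog, acc => slpTabs prog (acc ++ [mulTab (acc.getD i idTab) (acc.getD j idTab)])

theorem goodTabs_slp {H : Subgroup (Equiv.Perm GolayPt)} (prog : List (ℕ × ℕ)) (acc : List (List ℕ))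
    (h : GoodTabs H acc) : GoodTabs H (slpTabs prog acc) := by
  induction prog generalizing acc with
  | nil => exact h
  | cons c prog ih =>
    obtain ⟨i, j⟩ := c
    rw [slpTabs]
    apply ih
    intro l hl
    rcases List.mem_append.mp hl with hl | hl
    · exact h l hl
    · rw [List.mem_singleton] at hl
      obtain ⟨σ1, hσ1, ht1, _⟩ := h.getD i
      obtain ⟨σ2, hσ2, ht2, hlen2⟩ := h.getD j
      refine ⟨σ1 * σ2, H.mul_mem hσ1 hσ2, ?_, ?_⟩
      · rw [hl]; exact ht1.mul ht2 hlen2
      · rw [hl, mulTab_length, hlen2]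

end Cfsg.Agent.Helper7

namespace Cfsg.Agent.Helper7
open Cfsg

/-! ### Words acting on points -/

/-- Image of a point index under a word in the generator tables (applied left to right). -/
def wordPt (tabs : List (List ℕ)) : List ℕ → ℕ → ℕ
  | [], r => r
  | j :: w, r => wordPt tabs w ((tabs.getD j idTab).getD r 0)

theorem wordPt_reach {H : Subgroup (Equiv.Perm GolayPt)} {tabs : List (List ℕ)}
    (hT : GoodTabs H tabs) (w : List ℕ) (r : ℕ) (hr : r < 24) :
    wordPt tabs w r < 24 ∧ ∃ g ∈ H, g (pt r) = pt (wordPt tabs w r) := by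
  induction w generalizing r with
  | nil => exact ⟨hr, 1, H.one_mem, rfl⟩
  | cons j w ih =>
    obtain ⟨σ, hσ, ht, _⟩ := hT.getD j
    have hlt := ht.lt r hr
    obtain ⟨h1, g, hg, hgr⟩ := ih _ hlt
    refine ⟨h1, g * σ, H.mul_mem hg hσ, ?_⟩
    rw [Equiv.Perm.mul_apply, ht.apply r hr, hgr]
    rfl

/-- Orbit certificate on points: every target is reached from `r` by an element of `H`. -/
theorem reach_targets {H : Subgroup (Equiv.Perm GolayPt)} {tabs : List (List ℕ)}
    (hT : GoodTabs H tabs) (r : ℕ) (hr : r < 24) (words : List (List ℕ)) (targets : List ℕ)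
    (h : words.map (fun w => wordPt tabs w r) = targets) :
    ∀ q ∈ targets, q < 24 ∧ ∃ g ∈ H, g (pt r) = pt q := by
  intro q hq
  rw [← h, List.mem_map] at hq
  obtain ⟨w, _, rfl⟩ := hq
  exact wordPt_reach hT w r hr

theorem GoodTabs.mono {H K : Subgroup (Equiv.Perm GolayPt)} {tabs : List (List ℕ)}
    (h : GoodTabs H tabs) (hHK : H ≤ K) : GoodTabs K tabs := by
  intro l hl
  obtain ⟨σ, hσ, ht⟩ := h l hl
  exact ⟨σ, hHK hσ, ht⟩

theorem GoodTabs.subset {H : Subgroup (Equiv.Perm GolayPt)} {tabs tabs' : List (List ℕ)}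
    (h : GoodTabs H tabs) (hs : ∀ l ∈ tabs', l ∈ tabs) : GoodTabs H tabs' :=
  fun l hl => h l (hs l hl)

end Cfsg.Agent.Helper7
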