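import Cfsg.Agent.Lib.Helper7.Weights
import Cfsg.Agent.Lib.Helper7.Orbit

set_option autoImplicit false

namespace Cfsg.Agent.Helper7
open Cfsg
open scoped Pointwise

/-! ### Mask-level set operations -/

theorem ofMask_land (a b : ℕ) : ofMask (Nat.land a b) = ofMask a ∩ ofMask b := by
  ext p
  have : Nat.land a b = a &&& b := rfl
  rw [this, Finset.mem_inter, mem_ofMask, mem_ofMask, mem_ofMask, Nat.testBit_land, Bool.and_eq_true]

theorem ofMask_lor (a b : ℕ) : ofMask (Nat.lor a b) = ofMask a ∪ ofMask b := by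
  ext p
  have : Nat.lor a b = a ||| b := rfl
  rw [this, Finset.mem_union, mem_ofMask, mem_ofMask, mem_ofMask, Nat.testBit_lor, Bool.or_eq_true]

theorem ofMask_xor (a b : ℕ) : ofMask (Nat.xor a b) = symmDiff (ofMask a) (ofMask b) := by
  ext p
  have : Nat.xor a b = a ^^^ b := rfl
  rw [Finset.mem_symmDiff]
  simp only [this, mem_ofMask, Nat.testBit_xor]
  cases a.testBit (idx p) <;> cases b.testBit (idx p) <;> simp

theorem ofMask_full : ofMask 16777215 = Finset.univ := by
  ext p
  simp only [mem_ofMask, Finset.mem_univ, iff_true]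
  revert p
  decide

theorem ofMask_single (q : ℕ) (hq : q < 24) : ofMask (Nat.shiftLeft 1 q) = {pt q} := by
  ext p
  have : Nat.shiftLeft 1 q = 2 ^ q := by
    show 1 <<< q = 2 ^ q
    rw [Nat.shiftLeft_eq, one_mul]
  rw [mem_ofMask, this, Nat.testBit_two_pow, Finset.mem_singleton]
  simp only [decide_eq_true_eq]
  constructor
  · intro h; rw [h, pt_idx]
  · intro h; rw [h, idx_pt q hq]

theorem ofMask_compl (F : ℕ) : ofMask (Nat.xor F 16777215) = (ofMask F)ᶜ := by
  rw [ofMask_xor, ofMask_full]
  ext p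
  simp [Finset.mem_symmDiff]

/-! ### The Steiner property -/

theorem support₂_add_indW (a b : Finset GolayPt) :
    support₂ (indW a + indW b) = symmDiff a b := by
  ext p
  rw [mem_support₂, Finset.mem_symmDiff]
  simp only [Pi.add_apply, indW]
  by_cases ha : p ∈ a <;> by_cases hb : p ∈ b <;> simp [ha, hb]
  decide

theorem symmDiff_mem_supports {a b : Finset GolayPt} (ha : a ∈ supports (golayCode : Set W))
    (hb : b ∈ supports (golayCode : Set W)) : symmDiff a b ∈ supports (golayCode : Set W) := by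
  rw [← support₂_add_indW]
  exact ⟨_, Submodule.add_mem _ ((mem_supports_iff _ a).mp ha) ((mem_supports_iff _ b).mp hb), rfl⟩

theorem card_symmDiff_add (a b : Finset GolayPt) :
    (symmDiff a b).card + 2 * (a ∩ b).card = a.card + b.card := by
  have h1 : (symmDiff a b).card = (a \ b).card + (b \ a).card := by
    rw [symmDiff_def, Finset.sup_eq_union, Finset.card_union_of_disjoint]
    exact disjoint_sdiff_sdiff
  have h2 := Finset.card_sdiff_add_card_inter a b
  have h3 := Finset.card_sdiff_add_card_inter b a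
  rw [Finset.inter_comm b a] at h3
  omega

/-- Two octads with five common points coincide. -/
theorem octad_eq_of_inter {a b : Finset GolayPt} (ha : a ∈ octads) (hb : b ∈ octads)
    (h : 5 ≤ (a ∩ b).card) : a = b := by
  rw [mem_octads_iff] at ha hb
  have hs := symmDiff_mem_supports ha.1 hb.1
  have hc := card_symmDiff_add a b
  by_contra hne
  have : symmDiff a b ≠ ∅ := by
    intro h0
    apply hne
    have : symmDiff a b = ⊥ := h0
    exact symmDiff_eq_bot.mp this
  have := min_weight _ hs this
  omega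

theorem smul_mem_octads {g : Equiv.Perm GolayPt} (hg : g ∈ M24) {o : Finset GolayPt}
    (ho : o ∈ octads) : g • o ∈ octads := by
  rw [mem_octads_iff] at ho ⊢
  refine ⟨smul_mem_supports hg ho.1, ?_⟩
  rw [smul_finset_eq, Finset.card_image_of_injective _ g.injective]
  exact ho.2

/-- An octad with five fixed points is stabilised. -/
theorem smul_octad_eq {g : Equiv.Perm GolayPt} (hg : g ∈ M24) {F o : Finset GolayPt}
    (hF : ∀ p ∈ F, g p = p) (ho : o ∈ octads) (h5 : 5 ≤ (o ∩ F).card) : g • o = o := by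
  apply octad_eq_of_inter (smul_mem_octads hg ho) ho
  refine le_trans h5 (Finset.card_le_card ?_)
  intro p hp
  rw [Finset.mem_inter] at hp ⊢
  refine ⟨?_, hp.1⟩
  rw [smul_finset_eq, Finset.mem_image]
  exact ⟨p, hp.1, hF p hp.2⟩

/-- If two stabilised sets meet outside the fixed points in a single point, it is fixed. -/
theorem fixed_of_inter {g : Equiv.Perm GolayPt} {F a b : Finset GolayPt} {q : GolayPt}
    (hF : ∀ p ∈ F, g p = p) (ha : g • a = a) (hb : g • b = b) (h : (a ∩ b) ∩ Fᶜ = {q}) :
    g q = q := by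
  have hq : q ∈ (a ∩ b) ∩ Fᶜ := by rw [h]; exact Finset.mem_singleton_self q
  simp only [Finset.mem_inter, Finset.mem_compl] at hq
  have h1 : g q ∈ a := by
    rw [← ha, smul_finset_eq]; exact Finset.mem_image_of_mem _ hq.1.1
  have h2 : g q ∈ b := by
    rw [← hb, smul_finset_eq]; exact Finset.mem_image_of_mem _ hq.1.2
  have h3 : g q ∉ F := by
    intro hgF
    have := hF _ hgF
    have : g q = q := g.injective this
    rw [this] at hgF
    exact hq.2 hgF
  have : g q ∈ (a ∩ b) ∩ Fᶜ := by
    simp only [Finset.mem_inter, Finset.mem_compl]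
    exact ⟨⟨h1, h2⟩, h3⟩
  rw [h] at this
  exact Finset.mem_singleton.mp this

/-! ### Propagation of fixed points -/

/-- The bitmask codes an octad. -/
def isOct (m : ℕ) : Bool := Nat.blt m 16777216 && Nat.beq (encMask m) m && Nat.beq (popcF m) 8

theorem isOct_spec {m : ℕ} (h : isOct m = true) : ofMask m ∈ octads := by
  simp only [isOct, Bool.and_eq_true, Nat.blt_eq, Nat.beq_eq] at h
  rw [mem_octads_iff]
  exact ⟨(ofMask_mem_iff m (by omega)).mpr h.1.2, by rw [card_ofMask', h.2]⟩

def stepOK (m1 m2 q F : ℕ) : Bool :=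
  isOct m1 && isOct m2 && Nat.ble 5 (popcF (Nat.land m1 F)) && Nat.ble 5 (popcF (Nat.land m2 F))
    && Nat.blt q 24 && Nat.beq (Nat.land (Nat.land m1 m2) (Nat.xor F 16777215)) (Nat.shiftLeft 1 q)

/-- Check a propagation certificate ending with all points fixed. -/
def propOK : List (ℕ × ℕ × ℕ) → ℕ → Bool
  | [], F => Nat.beq F 16777215
  | (m1, m2, q) :: ss, F => stepOK m1 m2 q F && propOK ss (Nat.lor F (Nat.shiftLeft 1 q))

theorem eq_one_of_propOK {g : Equiv.Perm GolayPt} (hg : g ∈ M24) (steps : List (ℕ × ℕ × ℕ)) (F : ℕ)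
    (h : propOK steps F = true) (hF : ∀ p ∈ ofMask F, g p = p) : g = 1 := by
  induction steps generalizing F with
  | nil =>
    rw [propOK, Nat.beq_eq] at h
    rw [h, ofMask_full] at hF
    apply Equiv.ext
    intro p
    rw [hF p (Finset.mem_univ p)]
    rfl
  | cons s ss ih =>
    obtain ⟨m1, m2, q⟩ := s
    rw [propOK, Bool.and_eq_true] at h
    obtain ⟨hs, hrest⟩ := h
    simp only [stepOK, Bool.and_eq_true, Nat.ble_eq, Nat.blt_eq, Nat.beq_eq] at hs
    obtain ⟨⟨⟨⟨⟨ho1, ho2⟩, h51⟩, h52⟩, hq⟩, hint⟩ := hs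
    have e1 : g • ofMask m1 = ofMask m1 := by
      apply smul_octad_eq hg hF (isOct_spec ho1)
      rw [← ofMask_land, card_ofMask']; exact h51
    have e2 : g • ofMask m2 = ofMask m2 := by
      apply smul_octad_eq hg hF (isOct_spec ho2)
      rw [← ofMask_land, card_ofMask']; exact h52
    have hfix : g (pt q) = pt q := by
      apply fixed_of_inter hF e1 e2
      rw [← ofMask_compl, ← ofMask_land, ← ofMask_land, hint, ofMask_single q hq]
    apply ih _ hrest
    intro p hp
    rw [ofMask_lor, Finset.mem_union, ofMask_single q hq, Finset.mem_singleton] at hp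
    rcases hp with hp | rfl
    · exact hF p hp
    · exact hfix

end Cfsg.Agent.Helper7
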