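import Cfsg.Agent.Lib.Helper7.M24Lower
import Cfsg.Agent.Lib.Helper7.Steiner

set_option autoImplicit false

namespace Cfsg.Agent.Helper7
open Cfsg
open scoped Pointwise

/-! ### Lower bound -/

theorem lower_step (H : Subgroup (Equiv.Perm GolayPt)) (bs : List ℕ) (b : ℕ) (targets : List ℕ)
    (n : ℕ) (hn : (targets.map pt).toFinset.card = n)
    (h : ∀ q ∈ targets, q < 24 ∧ ∃ g ∈ stabL H (bs.map pt), g (pt b) = pt q) :
    n * Nat.card ↥(stabL H ((bs ++ [b]).map pt)) ≤ Nat.card ↥(stabL H (bs.map pt)) := by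
  rw [List.map_append, List.map_singleton, stabL_append, ← hn]
  apply mul_le_card
  intro q hq
  rw [List.mem_toFinset, List.mem_map] at hq
  obtain ⟨q', hq', rfl⟩ := hq
  exact (h q' hq').2

theorem m24_lower (H : Subgroup (Equiv.Perm GolayPt)) (h1 : gShift ∈ H) (h2 : projInv ∈ H)
    (h3 : cubeTwist ∈ H) : 244823040 ≤ Nat.card H := by
  have s0 := lower_step H [] 23 m24Targets0 24 (by decide) (m24_level0 H h1 h2 h3)
  have s1 := lower_step H [23] 0 m24Targets1 23 (by decide) (m24_level1 H h1 h2 h3)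
  have s2 := lower_step H [23, 0] 1 m24Targets2 22 (by decide) (m24_level2 H h1 h2 h3)
  have s3 := lower_step H [23, 0, 1] 2 m24Targets3 21 (by decide) (m24_level3 H h1 h2 h3)
  have s4 := lower_step H [23, 0, 1, 2] 3 m24Targets4 20 (by decide) (m24_level4 H h1 h2 h3)
  have s5 := lower_step H [23, 0, 1, 2, 3] 5 m24Targets5 3 (by decide) (m24_level5 H h1 h2 h3)
  have s6 := lower_step H [23, 0, 1, 2, 3, 5] 4 m24Targets6 16 (by decide) (m24_level6 H h1 h2 h3)
  have s7 : 1 ≤ Nat.card ↥(stabL H (([23, 0, 1, 2, 3, 5] ++ [4]).map pt)) := Nat.card_pos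
  have e0 : Nat.card ↥(stabL H (([] : List ℕ).map pt)) = Nat.card H := rfl
  simp only [List.nil_append, List.cons_append] at s0 s1 s2 s3 s4 s5 s6 s7
  omega

/-! ### Upper bound -/

theorem not_mem_of_fix {g : Equiv.Perm GolayPt} {bs : List GolayPt} (hfix : ∀ b ∈ bs, g b = b)
    {p : GolayPt} (hp : p ∉ bs) : g p ∉ bs := by
  intro h
  have := hfix _ h
  exact hp (g.injective this ▸ h)

theorem upper_step_triv (G : Subgroup (Equiv.Perm GolayPt)) (bs : List ℕ) (b : ℕ) (n : ℕ)
    (hb : pt b ∉ bs.map pt)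
    (hn : (Finset.univ.filter fun p : GolayPt => p ∉ bs.map pt).card = n) :
    Nat.card ↥(stabL G (bs.map pt)) ≤ n * Nat.card ↥(stabL G ((bs ++ [b]).map pt)) := by
  rw [List.map_append, List.map_singleton, stabL_append, ← hn]
  apply card_le_mul
  intro g hg
  rw [mem_stabL] at hg
  rw [Finset.mem_filter]
  exact ⟨Finset.mem_univ _, not_mem_of_fix hg.2 hb⟩

/-- The octad through the first five base points. -/
def baseOct : ℕ := 8536111

theorem baseOct_isOct : isOct baseOct = true := by decide +kernel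

theorem smul_baseOct {g : Equiv.Perm GolayPt} (hg : g ∈ M24)
    (hfix : ∀ b ∈ [23, 0, 1, 2, 3].map pt, g b = b) : g • ofMask baseOct = ofMask baseOct := by
  apply smul_octad_eq hg (F := ([23, 0, 1, 2, 3].map pt).toFinset) _ (isOct_spec baseOct_isOct)
  · decide +kernel
  · intro p hp
    exact hfix p (List.mem_toFinset.mp hp)

theorem m24_upper5 : Nat.card ↥(stabL M24 ([23, 0, 1, 2, 3].map pt)) ≤
    3 * Nat.card ↥(stabL M24 (([23, 0, 1, 2, 3] ++ [5]).map pt)) := by
  rw [List.map_append, List.map_singleton, stabL_append]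
  have hc : ((ofMask baseOct).filter fun p => p ∉ [23, 0, 1, 2, 3].map pt).card = 3 := by
    decide +kernel
  rw [← hc]
  apply card_le_mul
  intro g hg
  rw [mem_stabL] at hg
  rw [Finset.mem_filter]
  refine ⟨?_, not_mem_of_fix hg.2 (by decide)⟩
  have h := smul_baseOct hg.1 hg.2
  rw [← h, smul_finset_eq]
  apply Finset.mem_image_of_mem
  decide +kernel

theorem m24_upper6 : Nat.card ↥(stabL M24 ([23, 0, 1, 2, 3, 5].map pt)) ≤
    16 * Nat.card ↥(stabL M24 (([23, 0, 1, 2, 3, 5] ++ [4]).map pt)) := by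
  rw [List.map_append, List.map_singleton, stabL_append]
  have hc : ((ofMask baseOct)ᶜ).card = 16 := by
    decide +kernel
  rw [← hc]
  apply card_le_mul
  intro g hg
  rw [mem_stabL] at hg
  rw [Finset.mem_compl]
  intro hmem
  have h := smul_baseOct hg.1 (fun b hb => hg.2 b (by
    simp only [List.map_cons, List.map_nil, List.mem_cons, List.not_mem_nil, or_false] at hb ⊢
    tauto))
  rw [← h, smul_finset_eq, Finset.mem_image] at hmem
  obtain ⟨q, hq, hgq⟩ := hmem
  have : q = pt 4 := g.injective hgq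
  rw [this] at hq
  revert hq
  decide +kernel

def m24PropCert : List (ℕ × ℕ × ℕ) := [(5279, 8391797, 10), (5279, 8421811, 7), (5279, 5279, 12), (10558, 42232, 13), (10558, 133817, 11), (10558, 10558, 8), (18147, 36294, 6), (18147, 69395, 9), (18147, 18147, 14), (36294, 36294, 15), (69395, 69395, 16), (133817, 133817, 17), (262637, 262637, 18), (525274, 525274, 19), (1050548, 1050548, 20), (2101096, 2101096, 21), (4196943, 4196943, 22)]

theorem m24PropCert_ok : propOK m24PropCert 8388671 = true := by decide +kernel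

theorem m24_stab7 : stabL M24 ([23, 0, 1, 2, 3, 5, 4].map pt) = ⊥ := by
  rw [eq_bot_iff]
  intro g hg
  rw [mem_stabL] at hg
  rw [Subgroup.mem_bot]
  apply eq_one_of_propOK hg.1 m24PropCert 8388671 m24PropCert_ok
  intro p hp
  apply hg.2
  revert p
  decide +kernel

theorem m24_upper : Nat.card M24 ≤ 244823040 := by
  have s0 := upper_step_triv M24 [] 23 24 (by decide) (by decide)
  have s1 := upper_step_triv M24 [23] 0 23 (by decide) (by decide)
  have s2 := upper_step_triv M24 [23, 0] 1 22 (by decide) (by decide)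
  have s3 := upper_step_triv M24 [23, 0, 1] 2 21 (by decide) (by decide)
  have s4 := upper_step_triv M24 [23, 0, 1, 2] 3 20 (by decide) (by decide)
  have s5 := m24_upper5
  have s6 := m24_upper6
  have s7 : Nat.card ↥(stabL M24 (([23, 0, 1, 2, 3, 5] ++ [4]).map pt)) = 1 := by
    have : ([23, 0, 1, 2, 3, 5] ++ [4] : List ℕ) = [23, 0, 1, 2, 3, 5, 4] := rfl
    rw [this, m24_stab7]
    exact Subgroup.card_bot
  have e0 : Nat.card ↥(stabL M24 (([] : List ℕ).map pt)) = Nat.card M24 := rfl
  simp only [List.nil_append, List.cons_append] at s0 s1 s2 s3 s4 s5 s6 s7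
  omega

theorem card_M24 : Nat.card M24 = 244823040 :=
  le_antisymm m24_upper (m24_lower M24 shift_mem projInv_mem cubeTwist_mem)

/-- The three standard permutations generate `M24`. -/
theorem closure_eq_M24 : Subgroup.closure {gShift, projInv, cubeTwist} = M24 := by
  have hle : Subgroup.closure {gShift, projInv, cubeTwist} ≤ M24 := by
    rw [Subgroup.closure_le]
    rintro x (rfl | rfl | rfl)
    · exact shift_mem
    · exact projInv_mem
    · exact cubeTwist_mem
  have hcard := m24_lower (Subgroup.closure {gShift, projInv, cubeTwist})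
    (Subgroup.subset_closure (by simp)) (Subgroup.subset_closure (by simp))
    (Subgroup.subset_closure (by simp))
  apply Subgroup.eq_of_le_of_card_ge hle
  rw [card_M24]
  exact hcard

end Cfsg.Agent.Helper7
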