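import Cfsg.Agent.Lib.Helper7.PermMask

set_option autoImplicit false

namespace Cfsg.Agent.Helper7
open Cfsg
open scoped Pointwise

/-- The shift `x ↦ x + 1`. -/
abbrev gShift : Equiv.Perm GolayPt := Equiv.optionCongr (Equiv.addRight (1 : ZMod 23))

def lShift : List ℕ := [1, 2, 3, 4, 5, 6, 7, 8, 9, 10, 11, 12, 13, 14, 15, 16, 17, 18, 19, 20, 21, 22, 0, 23]
def lProjInv : List ℕ := [23, 22, 11, 15, 17, 9, 19, 13, 20, 5, 16, 2, 21, 7, 18, 3, 10, 4, 14, 6, 8, 12, 1, 0]
def lCubeTwist : List ℕ := [0, 18, 6, 3, 2, 21, 1, 5, 16, 12, 7, 19, 8, 9, 17, 15, 13, 11, 4, 22, 10, 20, 14, 23]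

theorem tab_shift : Tab gShift lShift := by
  unfold Tab; decide

theorem tab_projInv : Tab projInv lProjInv := by
  unfold Tab; decide

theorem cubeTwist_apply (p : GolayPt) : cubeTwist p = cubeTwistFun p := by
  unfold cubeTwist
  rw [Equiv.ofBijective_apply]

theorem tab_cubeTwist : Tab cubeTwist lCubeTwist := by
  unfold Tab
  intro p
  rw [cubeTwist_apply]
  revert p
  decide

theorem shift_mem : gShift ∈ M24 := mem_M24_of_tab tab_shift (by decide)

theorem projInv_mem : projInv ∈ M24 := mem_M24_of_tab tab_projInv (by decide)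

theorem cubeTwist_mem : cubeTwist ∈ M24 := mem_M24_of_tab tab_cubeTwist (by decide)

end Cfsg.Agent.Helper7
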