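import Cfsg.Agent.Lib.Helper7.Fast

set_option autoImplicit false

namespace Cfsg.Agent.Helper7
open Cfsg

def weightOK (m : ℕ) : Bool :=
  let c := popcF m
  Nat.beq c 8 || Nat.beq c 12 || Nat.beq c 16 || Nat.beq c 0 || Nat.beq c 24

theorem weights_check : codeList.all weightOK = true := by
  decide +kernel

/-- The weights of the words of the code are `0, 8, 12, 16, 24`. -/
theorem weight_cases (b : Finset GolayPt) (hb : b ∈ supports (golayCode : Set W)) :
    b.card = 0 ∨ b.card = 8 ∨ b.card = 12 ∨ b.card = 16 ∨ b.card = 24 := by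
  revert b
  refine forall_code' (fun b => b.card = 0 ∨ b.card = 8 ∨ b.card = 12 ∨ b.card = 16 ∨ b.card = 24)
    weightOK ?_ weights_check
  intro m hm
  show (ofMask m).card = 0 ∨ _
  rw [card_ofMask']
  simp only [weightOK, Bool.or_eq_true, Nat.beq_eq] at hm
  omega

theorem min_weight (b : Finset GolayPt) (hb : b ∈ supports (golayCode : Set W)) (h0 : b ≠ ∅) :
    8 ≤ b.card := by
  have h := weight_cases b hb
  have : b.card ≠ 0 := fun h => h0 (Finset.card_eq_zero.mp h)
  omega

theorem mem_octads_iff (b : Finset GolayPt) :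
    b ∈ octads ↔ b ∈ supports (golayCode : Set W) ∧ b.card = 8 := Iff.rfl

theorem mem_dodecads_iff (b : Finset GolayPt) :
    b ∈ dodecads ↔ b ∈ supports (golayCode : Set W) ∧ b.card = 12 := Iff.rfl

end Cfsg.Agent.Helper7
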