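import Cfsg.Agent.Lib.Helper7.OctadData
import Cfsg.Agent.Lib.Helper7.Weights
import Cfsg.Agent.Lib.Helper7.Gens

set_option autoImplicit false

namespace Cfsg.Agent.Helper7
open Cfsg
open scoped Pointwise

/-- The tables of the three standard generators. -/
def gTabs : List (List ℕ) := [lShift, lProjInv, lCubeTwist]

theorem goodTabs_gTabs (H : Subgroup (Equiv.Perm GolayPt)) (h1 : gShift ∈ H) (h2 : projInv ∈ H)
    (h3 : cubeTwist ∈ H) : GoodTabs H gTabs := by
  intro l hl
  simp only [gTabs, List.mem_cons, List.not_mem_nil, or_false] at hl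
  rcases hl with rfl | rfl | rfl
  · exact ⟨_, h1, tab_shift, rfl⟩
  · exact ⟨_, h2, tab_projInv, rfl⟩
  · exact ⟨_, h3, tab_cubeTwist, rfl⟩

theorem octV_eq : bitmapOf key12 (dfs gTabs octRoot octCert [] [octRoot]) 0 = octV := by
  decide +kernel

def octOK (m : ℕ) : Bool := !(Nat.beq (popcF m) 8) || tb octV (key12 m)

theorem octCheck : codeList.all octOK = true := by
  decide +kernel

theorem dodV_eq : bitmapOf key12 (dfs gTabs dodRoot dodCert [] [dodRoot]) 0 = dodV := by
  decide +kernel

def dodOK (m : ℕ) : Bool := !(Nat.beq (popcF m) 12) || tb dodV (key12 m)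

theorem dodCheck : codeList.all dodOK = true := by
  decide +kernel

theorem octRoot_mem : ofMask octRoot ∈ supports (golayCode : Set W) :=
  (ofMask_mem_iff _ (by decide)).mpr (by decide +kernel)

theorem dodRoot_mem : ofMask dodRoot ∈ supports (golayCode : Set W) :=
  (ofMask_mem_iff _ (by decide)).mpr (by decide +kernel)

theorem codeList_encMask : codeList.all (fun m => Nat.beq (encMask m) m) = true := by
  decide +kernel

/-- Every octad is the image of the root octad under an element of any subgroup of `M24`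
containing the three standard generators. -/
theorem octad_reach (H : Subgroup (Equiv.Perm GolayPt)) (hH : H ≤ M24) (h1 : gShift ∈ H)
    (h2 : projInv ∈ H) (h3 : cubeTwist ∈ H) :
    ∀ o ∈ octads, ∃ g ∈ H, g • ofMask octRoot = o := by
  intro o ho
  rw [mem_octads_iff] at ho
  revert ho
  suffices h : ∀ b ∈ supports (golayCode : Set W), b.card = 8 → ∃ g ∈ H, g • ofMask octRoot = b from
    fun ho => h o ho.1 ho.2
  refine forall_code' (fun b => b.card = 8 → ∃ g ∈ H, g • ofMask octRoot = b)
    (fun m => octOK m && Nat.beq (encMask m) m) ?_ ?_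
  · intro m hm hc
    rw [Bool.and_eq_true, Nat.beq_eq] at hm
    obtain ⟨hm1, hm2⟩ := hm
    rw [card_ofMask'] at hc
    have ht : tb octV (key12 m) = true := by
      simpa [octOK, hc] using hm1
    have := reach_of_bitmap (goodTabs_gTabs H h1 h2 h3) hH octRoot (by decide) octRoot_mem octCert
      octV octV_eq m hm2 ht
    exact this.2
  · rw [List.all_eq_true]
    intro m hm
    rw [Bool.and_eq_true]
    exact ⟨List.all_eq_true.mp octCheck m hm, List.all_eq_true.mp codeList_encMask m hm⟩

theorem dodecad_reach (H : Subgroup (Equiv.Perm GolayPt)) (hH : H ≤ M24) (h1 : gShift ∈ H)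
    (h2 : projInv ∈ H) (h3 : cubeTwist ∈ H) :
    ∀ o ∈ dodecads, ∃ g ∈ H, g • ofMask dodRoot = o := by
  intro o ho
  rw [mem_dodecads_iff] at ho
  revert ho
  suffices h : ∀ b ∈ supports (golayCode : Set W), b.card = 12 → ∃ g ∈ H, g • ofMask dodRoot = b from
    fun ho => h o ho.1 ho.2
  refine forall_code' (fun b => b.card = 12 → ∃ g ∈ H, g • ofMask dodRoot = b)
    (fun m => dodOK m && Nat.beq (encMask m) m) ?_ ?_
  · intro m hm hc
    rw [Bool.and_eq_true, Nat.beq_eq] at hm
    obtain ⟨hm1, hm2⟩ := hm
    rw [card_ofMask'] at hc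
    have ht : tb dodV (key12 m) = true := by
      simpa [dodOK, hc] using hm1
    have := reach_of_bitmap (goodTabs_gTabs H h1 h2 h3) hH dodRoot (by decide) dodRoot_mem dodCert
      dodV dodV_eq m hm2 ht
    exact this.2
  · rw [List.all_eq_true]
    intro m hm
    rw [Bool.and_eq_true]
    exact ⟨List.all_eq_true.mp dodCheck m hm, List.all_eq_true.mp codeList_encMask m hm⟩

end Cfsg.Agent.Helper7
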