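import Cfsg.Agent.Lib.Helper7.Count
import Cfsg.Agent.Lib.Helper7.Octads
import Cfsg.Agent.Lib.Helper7.M24Order

set_option autoImplicit false

namespace Cfsg.Agent.Helper7
open Cfsg
open scoped Pointwise

theorem smul_mem_dodecads {g : Equiv.Perm GolayPt} (hg : g ∈ M24) {o : Finset GolayPt}
    (ho : o ∈ dodecads) : g • o ∈ dodecads := by
  rw [mem_dodecads_iff] at ho ⊢
  refine ⟨smul_mem_supports hg ho.1, ?_⟩
  rw [smul_finset_eq, Finset.card_image_of_injective _ g.injective]
  exact ho.2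

theorem dodecad_trans {d d' : Finset GolayPt} (hd : d ∈ dodecads) (hd' : d' ∈ dodecads) :
    ∃ g ∈ M24, g • d = d' := by
  obtain ⟨g1, hg1, h1⟩ := dodecad_reach M24 le_rfl shift_mem projInv_mem cubeTwist_mem d hd
  obtain ⟨g2, hg2, h2⟩ := dodecad_reach M24 le_rfl shift_mem projInv_mem cubeTwist_mem d' hd'
  refine ⟨g2 * g1⁻¹, M24.mul_mem hg2 (M24.inv_mem hg1), ?_⟩
  rw [mul_smul, ← h1, inv_smul_smul, h2]

theorem octad_trans {d d' : Finset GolayPt} (hd : d ∈ octads) (hd' : d' ∈ octads) :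
    ∃ g ∈ M24, g • d = d' := by
  obtain ⟨g1, hg1, h1⟩ := octad_reach M24 le_rfl shift_mem projInv_mem cubeTwist_mem d hd
  obtain ⟨g2, hg2, h2⟩ := octad_reach M24 le_rfl shift_mem projInv_mem cubeTwist_mem d' hd'
  refine ⟨g2 * g1⁻¹, M24.mul_mem hg2 (M24.inv_mem hg1), ?_⟩
  rw [mul_smul, ← h1, inv_smul_smul, h2]

theorem orbit_dodecad {d : Finset GolayPt} (hd : d ∈ dodecads) :
    MulAction.orbit ↥M24 d = dodecads := by
  ext d'
  constructor
  · rintro ⟨g, rfl⟩
    exact smul_mem_dodecads g.2 hd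
  · intro hd'
    obtain ⟨g, hg, h⟩ := dodecad_trans hd hd'
    exact ⟨⟨g, hg⟩, h⟩

theorem orbit_octad {d : Finset GolayPt} (hd : d ∈ octads) :
    MulAction.orbit ↥M24 d = octads := by
  ext d'
  constructor
  · rintro ⟨g, rfl⟩
    exact smul_mem_octads g.2 hd
  · intro hd'
    obtain ⟨g, hg, h⟩ := octad_trans hd hd'
    exact ⟨⟨g, hg⟩, h⟩

/-- The stabiliser of a dodecad has order `95040`. -/
theorem card_stab_dodecad {d : Finset GolayPt} (hd : d ∈ dodecads) :
    Nat.card (MulAction.stabilizer ↥M24 d) = 95040 := by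
  have h := Nat.card_congr (MulAction.orbitProdStabilizerEquivGroup ↥M24 d)
  rw [Nat.card_prod, orbit_dodecad hd, Nat.card_coe_set_eq, ncard_dodecads, card_M24] at h
  omega

/-- The stabiliser of an octad has order `322560`. -/
theorem card_stab_octad {d : Finset GolayPt} (hd : d ∈ octads) :
    Nat.card (MulAction.stabilizer ↥M24 d) = 322560 := by
  have h := Nat.card_congr (MulAction.orbitProdStabilizerEquivGroup ↥M24 d)
  rw [Nat.card_prod, orbit_octad hd, Nat.card_coe_set_eq, ncard_octads, card_M24] at h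
  omega

end Cfsg.Agent.Helper7
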