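import Cfsg.Agent.Lib.Helper7.Chain

set_option autoImplicit false

namespace Cfsg.Agent.Helper7

variable {α : Type*}

/-- Exact orbit-stabiliser count when the orbit is a known finite set. -/
theorem card_eq_mul_of_orbit [Finite α] (G : Subgroup (Equiv.Perm α)) (p : α) (S : Finset α)
    (hS : ∀ q, q ∈ S ↔ ∃ g ∈ G, g p = q) : Nat.card G = S.card * Nat.card ↥(stabIn G p) := by
  apply le_antisymm
  · apply card_le_mul
    intro g hg
    exact (hS _).mpr ⟨g, hg, rfl⟩
  · apply mul_le_card
    intro q hq
    exact (hS q).mp hq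

theorem card_map_subtype (H : Subgroup (Equiv.Perm α)) (K : Subgroup ↥H) :
    Nat.card ↥(K.map H.subtype) = Nat.card K :=
  (Nat.card_congr (K.equivMapOfInjective H.subtype H.subtype_injective).toEquiv).symm

theorem map_stabilizer (H : Subgroup (Equiv.Perm α)) (p : α) :
    (MulAction.stabilizer ↥H p).map H.subtype = stabIn H p := by
  ext g
  rw [Subgroup.mem_map, mem_stabIn]
  constructor
  · rintro ⟨x, hx, rfl⟩
    exact ⟨x.2, hx⟩
  · rintro ⟨h1, h2⟩
    exact ⟨⟨g, h1⟩, h2, rfl⟩

theorem card_stabilizer (H : Subgroup (Equiv.Perm α)) (p : α) :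
    Nat.card (MulAction.stabilizer ↥H p) = Nat.card ↥(stabIn H p) := by
  rw [← card_map_subtype, map_stabilizer]

theorem card_stabilizer_inf (H : Subgroup (Equiv.Perm α)) (p q : α) :
    Nat.card ↥(MulAction.stabilizer ↥H p ⊓ MulAction.stabilizer ↥H q) =
      Nat.card ↥(stabL H [p, q]) := by
  rw [← card_map_subtype, Subgroup.map_inf _ _ _ H.subtype_injective, map_stabilizer,
    map_stabilizer]
  have : stabIn H p ⊓ stabIn H q = stabL H [p, q] := by
    ext g
    rw [Subgroup.mem_inf, mem_stabIn, mem_stabIn, mem_stabL]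
    constructor
    · rintro ⟨⟨h1, h2⟩, _, h3⟩
      refine ⟨h1, ?_⟩
      intro b hb
      simp only [List.mem_cons, List.not_mem_nil, or_false] at hb
      rcases hb with rfl | rfl
      · exact h2
      · exact h3
    · rintro ⟨h1, h2⟩
      exact ⟨⟨h1, h2 p (by simp)⟩, h1, h2 q (by simp)⟩
  rw [this]

theorem card_stabilizer_inf3 (H : Subgroup (Equiv.Perm α)) (p q r : α) :
    Nat.card ↥(MulAction.stabilizer ↥H p ⊓ MulAction.stabilizer ↥H q ⊓ MulAction.stabilizer ↥H r) =
      Nat.card ↥(stabL H [p, q, r]) := by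
  rw [← card_map_subtype, Subgroup.map_inf _ _ _ H.subtype_injective,
    Subgroup.map_inf _ _ _ H.subtype_injective, map_stabilizer, map_stabilizer, map_stabilizer]
  have : stabIn H p ⊓ stabIn H q ⊓ stabIn H r = stabL H [p, q, r] := by
    ext g
    rw [Subgroup.mem_inf, Subgroup.mem_inf, mem_stabIn, mem_stabIn, mem_stabIn, mem_stabL]
    constructor
    · rintro ⟨⟨⟨h1, h2⟩, _, h3⟩, _, h4⟩
      refine ⟨h1, ?_⟩
      intro b hb
      simp only [List.mem_cons, List.not_mem_nil, or_false] at hb
      rcases hb with rfl | rfl | rfl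
      · exact h2
      · exact h3
      · exact h4
    · rintro ⟨h1, h2⟩
      exact ⟨⟨⟨h1, h2 p (by simp)⟩, h1, h2 q (by simp)⟩, h1, h2 r (by simp)⟩
  rw [this]

end Cfsg.Agent.Helper7

namespace Cfsg.Agent.Helper7

variable {α : Type*}

/-- Transitivity along the base `bs` inside the invariant set `D`. -/
def ChainTransOn (G : Subgroup (Equiv.Perm α)) (D : Set α) (bs : List α) : Prop :=
  ∀ i (hi : i < bs.length), ∀ q ∈ D, q ∉ bs.take i → ∃ g ∈ stabL G (bs.take i), g (bs[i]) = q

theorem ChainTransOn.exists_map {G : Subgroup (Equiv.Perm α)} {D : Set α} {bs : List α}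
    (h : ChainTransOn G D bs) (hD : ∀ g ∈ G, ∀ x, g x ∈ D → x ∈ D)
    (xs : List α) (hx : xs.Nodup) (hxD : ∀ x ∈ xs, x ∈ D) (hlen : xs.length ≤ bs.length) :
    ∃ g ∈ G, (bs.take xs.length).map g = xs := by
  induction xs using List.reverseRecOn with
  | nil => exact ⟨1, G.one_mem, by simp⟩
  | append_singleton ys x ih =>
    rw [List.length_append, List.length_singleton] at hlen ⊢
    have hy : ys.Nodup := (List.nodup_append.mp hx).1
    have hxy : x ∉ ys := by
      intro hmem
      have := (List.nodup_append.mp hx).2.2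
      exact this x hmem x (List.mem_singleton_self x) rfl
    obtain ⟨g, hg, hgy⟩ := ih hy (fun z hz => hxD z (List.mem_append_left _ hz)) (by omega)
    have hi : ys.length < bs.length := by omega
    have hq : g⁻¹ x ∉ bs.take ys.length := by
      intro hmem
      apply hxy
      rw [← hgy, List.mem_map]
      exact ⟨g⁻¹ x, hmem, by simp⟩
    have hqD : g⁻¹ x ∈ D := by
      apply hD g hg
      simpa using hxD x (List.mem_append_right _ (List.mem_singleton_self x))
    obtain ⟨k, hk, hkq⟩ := h ys.length hi _ hqD hq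
    rw [mem_stabL] at hk
    refine ⟨g * k, G.mul_mem hg hk.1, ?_⟩
    rw [List.take_succ_eq_append_getElem hi, List.map_append, List.map_singleton]
    congr 1
    · refine Eq.trans ?_ hgy
      apply List.map_congr_left
      intro b hb
      rw [Equiv.Perm.mul_apply, hk.2 b hb]
    · rw [Equiv.Perm.mul_apply, hkq]
      simp

theorem ChainTransOn.exists_map_map {G : Subgroup (Equiv.Perm α)} {D : Set α} {bs : List α}
    (h : ChainTransOn G D bs) (hD : ∀ g ∈ G, ∀ x, g x ∈ D → x ∈ D)
    (xs ys : List α) (hx : xs.Nodup) (hy : ys.Nodup) (hxD : ∀ x ∈ xs, x ∈ D)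
    (hyD : ∀ x ∈ ys, x ∈ D) (hxl : xs.length = ys.length)
    (hlen : xs.length ≤ bs.length) : ∃ g ∈ G, xs.map g = ys := by
  obtain ⟨g1, hg1, h1⟩ := h.exists_map hD xs hx hxD hlen
  obtain ⟨g2, hg2, h2⟩ := h.exists_map hD ys hy hyD (hxl ▸ hlen)
  refine ⟨g2 * g1⁻¹, G.mul_mem hg2 (G.inv_mem hg1), ?_⟩
  rw [← h1, List.map_map, ← h2, hxl]
  apply List.map_congr_left
  intro b _
  simp

end Cfsg.Agent.Helper7

namespace Cfsg.Agent.Helper7

variable {α : Type*}

theorem not_mem_of_fix' {g : Equiv.Perm α} {bs : List α} (hfix : ∀ b ∈ bs, g b = b)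
    {p : α} (hp : p ∉ bs) : g p ∉ bs := by
  intro h
  have := hfix _ h
  exact hp (g.injective this ▸ h)

/-- Orders of pointwise stabilisers from multiple transitivity on an invariant set. -/
theorem card_stabL_of_trans [Finite α] [DecidableEq α] (G : Subgroup (Equiv.Perm α)) (D : Finset α)
    (hD : ∀ g ∈ G, ∀ x, x ∈ D → g x ∈ D) (k : ℕ)
    (htrans : ∀ xs ys : List α, xs.Nodup → ys.Nodup → (∀ x ∈ xs, x ∈ D) → (∀ x ∈ ys, x ∈ D) →
      xs.length = ys.length → xs.length ≤ k → ∃ g ∈ G, xs.map g = ys)
    (xs : List α) (hx : xs.Nodup) (hxD : ∀ x ∈ xs, x ∈ D) (hlen : xs.length ≤ k) :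
    Nat.card G = D.card.descFactorial xs.length * Nat.card ↥(stabL G xs) := by
  induction xs using List.reverseRecOn with
  | nil => simp [stabL]
  | append_singleton ys x ih =>
    rw [List.length_append, List.length_singleton] at hlen ⊢
    have hy : ys.Nodup := (List.nodup_append.mp hx).1
    have hxy : x ∉ ys := by
      intro hmem
      have := (List.nodup_append.mp hx).2.2
      exact this x hmem x (List.mem_singleton_self x) rfl
    have hyD : ∀ z ∈ ys, z ∈ D := fun z hz => hxD z (List.mem_append_left _ hz)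
    have hxD' : x ∈ D := hxD x (List.mem_append_right _ (List.mem_singleton_self x))
    rw [ih hy hyD (by omega), stabL_append, Nat.descFactorial_succ, Nat.mul_comm (D.card - ys.length),
      Nat.mul_assoc]
    congr 1
    have hS := card_eq_mul_of_orbit (stabL G ys) x (D \ ys.toFinset) (by
      intro q
      rw [Finset.mem_sdiff, List.mem_toFinset]
      constructor
      · rintro ⟨hqD, hqy⟩
        obtain ⟨g, hg, hgm⟩ := htrans (ys ++ [x]) (ys ++ [q]) hx
          (List.nodup_append.mpr ⟨hy, List.nodup_singleton q, by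
            intro a ha b hb
            rw [List.mem_singleton] at hb
            rw [hb]
            intro h
            exact hqy (h ▸ ha)⟩)
          hxD (by
            intro z hz
            rcases List.mem_append.mp hz with hz | hz
            · exact hyD z hz
            · rw [List.mem_singleton.mp hz]; exact hqD)
          (by simp) (by simpa using hlen)
        rw [List.map_append, List.map_singleton] at hgm
        have h1 := List.append_inj hgm (by simp)
        refine ⟨g, mem_stabL.mpr ⟨hg, ?_⟩, by simpa using h1.2⟩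
        intro b hb
        have := h1.1
        have hmap : ys.map g = ys.map id := by rw [this, List.map_id]
        exact List.map_inj_left.mp hmap b hb
      · rintro ⟨g, hg, rfl⟩
        rw [mem_stabL] at hg
        exact ⟨hD g hg.1 x hxD', not_mem_of_fix' hg.2 hxy⟩)
    rw [hS]
    congr 1
    rw [Finset.card_sdiff_of_subset, List.toFinset_card_of_nodup hy]
    intro z hz
    exact hyD z (List.mem_toFinset.mp hz)

end Cfsg.Agent.Helper7
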