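import Cfsg.Agent.Lib.Helper7.M24Trans
import Cfsg.Agent.Lib.Helper7.Chain2

set_option autoImplicit false

namespace Cfsg.Agent.Helper7
open Cfsg
open scoped Pointwise

theorem card_univ_golayPt : (Finset.univ : Finset GolayPt).card = 24 := by decide

/-- The point stabiliser of `M24` has order `10200960`. -/
theorem card_stab1 (p : GolayPt) : Nat.card ↥(stabIn M24 p) = 10200960 := by
  have h := card_eq_mul_of_orbit M24 p Finset.univ (by
    intro q
    simp only [Finset.mem_univ, true_iff]
    obtain ⟨g, hg, hgq⟩ := m24_five_trans [p] [q] (by simp) (by simp) rfl (by simp)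
    exact ⟨g, hg, by simpa using hgq⟩)
  rw [card_M24, card_univ_golayPt] at h
  omega

/-- The two-point stabiliser of `M24` has order `443520`. -/
theorem card_stab2 (p q : GolayPt) (hpq : p ≠ q) : Nat.card ↥(stabL M24 [p, q]) = 443520 := by
  have h := card_eq_mul_of_orbit (stabIn M24 p) q (Finset.univ.erase p) (by
    intro q'
    rw [Finset.mem_erase]
    simp only [Finset.mem_univ, and_true]
    constructor
    · intro hq'
      obtain ⟨g, hg, hgq⟩ := m24_five_trans [p, q] [p, q'] (by simp [hpq])
        (by simp [Ne.symm hq']) rfl (by simp)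
      simp only [List.map_cons, List.map_nil, List.cons.injEq, and_true] at hgq
      exact ⟨g, mem_stabIn.mpr ⟨hg, hgq.1⟩, hgq.2⟩
    · rintro ⟨g, hg, rfl⟩
      rw [mem_stabIn] at hg
      intro h
      apply hpq
      apply g.injective
      rw [hg.2, h])
  rw [card_stab1, Finset.card_erase_of_mem (Finset.mem_univ p), card_univ_golayPt] at h
  have : stabIn (stabIn M24 p) q = stabL M24 [p, q] := rfl
  rw [this] at h
  omega

/-- The three-point stabiliser of `M24` has order `20160`. -/
theorem card_stab3 (p q r : GolayPt) (hpq : p ≠ q) (hpr : p ≠ r) (hqr : q ≠ r) :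
    Nat.card ↥(stabL M24 [p, q, r]) = 20160 := by
  have h := card_eq_mul_of_orbit (stabL M24 [p, q]) r ((Finset.univ.erase p).erase q) (by
    intro r'
    rw [Finset.mem_erase, Finset.mem_erase]
    simp only [Finset.mem_univ, and_true]
    constructor
    · rintro ⟨h1, h2⟩
      obtain ⟨g, hg, hgq⟩ := m24_five_trans [p, q, r] [p, q, r'] (by simp [hpq, hpr, hqr])
        (by simp [hpq, Ne.symm h1, Ne.symm h2]) rfl (by simp)
      simp only [List.map_cons, List.map_nil, List.cons.injEq, and_true] at hgq
      refine ⟨g, mem_stabL.mpr ⟨hg, ?_⟩, hgq.2.2⟩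
      intro b hb
      simp only [List.mem_cons, List.not_mem_nil, or_false] at hb
      rcases hb with rfl | rfl
      · exact hgq.1
      · exact hgq.2.1
    · rintro ⟨g, hg, rfl⟩
      rw [mem_stabL] at hg
      have e1 := hg.2 p (by simp)
      have e2 := hg.2 q (by simp)
      constructor
      · intro h
        apply hqr
        apply g.injective
        rw [e2, h]
      · intro h
        apply hpr
        apply g.injective
        rw [e1, h])
  rw [card_stab2 p q hpq, Finset.card_erase_of_mem (by simp [hpq.symm]),
    Finset.card_erase_of_mem (Finset.mem_univ p), card_univ_golayPt] at h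
  have : stabIn (stabL M24 [p, q]) r = stabL M24 [p, q, r] := by
    rw [← stabL_append]; rfl
  rw [this] at h
  omega

end Cfsg.Agent.Helper7
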