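import Cfsg.Agent.Lib.Helper7.M12Data
import Cfsg.Agent.Lib.Helper7.M12Card
import Cfsg.Agent.Lib.Helper7.M24Stab

set_option autoImplicit false

namespace Cfsg.Agent.Helper7
open Cfsg
open scoped Pointwise

/-- The setwise stabiliser of a set of points in `M24`, as a subgroup of the symmetric group. -/
abbrev setStab (d : Finset GolayPt) : Subgroup (Equiv.Perm GolayPt) :=
  M24 ⊓ MulAction.stabilizer (Equiv.Perm GolayPt) d

theorem mem_setStab {d : Finset GolayPt} {g : Equiv.Perm GolayPt} :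
    g ∈ setStab d ↔ g ∈ M24 ∧ g • d = d :=
  ⟨fun h => ⟨h.1, h.2⟩, fun h => ⟨h.1, h.2⟩⟩

theorem setStab_mem_iff {d : Finset GolayPt} {g : Equiv.Perm GolayPt} (hg : g ∈ setStab d)
    (x : GolayPt) : g x ∈ d ↔ x ∈ d := by
  rw [mem_setStab] at hg
  constructor
  · intro h
    rw [← hg.2, smul_finset_eq, Finset.mem_image] at h
    obtain ⟨y, hy, hyx⟩ := h
    rwa [← g.injective hyx]
  · intro h
    rw [← hg.2, smul_finset_eq]
    exact Finset.mem_image_of_mem _ h

theorem GoodTabs.setStab {tabs : List (List ℕ)} (h : GoodTabs M24 tabs) (m : ℕ)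
    (hm : ∀ l ∈ tabs, pm l m = m) : GoodTabs (Cfsg.Agent.Helper7.setStab (ofMask m)) tabs := by
  intro l hl
  obtain ⟨σ, hσ, ht, hlen⟩ := h l hl
  refine ⟨σ, mem_setStab.mpr ⟨hσ, ?_⟩, ht, hlen⟩
  rw [smul_ofMask ht, ← pm_eq l hlen, hm l hl]

theorem m12AllTabs_eq : slpTabs m12Prog m24InitTabs = m12AllTabs := by
  decide +kernel

theorem goodTabs_m12All : GoodTabs M24 m12AllTabs := by
  rw [← m12AllTabs_eq]
  exact goodTabs_slp _ _ (goodTabs_init M24 shift_mem projInv_mem cubeTwist_mem)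

/-- The base dodecad. -/
abbrev D0 : Finset GolayPt := ofMask dodRoot

theorem D0_mem : D0 ∈ dodecads := by
  rw [mem_dodecads_iff]
  exact ⟨dodRoot_mem, by rw [card_ofMask']; decide +kernel⟩

theorem level_allOn {G : Subgroup (Equiv.Perm GolayPt)} {bs : List ℕ} {b : ℕ} {targets : List ℕ}
    (m : ℕ) (h : ∀ q ∈ targets, q < 24 ∧ ∃ g ∈ stabL G (bs.map pt), g (pt b) = pt q)
    (hall : ∀ q < 24, m.testBit q = true → q ∉ bs → q ∈ targets) :
    ∀ q : GolayPt, q ∈ ofMask m → q ∉ bs.map pt → ∃ g ∈ stabL G (bs.map pt), g (pt b) = q := by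
  intro q hqm hq
  have hq' : idx q ∉ bs := by
    intro hmem
    apply hq
    rw [List.mem_map]
    exact ⟨idx q, hmem, pt_idx q⟩
  obtain ⟨_, g, hg, hgq⟩ := h (idx q) (hall (idx q) (idx_lt q) ((mem_ofMask _ _).mp hqm) hq')
  exact ⟨g, hg, by rw [hgq, pt_idx]⟩

theorem m12_level0 : ∀ q ∈ m12Targets0, q < 24 ∧ ∃ g ∈ stabL (setStab D0) ([].map pt), g (pt 0) = pt q :=
  reach_targets (((goodTabs_m12All.subset (tabs' := m12Tabs0) (by decide)).setStab dodRoot
    (by decide +kernel)).stabL [] (by decide) (by decide)) 0 (by decide) m12Words0 m12Targets0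
    (by decide +kernel)

theorem m12_level1 : ∀ q ∈ m12Targets1, q < 24 ∧ ∃ g ∈ stabL (setStab D0) ([0].map pt), g (pt 2) = pt q :=
  reach_targets (((goodTabs_m12All.subset (tabs' := m12Tabs1) (by decide)).setStab dodRoot
    (by decide +kernel)).stabL [0] (by decide) (by decide)) 2 (by decide) m12Words1 m12Targets1
    (by decide +kernel)

theorem m12_level2 : ∀ q ∈ m12Targets2, q < 24 ∧ ∃ g ∈ stabL (setStab D0) ([0, 2].map pt), g (pt 3) = pt q :=
  reach_targets (((goodTabs_m12All.subset (tabs' := m12Tabs2) (by decide)).setStab dodRoot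
    (by decide +kernel)).stabL [0, 2] (by decide) (by decide)) 3 (by decide) m12Words2 m12Targets2
    (by decide +kernel)

theorem m12_level3 : ∀ q ∈ m12Targets3, q < 24 ∧ ∃ g ∈ stabL (setStab D0) ([0, 2, 3].map pt), g (pt 4) = pt q :=
  reach_targets (((goodTabs_m12All.subset (tabs' := m12Tabs3) (by decide)).setStab dodRoot
    (by decide +kernel)).stabL [0, 2, 3] (by decide) (by decide)) 4 (by decide) m12Words3 m12Targets3
    (by decide +kernel)

theorem m12_level4 : ∀ q ∈ m12Targets4, q < 24 ∧ ∃ g ∈ stabL (setStab D0) ([0, 2, 3, 4].map pt), g (pt 6) = pt q :=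
  reach_targets (((goodTabs_m12All.subset (tabs' := m12Tabs4) (by decide)).setStab dodRoot
    (by decide +kernel)).stabL [0, 2, 3, 4] (by decide) (by decide)) 6 (by decide) m12Words4 m12Targets4
    (by decide +kernel)

theorem m12_chainTrans : ChainTransOn (setStab D0) (↑D0) ([0, 2, 3, 4, 6].map pt) := by
  intro i hi q hqD hq
  simp only [List.length_map, List.length_cons, List.length_nil] at hi
  rw [Finset.mem_coe] at hqD
  interval_cases i
  · exact level_allOn (bs := []) dodRoot m12_level0 (by decide) q hqD hq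
  · exact level_allOn (bs := [0]) dodRoot m12_level1 (by decide) q hqD hq
  · exact level_allOn (bs := [0, 2]) dodRoot m12_level2 (by decide) q hqD hq
  · exact level_allOn (bs := [0, 2, 3]) dodRoot m12_level3 (by decide) q hqD hq
  · exact level_allOn (bs := [0, 2, 3, 4]) dodRoot m12_level4 (by decide) q hqD hq

/-- The stabiliser of the base dodecad is 5-transitive on it. -/
theorem m12_five_trans0 (xs ys : List GolayPt) (hx : xs.Nodup) (hy : ys.Nodup)
    (hxD : ∀ x ∈ xs, x ∈ D0) (hyD : ∀ x ∈ ys, x ∈ D0)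
    (hxl : xs.length = ys.length) (hlen : xs.length ≤ 5) : ∃ g ∈ setStab D0, xs.map g = ys :=
  m12_chainTrans.exists_map_map (fun g hg x hx => (setStab_mem_iff hg x).mp hx) xs ys hx hy
    hxD hyD hxl (by simpa using hlen)

theorem setStab_conj {d : Finset GolayPt} {h g : Equiv.Perm GolayPt} (hh : h ∈ M24)
    (hg : g ∈ setStab d) : h * g * h⁻¹ ∈ setStab (h • d) := by
  rw [mem_setStab] at hg ⊢
  refine ⟨M24.mul_mem (M24.mul_mem hh hg.1) (M24.inv_mem hh), ?_⟩
  rw [mul_smul, mul_smul, inv_smul_smul, hg.2]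

/-- The stabiliser of any dodecad is 5-transitive on it. -/
theorem m12_five_trans {d : Finset GolayPt} (hd : d ∈ dodecads) (xs ys : List GolayPt)
    (hx : xs.Nodup) (hy : ys.Nodup) (hxD : ∀ x ∈ xs, x ∈ d) (hyD : ∀ x ∈ ys, x ∈ d)
    (hxl : xs.length = ys.length) (hlen : xs.length ≤ 5) : ∃ g ∈ setStab d, xs.map g = ys := by
  obtain ⟨h, hh, rfl⟩ := dodecad_trans D0_mem hd
  have hmem : ∀ x, x ∈ h • D0 → h⁻¹ x ∈ D0 := by
    intro x hx
    rw [smul_finset_eq, Finset.mem_image] at hx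
    obtain ⟨y, hy, rfl⟩ := hx
    simpa using hy
  obtain ⟨g, hg, hgm⟩ := m12_five_trans0 (xs.map ⇑(h⁻¹)) (ys.map ⇑(h⁻¹))
    (hx.map (h⁻¹).injective) (hy.map (h⁻¹).injective)
    (by
      intro x hx'
      rw [List.mem_map] at hx'
      obtain ⟨y, hy', rfl⟩ := hx'
      exact hmem y (hxD y hy'))
    (by
      intro x hx'
      rw [List.mem_map] at hx'
      obtain ⟨y, hy', rfl⟩ := hx'
      exact hmem y (hyD y hy'))
    (by simpa using hxl) (by simpa using hlen)
  refine ⟨h * g * h⁻¹, setStab_conj hh hg, ?_⟩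
  have : ys = (ys.map ⇑(h⁻¹)).map h := by
    rw [List.map_map]
    conv_lhs => rw [← List.map_id ys]
    apply List.map_congr_left
    intro b _
    simp
  rw [this, ← hgm, List.map_map, List.map_map]
  apply List.map_congr_left
  intro b _
  simp

theorem map_setStab (d : Finset GolayPt) :
    (MulAction.stabilizer ↥M24 d).map M24.subtype = setStab d := by
  ext g
  rw [Subgroup.mem_map, mem_setStab]
  constructor
  · rintro ⟨x, hx, rfl⟩
    exact ⟨x.2, hx⟩
  · rintro ⟨h1, h2⟩
    exact ⟨⟨g, h1⟩, h2, rfl⟩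

theorem card_setStab_dodecad {d : Finset GolayPt} (hd : d ∈ dodecads) :
    Nat.card ↥(setStab d) = 95040 := by
  rw [← map_setStab, card_map_subtype, card_stab_dodecad hd]

/-- Orders of the pointwise stabilisers of points of a dodecad in its stabiliser. -/
theorem card_m12_stabL {d : Finset GolayPt} (hd : d ∈ dodecads) (xs : List GolayPt)
    (hx : xs.Nodup) (hxD : ∀ x ∈ xs, x ∈ d) (hlen : xs.length ≤ 5) :
    95040 = Nat.descFactorial 12 xs.length * Nat.card ↥(stabL (setStab d) xs) := by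
  have h := card_stabL_of_trans (setStab d) d (fun g hg x hx => (setStab_mem_iff hg x).mpr hx) 5
    (fun xs ys h1 h2 h3 h4 h5 h6 => m12_five_trans hd xs ys h1 h2 h3 h4 h5 h6) xs hx hxD hlen
  rw [card_setStab_dodecad hd, ((mem_dodecads_iff d).mp hd).2] at h
  exact h

end Cfsg.Agent.Helper7
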