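import Mathlib
import Cfsg.Prelude.Def_Sporadic
import Cfsg.Prelude.Def_Sporadic_a
import Cfsg.Agent.Lib.Helper7.M11UDefs
import Cfsg.Agent.Lib.Helper1.M11UG2
import Cfsg.Agent.Lib.Helper1.M11UG7
import Cfsg.Agent.Lib.Helper20.M11UC2
import Cfsg.Agent.Lib.Helper20.M11UC4
import Cfsg.Agent.Lib.Helper20.M11UC5
import Cfsg.Agent.Lib.Helper22.M11UG1
import Cfsg.Agent.Lib.Helper33.M11UG3
import Cfsg.Agent.Lib.Helper38.M11UK
import Cfsg.Agent.Lib.Helper38.M11UU2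
import Cfsg.Agent.Lib.Helper4.M11UG6a
import Cfsg.Agent.Lib.Helper41.M11UL4
import Cfsg.Agent.Lib.Helper41.M11UL6
import Cfsg.Agent.Lib.Helper42.M11UL3
import Cfsg.Agent.Lib.Helper42.M11UL5
import Cfsg.Agent.Lib.Helper47.M11UL4a
import Cfsg.Agent.Lib.Helper47.M11UL4c
import Cfsg.Agent.Lib.Helper51.M11UG5
import Cfsg.Agent.Lib.Helper60.M11UG6s
import Cfsg.Agent.Lib.Helper60.M11UL7
import Cfsg.Agent.Lib.Helper63.M11UG4
import Cfsg.Agent.Lib.Helper67.M11UL1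
import Cfsg.Agent.Lib.Helper67.M11UL2
import Cfsg.Agent.Lib.Helper7.M11UB0
import Cfsg.Agent.Lib.Helper92.M11UC1
import Cfsg.Agent.Lib.Helper92.M11UC3
import Cfsg.Agent.Lib.Helper94.M11UU3
import Cfsg.Agent.Lib.Helper95.M11UMOD
import Cfsg.Agent.Lib.Helper95.M11UU4
import Cfsg.Agent.Lib.Helper95.M11UU5

/-!
# M11U glue: the delivered pieces of the helper7 lemma server "M11U" (S0420), restated in one namespace.
-/

set_option autoImplicit false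

namespace Cfsg.Agent.Helper7.M11UG

open Subgroup Cfsg.Agent.Helper7.M11U
open scoped Pointwise

/-! ## Part U: sharply 4-transitive groups of degree 11 -/

section U

variable {α : Type*} [Fintype α] [DecidableEq α]

theorem exists_unique_fixed (hα : Fintype.card α = 11) (K : Subgroup (Equiv.Perm α)) (hK : Sharp4 K)
    (X : Finset α) (hX : X.card = 4) :
    ∃! e : α, e ∉ X ∧ ∀ g ∈ K, X.image (g : α → α) = X → g e = e :=
  Cfsg.Agent.Helper38.M11U.exists_unique_fixed hα K hK X hX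

theorem fixed_involutive (hα : Fintype.card α = 11) (K : Subgroup (Equiv.Perm α)) (hK : Sharp4 K)
    (Y : Finset α) (hY : Y.card = 3) (d e : α) (hd : d ∉ Y) (he : e ∉ Y) (hde : d ≠ e)
    (h : ∀ g ∈ K, (insert d Y).image (g : α → α) = insert d Y → g e = e) :
    ∀ g ∈ K, (insert e Y).image (g : α → α) = insert e Y → g d = d :=
  Cfsg.Agent.Helper94.M11U.fixed_involutive hα K hK Y hY d e hd he hde h

theorem exists_steiner (hα : Fintype.card α = 11) (K : Subgroup (Equiv.Perm α)) (hK : Sharp4 K)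
    (h2 : ∀ X : Finset α, X.card = 4 → ∃! e : α, e ∉ X ∧ ∀ g ∈ K, X.image (g : α → α) = X → g e = e)
    (h3 : ∀ (Y : Finset α) (d e : α), Y.card = 3 → d ∉ Y → e ∉ Y → d ≠ e →
      (∀ g ∈ K, (insert d Y).image (g : α → α) = insert d Y → g e = e) →
      ∀ g ∈ K, (insert e Y).image (g : α → α) = insert e Y → g d = d) :
    ∃ B : Set (Finset α), Cfsg.IsSteinerSystem 4 5 B ∧ K ≤ Cfsg.setSystemAut B :=
  Cfsg.Agent.Helper95.M11U.exists_steiner hα K hK h2 h3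

theorem iso_of_sharp4 {β : Type*} [Fintype β] [DecidableEq β]
    (hα : Fintype.card α = 11) (hβ : Fintype.card β = 11)
    (K : Subgroup (Equiv.Perm α)) (H : Subgroup (Equiv.Perm β)) (hK : Sharp4 K) (hH : Sharp4 H)
    (hsK : ∃ B : Set (Finset α), Cfsg.IsSteinerSystem 4 5 B ∧ K ≤ Cfsg.setSystemAut B)
    (hsH : ∃ B : Set (Finset β), Cfsg.IsSteinerSystem 4 5 B ∧ H ≤ Cfsg.setSystemAut B) :
    Nonempty (K ≃* H) :=
  Cfsg.Agent.Helper95.M11U.iso_of_sharp4 hα hβ K H hK hH hsK hsH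

end U

/-! ## Part MOD: the concrete group -/

theorem model_sharp (d : Finset Cfsg.GolayPt) (hd : d ∈ Cfsg.dodecads) (p : Cfsg.GolayPt) (hp : p ∈ d) :
    Fintype.card {q : Cfsg.GolayPt // q ∈ d ∧ q ≠ p} = 11 ∧
    ∃ H : Subgroup (Equiv.Perm {q : Cfsg.GolayPt // q ∈ d ∧ q ≠ p}), Sharp4 H ∧
      Nonempty (↥(MulAction.stabilizer Cfsg.M24 d ⊓ MulAction.stabilizer Cfsg.M24 p) ≃* H) :=
  Cfsg.Agent.Helper95.M11U.model_sharp d hd p hp

/-! ## Part K: from a chain of subgroups to a sharply 4-transitive action -/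

theorem sharp_of_chain {G : Type*} [Group G] [Finite G] (hs : IsSimpleGroup G) (hc : Nat.card G = 7920)
    (M N0 O : Subgroup G) (s m n : G) (hch : Chain M N0 O s m n) :
    Nat.card (G ⧸ M) = 11 ∧
    ∃ K : Subgroup (Equiv.Perm (G ⧸ M)), Sharp4 K ∧ Nonempty (G ≃* K) :=
  Cfsg.Agent.Helper38.M11U.sharp_of_chain hs hc M N0 O s m n hch

/-! ## Part L: 3-local analysis -/

section L

variable {G : Type*} [Group G] [Finite G]

theorem base_of_simple (hs : IsSimpleGroup G) (hc : Nat.card G = 7920)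
    (h144 : ∀ R : Sylow 3 G, Nat.card (normalizer ((R : Subgroup G) : Set G)) = 144) : Base G :=
  Cfsg.Agent.Helper7.M11UB.base_of_simple hs hc h144

theorem loc_basic (B : Base G) :
    (∀ R : Sylow 3 G, Nat.card (R : Subgroup G) = 9) ∧
    (∀ R : Sylow 3 G, ∀ x ∈ (R : Subgroup G), ∀ y ∈ (R : Subgroup G), x * y = y * x) ∧
    (∀ R : Sylow 3 G, ∀ g : G, g ∈ centralizer ((R : Subgroup G) : Set G) → g ∈ (R : Subgroup G)) ∧
    Nat.card (Sylow 3 G) = 55 :=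
  Cfsg.Agent.Helper67.M11U.loc_basic B

theorem loc_exp3 (B : Base G)
    (hcard3 : ∀ R : Sylow 3 G, Nat.card (R : Subgroup G) = 9)
    (hcent : ∀ R : Sylow 3 G, ∀ g : G, g ∈ centralizer ((R : Subgroup G) : Set G) → g ∈ (R : Subgroup G)) :
    ∀ R : Sylow 3 G, ∀ x ∈ (R : Subgroup G), x ^ 3 = 1 :=
  Cfsg.Agent.Helper67.M11U.loc_exp3 B hcard3 hcent

theorem loc_exInv (B : Base G)
    (hcard3 : ∀ R : Sylow 3 G, Nat.card (R : Subgroup G) = 9)
    (hcomm : ∀ R : Sylow 3 G, ∀ x ∈ (R : Subgroup G), ∀ y ∈ (R : Subgroup G), x * y = y * x)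
    (hcent : ∀ R : Sylow 3 G, ∀ g : G, g ∈ centralizer ((R : Subgroup G) : Set G) → g ∈ (R : Subgroup G)) :
    ∀ R : Sylow 3 G, ∃ t : G, orderOf t = 2 ∧ Inverts t (R : Subgroup G) :=
  Cfsg.Agent.Helper42.M11U.loc_exInv B hcard3 hcomm hcent

theorem ti_cases (B : Base G)
    (hcard3 : ∀ R : Sylow 3 G, Nat.card (R : Subgroup G) = 9)
    (hcomm : ∀ R : Sylow 3 G, ∀ x ∈ (R : Subgroup G), ∀ y ∈ (R : Subgroup G), x * y = y * x)
    (R R' : Sylow 3 G) (hD : Nat.card ((R : Subgroup G) ⊓ (R' : Subgroup G) : Subgroup G) = 3)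
    (w : G) (hw : orderOf w = 2) (hwR : Inverts w (R : Subgroup G)) :
    (Nat.card (centralizer (((R : Subgroup G) ⊓ (R' : Subgroup G) : Subgroup G) : Set G)) = 36 ∨
      Nat.card (centralizer (((R : Subgroup G) ⊓ (R' : Subgroup G) : Subgroup G) : Set G)) = 72) ∧
    Nat.card (normalizer (((R : Subgroup G) ⊓ (R' : Subgroup G) : Subgroup G) : Set G)) =
      2 * Nat.card (centralizer (((R : Subgroup G) ⊓ (R' : Subgroup G) : Subgroup G) : Set G)) ∧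
    w ∈ normalizer (((R : Subgroup G) ⊓ (R' : Subgroup G) : Subgroup G) : Set G) ∧
    w ∉ centralizer (((R : Subgroup G) ⊓ (R' : Subgroup G) : Subgroup G) : Set G) :=
  Cfsg.Agent.Helper47.M11U.ti_cases B hcard3 hcomm R R' hD w hw hwR

theorem false_of_72' (B : Base G)
    (hcard3 : ∀ R : Sylow 3 G, Nat.card (R : Subgroup G) = 9)
    (hcomm : ∀ R : Sylow 3 G, ∀ x ∈ (R : Subgroup G), ∀ y ∈ (R : Subgroup G), x * y = y * x)
    (hcent : ∀ R : Sylow 3 G, ∀ g : G, g ∈ centralizer ((R : Subgroup G) : Set G) → g ∈ (R : Subgroup G))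
    (R R' : Sylow 3 G) (hne : R ≠ R') (D : Subgroup G) (hD : Nat.card D = 3)
    (hDR : D ≤ (R : Subgroup G)) (hDR' : D ≤ (R' : Subgroup G))
    (hC : Nat.card (centralizer (D : Set G)) = 72) (hN : Nat.card (normalizer (D : Set G)) = 144) : False :=
  Cfsg.Agent.Helper47.M11U.false_of_72' B hcard3 hcomm hcent R R' hne D hD hDR hDR' hC hN

theorem loc_ti (B : Base G)
    (hcard3 : ∀ R : Sylow 3 G, Nat.card (R : Subgroup G) = 9)
    (hcomm : ∀ R : Sylow 3 G, ∀ x ∈ (R : Subgroup G), ∀ y ∈ (R : Subgroup G), x * y = y * x)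
    (h3 : ∀ R : Sylow 3 G, ∃ t : G, orderOf t = 2 ∧ Inverts t (R : Subgroup G))
    (h4a : ∀ (R R' : Sylow 3 G), Nat.card ((R : Subgroup G) ⊓ (R' : Subgroup G) : Subgroup G) = 3 →
      ∀ w : G, orderOf w = 2 → Inverts w (R : Subgroup G) →
      (Nat.card (centralizer (((R : Subgroup G) ⊓ (R' : Subgroup G) : Subgroup G) : Set G)) = 36 ∨
        Nat.card (centralizer (((R : Subgroup G) ⊓ (R' : Subgroup G) : Subgroup G) : Set G)) = 72) ∧
      Nat.card (normalizer (((R : Subgroup G) ⊓ (R' : Subgroup G) : Subgroup G) : Set G)) =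
        2 * Nat.card (centralizer (((R : Subgroup G) ⊓ (R' : Subgroup G) : Subgroup G) : Set G)) ∧
      w ∈ normalizer (((R : Subgroup G) ⊓ (R' : Subgroup G) : Subgroup G) : Set G) ∧
      w ∉ centralizer (((R : Subgroup G) ⊓ (R' : Subgroup G) : Subgroup G) : Set G))
    (h4c : ∀ (R R' : Sylow 3 G), R ≠ R' → ∀ D : Subgroup G, Nat.card D = 3 → D ≤ (R : Subgroup G) →
      D ≤ (R' : Subgroup G) → Nat.card (centralizer (D : Set G)) = 72 →
      Nat.card (normalizer (D : Set G)) = 144 → False) :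
    ∀ R R' : Sylow 3 G, R ≠ R' → ∀ x : G, x ∈ (R : Subgroup G) → x ∈ (R' : Subgroup G) → x = 1 :=
  Cfsg.Agent.Helper41.M11U.loc_ti B hcard3 hcomm h3 h4a h4c

theorem loc_c18 (B : Base G)
    (hcard3 : ∀ R : Sylow 3 G, Nat.card (R : Subgroup G) = 9)
    (hcomm : ∀ R : Sylow 3 G, ∀ x ∈ (R : Subgroup G), ∀ y ∈ (R : Subgroup G), x * y = y * x)
    (hcent : ∀ R : Sylow 3 G, ∀ g : G, g ∈ centralizer ((R : Subgroup G) : Set G) → g ∈ (R : Subgroup G))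
    (hti : ∀ R R' : Sylow 3 G, R ≠ R' → ∀ x : G, x ∈ (R : Subgroup G) → x ∈ (R' : Subgroup G) → x = 1) :
    ∀ z : G, orderOf z = 3 → Nat.card (centralizer ({z} : Set G)) = 18 :=
  Cfsg.Agent.Helper42.M11U.loc_c18 B hcard3 hcomm hcent hti

theorem loc_three (B : Base G)
    (hcard3 : ∀ R : Sylow 3 G, Nat.card (R : Subgroup G) = 9)
    (hcomm : ∀ R : Sylow 3 G, ∀ x ∈ (R : Subgroup G), ∀ y ∈ (R : Subgroup G), x * y = y * x)
    (hcent : ∀ R : Sylow 3 G, ∀ g : G, g ∈ centralizer ((R : Subgroup G) : Set G) → g ∈ (R : Subgroup G))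
    (hn55 : Nat.card (Sylow 3 G) = 55)
    (h3 : ∀ R : Sylow 3 G, ∃ t : G, orderOf t = 2 ∧ Inverts t (R : Subgroup G)) :
    ∀ t : G, orderOf t = 2 → Nat.card {R : Sylow 3 G // Inverts t (R : Subgroup G)} = 3 :=
  Cfsg.Agent.Helper41.M11U.loc_three B hcard3 hcomm hcent hn55 h3

theorem loc_seven (B : Base G)
    (hcard3 : ∀ R : Sylow 3 G, Nat.card (R : Subgroup G) = 9)
    (hcomm : ∀ R : Sylow 3 G, ∀ x ∈ (R : Subgroup G), ∀ y ∈ (R : Subgroup G), x * y = y * x)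
    (hcent : ∀ R : Sylow 3 G, ∀ g : G, g ∈ centralizer ((R : Subgroup G) : Set G) → g ∈ (R : Subgroup G))
    (hn55 : Nat.card (Sylow 3 G) = 55)
    (h3 : ∀ R : Sylow 3 G, ∃ t : G, orderOf t = 2 ∧ Inverts t (R : Subgroup G))
    (hti : ∀ R R' : Sylow 3 G, R ≠ R' → ∀ x : G, x ∈ (R : Subgroup G) → x ∈ (R' : Subgroup G) → x = 1)
    (hc18 : ∀ z : G, orderOf z = 3 → Nat.card (centralizer ({z} : Set G)) = 18) :
    ∀ t : G, orderOf t = 2 →
      Nat.card {R : Sylow 3 G // t ∈ normalizer ((R : Subgroup G) : Set G)} = 7 :=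
  Cfsg.Agent.Helper60.M11U.loc_seven B hcard3 hcomm hcent hn55 h3 hti hc18

end L

/-! ## Part C: the configuration around an involution `t` inverting `R, R2, R3` -/

section C

variable {G : Type*} [Group G] [Finite G] {t : G} {R R2 R3 : Sylow 3 G}

theorem conf_cS (B : Base G) (L : Loc G) (T : Tri t R R2 R3) :
    Nat.card (normalizer ((R : Subgroup G) : Set G) ⊓ centralizer ({t} : Set G) : Subgroup G) = 16 :=
  Cfsg.Agent.Helper92.M11U.conf_cS B L T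

theorem conf_sw23 (B : Base G) (L : Loc G) (T : Tri t R R2 R3)
    (hS : Nat.card (normalizer ((R : Subgroup G) : Set G) ⊓ centralizer ({t} : Set G) : Subgroup G) = 16)
    (hS2 : Nat.card (normalizer ((R2 : Subgroup G) : Set G) ⊓ centralizer ({t} : Set G) : Subgroup G) = 16)
    (hS3 : Nat.card (normalizer ((R3 : Subgroup G) : Set G) ⊓ centralizer ({t} : Set G) : Subgroup G) = 16) :
    ∃ s : G, s ∈ normalizer ((R : Subgroup G) : Set G) ∧ s * t = t * s ∧ s • R2 = R3 ∧ s • R3 = R2 :=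
  Cfsg.Agent.Helper20.M11U.conf_sw23 B L T hS hS2 hS3

theorem conf_O (B : Base G) (L : Loc G) (T : Tri t R R2 R3)
    (hS : Nat.card (normalizer ((R : Subgroup G) : Set G) ⊓ centralizer ({t} : Set G) : Subgroup G) = 16)
    (hsw : ∃ s : G, s ∈ normalizer ((R : Subgroup G) : Set G) ∧ s * t = t * s ∧ s • R2 = R3 ∧ s • R3 = R2) :
    Nat.card (normalizer ((R : Subgroup G) : Set G) ⊓ normalizer ((R2 : Subgroup G) : Set G) : Subgroup G) = 8 ∧
    ∀ o : G, o ∈ normalizer ((R : Subgroup G) : Set G) → o ∈ normalizer ((R2 : Subgroup G) : Set G) →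
      o * t = t * o ∧ o ∈ normalizer ((R3 : Subgroup G) : Set G) :=
  Cfsg.Agent.Helper92.M11U.conf_O B L T hS hsw

theorem conf_Oreg (B : Base G) (L : Loc G) (T : Tri t R R2 R3)
    (hO : Nat.card (normalizer ((R : Subgroup G) : Set G) ⊓ normalizer ((R2 : Subgroup G) : Set G) : Subgroup G) = 8)
    (hOt : ∀ o : G, o ∈ normalizer ((R : Subgroup G) : Set G) → o ∈ normalizer ((R2 : Subgroup G) : Set G) →
      o * t = t * o ∧ o ∈ normalizer ((R3 : Subgroup G) : Set G)) :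
    ∀ o : G, o ∈ normalizer ((R : Subgroup G) : Set G) → o ∈ normalizer ((R2 : Subgroup G) : Set G) →
      ∀ r ∈ (R : Subgroup G), r ≠ 1 → o * r * o⁻¹ = r → o = 1 :=
  Cfsg.Agent.Helper20.M11U.conf_Oreg B L T hO hOt

theorem conf_sw12 (B : Base G) (L : Loc G) (T : Tri t R R2 R3)
    (hS : Nat.card (normalizer ((R : Subgroup G) : Set G) ⊓ centralizer ({t} : Set G) : Subgroup G) = 16)
    (hsw : ∃ s : G, s ∈ normalizer ((R : Subgroup G) : Set G) ∧ s * t = t * s ∧ s • R2 = R3 ∧ s • R3 = R2) :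
    ∃ g : G, g * t = t * g ∧ g • R = R2 ∧ g • R2 = R ∧ g • R3 = R3 :=
  Cfsg.Agent.Helper20.M11U.conf_sw12 B L T hS hsw

end C

/-! ## Part G: the graph on the 55 Sylow 3-subgroups.
`Adj` is `G`-invariant: `Adj (g • X) (g • Y) ↔ Adj X Y` (conjugate the involution) - reprove it where needed. -/

section Gr

variable {G : Type*} [Group G] [Finite G] {t : G} {R R2 R3 : Sylow 3 G}

theorem adj_iff (B : Base G) (L : Loc G) (T : Tri t R R2 R3) :
    (∀ X : Sylow 3 G, Adj R X ↔ ∃ r ∈ (R : Subgroup G), X = r • R2 ∨ X = r • R3) ∧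
    (∀ r ∈ (R : Subgroup G), ∀ r' ∈ (R : Subgroup G), r • R2 ≠ r' • R3) ∧
    (∀ r ∈ (R : Subgroup G), ∀ r' ∈ (R : Subgroup G), r • R2 = r' • R2 → r = r') :=
  Cfsg.Agent.Helper22.M11U.adj_iff B L T

theorem nonadj_trans (B : Base G) (L : Loc G) (T : Tri t R R2 R3) (Cf : Conf t R R2 R3)
    (hadj : ∀ (t' : G) (P P2 P3 : Sylow 3 G), Tri t' P P2 P3 →
      (∀ X : Sylow 3 G, Adj P X ↔ ∃ r ∈ (P : Subgroup G), X = r • P2 ∨ X = r • P3) ∧
      (∀ r ∈ (P : Subgroup G), ∀ r' ∈ (P : Subgroup G), r • P2 ≠ r' • P3) ∧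
      (∀ r ∈ (P : Subgroup G), ∀ r' ∈ (P : Subgroup G), r • P2 = r' • P2 → r = r')) :
    ∀ X Y : Sylow 3 G, X ≠ R → ¬ Adj R X → Y ≠ R → ¬ Adj R Y →
      ∃ n : G, n ∈ normalizer ((R : Subgroup G) : Set G) ∧ n • X = Y :=
  Cfsg.Agent.Helper1.M11U.nonadj_trans B L T Cf hadj

theorem all_or_none (B : Base G) (L : Loc G) (T : Tri t R R2 R3) (Cf : Conf t R R2 R3) :
    ((∀ r ∈ (R : Subgroup G), r ≠ 1 → Adj R2 (r • R2)) ∨ (∀ r ∈ (R : Subgroup G), r ≠ 1 → ¬ Adj R2 (r • R2))) ∧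
    ((∀ r ∈ (R : Subgroup G), r ≠ 1 → Adj R2 (r • R3)) ∨ (∀ r ∈ (R : Subgroup G), r ≠ 1 → ¬ Adj R2 (r • R3))) :=
  Cfsg.Agent.Helper33.M11U.all_or_none B L T Cf

theorem not_both (B : Base G) (L : Loc G) (T : Tri t R R2 R3) (Cf : Conf t R R2 R3)
    (hadj : ∀ (t' : G) (P P2 P3 : Sylow 3 G), Tri t' P P2 P3 →
      (∀ X : Sylow 3 G, Adj P X ↔ ∃ r ∈ (P : Subgroup G), X = r • P2 ∨ X = r • P3) ∧
      (∀ r ∈ (P : Subgroup G), ∀ r' ∈ (P : Subgroup G), r • P2 ≠ r' • P3) ∧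
      (∀ r ∈ (P : Subgroup G), ∀ r' ∈ (P : Subgroup G), r • P2 = r' • P2 → r = r'))
    (ha : ∀ r ∈ (R : Subgroup G), r ≠ 1 → Adj R2 (r • R2))
    (hb : ∀ r ∈ (R : Subgroup G), r ≠ 1 → Adj R2 (r • R3)) : False :=
  Cfsg.Agent.Helper63.M11U.not_both B L T Cf hadj ha hb

theorem not_nab (B : Base G) (L : Loc G) (T : Tri t R R2 R3) (Cf : Conf t R R2 R3)
    (hadj : ∀ (t' : G) (P P2 P3 : Sylow 3 G), Tri t' P P2 P3 →
      (∀ X : Sylow 3 G, Adj P X ↔ ∃ r ∈ (P : Subgroup G), X = r • P2 ∨ X = r • P3) ∧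
      (∀ r ∈ (P : Subgroup G), ∀ r' ∈ (P : Subgroup G), r • P2 ≠ r' • P3) ∧
      (∀ r ∈ (P : Subgroup G), ∀ r' ∈ (P : Subgroup G), r • P2 = r' • P2 → r = r'))
    (hna : ∀ r ∈ (R : Subgroup G), r ≠ 1 → ¬ Adj R2 (r • R2))
    (hb : ∀ r ∈ (R : Subgroup G), r ≠ 1 → Adj R2 (r • R3)) : False :=
  Cfsg.Agent.Helper51.M11U.not_nab B L T Cf hadj hna hb

theorem counts_of_nanb (B : Base G) (L : Loc G) (T : Tri t R R2 R3) (Cf : Conf t R R2 R3)
    (hadj : ∀ (t' : G) (P P2 P3 : Sylow 3 G), Tri t' P P2 P3 →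
      (∀ X : Sylow 3 G, Adj P X ↔ ∃ r ∈ (P : Subgroup G), X = r • P2 ∨ X = r • P3) ∧
      (∀ r ∈ (P : Subgroup G), ∀ r' ∈ (P : Subgroup G), r • P2 ≠ r' • P3) ∧
      (∀ r ∈ (P : Subgroup G), ∀ r' ∈ (P : Subgroup G), r • P2 = r' • P2 → r = r'))
    (htr : ∀ X Y : Sylow 3 G, X ≠ R → ¬ Adj R X → Y ≠ R → ¬ Adj R Y →
      ∃ n : G, n ∈ normalizer ((R : Subgroup G) : Set G) ∧ n • X = Y)
    (hna : ∀ r ∈ (R : Subgroup G), r ≠ 1 → ¬ Adj R2 (r • R2))
    (hnb : ∀ r ∈ (R : Subgroup G), r ≠ 1 → ¬ Adj R2 (r • R3)) :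
    (∀ X : Sylow 3 G, Nat.card {Y : Sylow 3 G // Adj X Y} = 18) ∧
    (∀ X Y : Sylow 3 G, Adj X Y → Nat.card {Z : Sylow 3 G // Adj X Z ∧ Adj Y Z} = 1) ∧
    (∀ X Y : Sylow 3 G, X ≠ Y → ¬ Adj X Y → Nat.card {Z : Sylow 3 G // Adj X Z ∧ Adj Y Z} = 8) :=
  Cfsg.Agent.Helper4.M11U.counts_of_nanb B L T Cf hadj htr hna hnb

theorem no_srg_counts {V : Type*} [Finite V] (adj : V → V → Prop)
    (hsymm : ∀ x y, adj x y → adj y x) (hirr : ∀ x, ¬ adj x x) (hV : Nat.card V = 55)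
    (hk : ∀ x, Nat.card {y // adj x y} = 18)
    (hl : ∀ x y, adj x y → Nat.card {z // adj x z ∧ adj y z} = 1)
    (hm : ∀ x y, x ≠ y → ¬ adj x y → Nat.card {z // adj x z ∧ adj y z} = 8) : False :=
  Cfsg.Agent.Helper60.M11U.no_srg_counts adj hsymm hirr hV hk hl hm

theorem chain_of_a (B : Base G) (L : Loc G) (T : Tri t R R2 R3) (Cf : Conf t R R2 R3)
    (hadj : ∀ (t' : G) (P P2 P3 : Sylow 3 G), Tri t' P P2 P3 →
      (∀ X : Sylow 3 G, Adj P X ↔ ∃ r ∈ (P : Subgroup G), X = r • P2 ∨ X = r • P3) ∧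
      (∀ r ∈ (P : Subgroup G), ∀ r' ∈ (P : Subgroup G), r • P2 ≠ r' • P3) ∧
      (∀ r ∈ (P : Subgroup G), ∀ r' ∈ (P : Subgroup G), r • P2 = r' • P2 → r = r'))
    (ha : ∀ r ∈ (R : Subgroup G), r ≠ 1 → Adj R2 (r • R2))
    (hnb : ∀ r ∈ (R : Subgroup G), r ≠ 1 → ¬ Adj R2 (r • R3)) :
    ∃ (M N0 O : Subgroup G) (s m n : G), Chain M N0 O s m n :=
  Cfsg.Agent.Helper1.M11U.chain_of_a B L T Cf hadj ha hnb

end Gr

end Cfsg.Agent.Helper7.M11UG
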