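import Mathlib
import Cfsg.Prelude.Def_Sporadic
import Cfsg.Prelude.Def_Sporadic_a
import Cfsg.Agent.Lib.Helper7.M11UDefs
import Cfsg.Agent.Lib.Helper7.M11UGlue

/-!
# Uniqueness of the simple group of order 7920: assembly of the "M11U" pieces (helper7)
-/

set_option autoImplicit false

namespace Cfsg.Agent.Helper7.M11U

open Subgroup Cfsg.Agent.Helper7.M11UG
open scoped Pointwise

variable {G : Type*} [Group G] [Finite G]

theorem loc_of_base (B : Base G) : Loc G := by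
  obtain ⟨h9, hcomm, hcent, h55⟩ := loc_basic B
  have hexp := loc_exp3 B h9 hcent
  have hinv := loc_exInv B h9 hcomm hcent
  have hti := loc_ti B h9 hcomm hinv
    (fun R R' hD w hw hwR => ti_cases B h9 hcomm R R' hD w hw hwR)
    (fun R R' hne D hD hDR hDR' hC hN => false_of_72' B h9 hcomm hcent R R' hne D hD hDR hDR' hC hN)
  have hc18 := loc_c18 B h9 hcomm hcent hti
  have h3 := loc_three B h9 hcomm hcent h55 hinv
  have h7 := loc_seven B h9 hcomm hcent h55 hinv hti hc18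
  exact ⟨h9, hcomm, hcent, h55, hexp, hinv, hti, hc18, h3, h7⟩

theorem conf_of_tri (B : Base G) (L : Loc G) {t : G} {R R2 R3 : Sylow 3 G} (T : Tri t R R2 R3) :
    Conf t R R2 R3 := by
  have hS := conf_cS B L T
  have T2 : Tri t R2 R R3 := ⟨T.ht, T.i2, T.i1, T.i3, T.ne12.symm, T.ne23, T.ne13⟩
  have T3 : Tri t R3 R R2 := ⟨T.ht, T.i3, T.i1, T.i2, T.ne13.symm, T.ne23.symm, T.ne12⟩
  have hS2 := conf_cS B L T2
  have hS3 := conf_cS B L T3
  have hsw := conf_sw23 B L T hS hS2 hS3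
  obtain ⟨hO, hOt⟩ := conf_O B L T hS hsw
  have hreg := conf_Oreg B L T hO hOt
  have h12 := conf_sw12 B L T hS hsw
  exact ⟨hS, hO, hOt, hreg, hsw, h12⟩

theorem adj_symm' {R R' : Sylow 3 G} (h : Adj R R') : Adj R' R := by
  obtain ⟨hne, t, ht, h1, h2⟩ := h
  exact ⟨hne.symm, t, ht, h2, h1⟩

theorem adj_irrefl' (R : Sylow 3 G) : ¬ Adj R R := fun h => h.1 rfl

theorem chain_exists (B : Base G) (L : Loc G) :
    ∃ (M N0 O : Subgroup G) (s m n : G), Chain M N0 O s m n := by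
  have h2 : 2 ∣ Nat.card G := by rw [B.card]; norm_num
  haveI : Fact (Nat.Prime 2) := ⟨Nat.prime_two⟩
  obtain ⟨t, ht⟩ := exists_prime_orderOf_dvd_card' 2 h2
  have h3 := L.three t ht
  haveI : Fintype {R : Sylow 3 G // Inverts t (R : Subgroup G)} := Fintype.ofFinite _
  rw [Nat.card_eq_fintype_card] at h3
  obtain ⟨a, b, c, hab, hac, hbc⟩ :=
    (Fintype.two_lt_card_iff (α := {R : Sylow 3 G // Inverts t (R : Subgroup G)})).mp (by omega)
  have T : Tri t a.1 b.1 c.1 :=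
    ⟨ht, a.2, b.2, c.2, fun h => hab (Subtype.ext h), fun h => hac (Subtype.ext h),
      fun h => hbc (Subtype.ext h)⟩
  have Cf := conf_of_tri B L T
  have hadj : ∀ (t' : G) (P P2 P3 : Sylow 3 G), Tri t' P P2 P3 →
      (∀ X : Sylow 3 G, Adj P X ↔ ∃ r ∈ (P : Subgroup G), X = r • P2 ∨ X = r • P3) ∧
      (∀ r ∈ (P : Subgroup G), ∀ r' ∈ (P : Subgroup G), r • P2 ≠ r' • P3) ∧
      (∀ r ∈ (P : Subgroup G), ∀ r' ∈ (P : Subgroup G), r • P2 = r' • P2 → r = r') :=
    fun t' P P2 P3 T' => adj_iff B L T'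
  obtain ⟨ha | hna, hb | hnb⟩ := all_or_none B L T Cf
  · exact (not_both B L T Cf hadj ha hb).elim
  · exact chain_of_a B L T Cf hadj ha hnb
  · exact (not_nab B L T Cf hadj hna hb).elim
  · have htr := nonadj_trans B L T Cf hadj
    obtain ⟨hk, hl, hm⟩ := counts_of_nanb B L T Cf hadj htr hna hnb
    exact (no_srg_counts (V := Sylow 3 G) Adj (fun x y h => adj_symm' h) adj_irrefl' L.n55
      hk hl hm).elim

theorem iso_model (hs : IsSimpleGroup G) (hc : Nat.card G = 7920)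
    (h144 : ∀ R : Sylow 3 G, Nat.card (normalizer ((R : Subgroup G) : Set G)) = 144)
    (d : Finset Cfsg.GolayPt) (hd : d ∈ Cfsg.dodecads) (p : Cfsg.GolayPt) (hp : p ∈ d) :
    Nonempty (G ≃* ↥(MulAction.stabilizer Cfsg.M24 d ⊓ MulAction.stabilizer Cfsg.M24 p)) := by
  have B := base_of_simple hs hc h144
  have L := loc_of_base B
  obtain ⟨M, N0, O, s, m, n, hch⟩ := chain_exists B L
  obtain ⟨h11, K, hK, ⟨eK⟩⟩ := sharp_of_chain hs hc M N0 O s m n hch
  obtain ⟨hβ, H, hH, ⟨eH⟩⟩ := model_sharp d hd p hp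
  haveI : Fintype (G ⧸ M) := Fintype.ofFinite _
  haveI : DecidableEq (G ⧸ M) := Classical.decEq _
  have hα : Fintype.card (G ⧸ M) = 11 := by rw [← Nat.card_eq_fintype_card]; exact h11
  have stK := exists_steiner hα K hK (fun X hX => exists_unique_fixed hα K hK X hX)
    (fun Y d e hY hd he hde h => fixed_involutive hα K hK Y hY d e hd he hde h)
  have stH := exists_steiner hβ H hH (fun X hX => exists_unique_fixed hβ H hH X hX)
    (fun Y d e hY hd he hde h => fixed_involutive hβ H hH Y hY d e hd he hde h)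
  obtain ⟨e⟩ := iso_of_sharp4 hα hβ K H hK hH stK stH
  exact ⟨(eK.trans e).trans eH.symm⟩

end Cfsg.Agent.Helper7.M11U
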