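import Mathlib
import Cfsg.Prelude.Def_Sporadic_a

/-!
# CW: Conway's characterisation of the rank-24 lattice (S0406) -- shared definitions

Everything lives in coordinates `V = Fin 24 → ℤ` with the PLAIN sum of squares (8 times the
customary norm).  A "Conway lattice" `CL Λ` is an additive subgroup of `V` that
* contains all `4 e_i ± 4 e_j`,
* has all coordinates of each vector of the same parity,
* has minimal sum of squares `32`, all sums of squares divisible by `16`,
* has exactly `196560` vectors of sum of squares `32`.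
-/

set_option autoImplicit false

namespace Cfsg.Agent.Helper7.CW

/-- The ambient coordinate space. -/
abbrev V : Type := Fin 24 → ℤ

/-- Conway lattice in coordinates (sum of squares = 8 x customary norm). -/
structure CL (Λ : AddSubgroup V) : Prop where
  pair : ∀ i j : Fin 24, i ≠ j →
    ((Pi.single i 4 + Pi.single j 4 : V) ∈ Λ ∧ (Pi.single i 4 - Pi.single j 4 : V) ∈ Λ)
  par : ∀ y ∈ Λ, ∀ i j : Fin 24, (2 : ℤ) ∣ y i - y j
  min : ∀ y ∈ Λ, y ≠ 0 → 32 ≤ ∑ i, y i ^ 2
  div : ∀ y ∈ Λ, (16 : ℤ) ∣ ∑ i, y i ^ 2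
  cnt : {y : V | y ∈ Λ ∧ ∑ i, y i ^ 2 = 32}.ncard = 196560

/-- Doubling. -/
def dbl (a : V) : V := fun i => 2 * a i

/-- Reduction modulo 2. -/
def redV (a : V) : Fin 24 → ZMod 2 := fun i => ((a i : ℤ) : ZMod 2)

theorem dbl_add (a b : V) : dbl (a + b) = dbl a + dbl b := by
  funext i; simp [dbl, mul_add]

theorem dbl_zero : dbl 0 = 0 := by
  funext i; simp [dbl]

theorem redV_add (a b : V) : redV (a + b) = redV a + redV b := by
  funext i; simp [redV]

theorem redV_zero : redV 0 = 0 := by
  funext i; simp [redV]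

/-- The binary code of a lattice: the words `a mod 2` for the vectors `2a` of the lattice
(i.e. for its vectors with all coordinates even, `w i = 1` iff the coordinate is `2 mod 4`). -/
def code (Λ : AddSubgroup V) : Submodule (ZMod 2) (Fin 24 → ZMod 2) where
  carrier := {w | ∃ a : V, dbl a ∈ Λ ∧ redV a = w}
  zero_mem' := ⟨0, by rw [dbl_zero]; exact Λ.zero_mem, redV_zero⟩
  add_mem' := by
    rintro _ _ ⟨a, ha, rfl⟩ ⟨b, hb, rfl⟩
    exact ⟨a + b, by rw [dbl_add]; exact Λ.add_mem ha hb, redV_add a b⟩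
  smul_mem' := by
    rintro c _ ⟨a, ha, rfl⟩
    have hc : c = 0 ∨ c = 1 := by
      revert c; decide
    rcases hc with rfl | rfl
    · exact ⟨0, by rw [dbl_zero]; exact Λ.zero_mem, by rw [redV_zero, zero_smul]⟩
    · exact ⟨a, ha, by rw [one_smul]⟩

theorem mem_code {Λ : AddSubgroup V} {w : Fin 24 → ZMod 2} :
    w ∈ code Λ ↔ ∃ a : V, dbl a ∈ Λ ∧ redV a = w := Iff.rfl

/-- The normalised odd minimal vector `(-3, 1^23)` with the `-3` in position `k`. -/
def uvec (k : Fin 24) : V := fun i => if i = k then -3 else 1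

/-- Coordinate map of a lattice `(ℤ^24, B)` with respect to a frame `v`. -/
def coord (B : Matrix (Fin 24) (Fin 24) ℤ) (v : Fin 24 → V) : V →+ V where
  toFun x := fun i => x ⬝ᵥ (B.mulVec (v i))
  map_zero' := by funext i; simp
  map_add' x y := by funext i; simp [add_dotProduct]

theorem coord_apply (B : Matrix (Fin 24) (Fin 24) ℤ) (v : Fin 24 → V) (x : V) (i : Fin 24) :
    coord B v x i = x ⬝ᵥ (B.mulVec (v i)) := rfl

end Cfsg.Agent.Helper7.CW
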