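import Cfsg.Agent.Lib.Helper7.Co0Order

/-!
# Transitivity of a vector stabiliser on the minimal vectors orthogonal to it
-/

set_option autoImplicit false

namespace Cfsg.Agent.Helper7
open Cfsg Cfsg.Agent.Helper91 Cfsg.Agent.Helper92
open scoped Pointwise

/-- automorphisms preserve inner products -/
theorem co0_dot (g : Equiv.Perm leechLattice) (hg : g ∈ Co0) (x y : leechLattice) :
    dotInt (g x).1 (g y).1 = dotInt x.1 y.1 := by
  have h1 : sqNorm (g (x + y)).1 = sqNorm (x + y).1 := hg.2 _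
  rw [hg.1] at h1
  have h2 : sqNorm ((g x).1 + (g y).1) = sqNorm (x.1 + y.1) := h1
  rw [sqNorm_add, sqNorm_add, hg.2, hg.2] at h2
  omega

/-- the stabiliser of the first frame vector is transitive on the minimal vectors having
inner product 32 with it -/
theorem stab_frame_trans (a b : leechLattice) (ha : sqNorm a.1 = 32) (hb : sqNorm b.1 = 32)
    (ha4 : a.1 none = 4) (hb4 : b.1 none = 4) :
    ∃ n : Equiv.Perm leechLattice, n ∈ Co0 ∧ n (frameVec none) = frameVec none ∧ n a = b := by
  obtain ⟨j1, hj1, hj14, hr1⟩ := f1_form a ha (by rw [ha4]; rfl)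
  obtain ⟨j2, hj2, hj24, hr2⟩ := f1_form b hb (by rw [hb4]; rfl)
  obtain ⟨σ, hσ, hmap⟩ := m24_five_trans [none, j1] [none, j2] (by simp [Ne.symm hj1])
    (by simp [Ne.symm hj2]) rfl (by norm_num)
  simp only [List.map_cons, List.map_nil, List.cons.injEq, and_true] at hmap
  obtain ⟨hσ0, hσ1⟩ := hmap
  obtain ⟨c, hc, hc0, hcj⟩ := sign_fix2 none j2 (Ne.symm hj2) False (a.1 j1 ≠ b.1 j2)
  have hc0' : (none : GolayPt) ∉ c := fun h => hc0.mp h
  refine ⟨monoPerm σ c hσ hc, monoPerm_mem σ c hσ hc, ?_, ?_⟩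
  · apply Subtype.ext
    rw [monoPerm_frame, hσ0, if_neg hc0', frameVec_val]
  · apply Subtype.ext
    rw [monoPerm_val]
    funext i
    rw [signedPerm_apply]
    by_cases hi0 : i = none
    · have e : σ.symm i = none := by rw [Equiv.symm_apply_eq, hσ0, hi0]
      rw [e, hi0, if_neg hc0', ha4, hb4]
    · by_cases hij : i = j2
      · have e : σ.symm i = j1 := by rw [Equiv.symm_apply_eq, hσ1, hij]
        rw [e, hij]
        by_cases hc2 : j2 ∈ c
        · rw [if_pos hc2]
          have := hcj.mp hc2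
          omega
        · rw [if_neg hc2]
          have : ¬ (a.1 j1 ≠ b.1 j2) := fun hh => hc2 (hcj.mpr hh)
          omega
      · have e0 : σ.symm i ≠ none := by
          rw [Ne, Equiv.symm_apply_eq, hσ0]; exact hi0
        have e1 : σ.symm i ≠ j1 := by
          rw [Ne, Equiv.symm_apply_eq, hσ1]; exact hij
        rw [hr1 _ e0 e1, hr2 i hi0 hij]
        split_ifs <;> norm_num

/-- The stabiliser of a minimal vector is transitive on the minimal vectors orthogonal to it. -/
theorem co0_orth_trans (v w w' : leechLattice) (hv : sqNorm v.1 = 32) (hw : sqNorm w.1 = 32)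
    (hw' : sqNorm w'.1 = 32) (hd : dotInt v.1 w.1 = 0) (hd' : dotInt v.1 w'.1 = 0) :
    ∃ g : Equiv.Perm leechLattice, g ∈ Co0 ∧ g v = v ∧ g w = w' := by
  have hu : sqNorm (v + w : leechLattice).1 = 64 := by
    show sqNorm (v.1 + w.1) = 64
    rw [sqNorm_add, hv, hw, hd]; norm_num
  have hu' : sqNorm (v + w' : leechLattice).1 = 64 := by
    show sqNorm (v.1 + w'.1) = 64
    rw [sqNorm_add, hv, hw', hd']; norm_num
  obtain ⟨g1, hg1, hg1u⟩ := co0_trans64 (v + w) (v + w') hu hu'
  obtain ⟨k, hk, hku⟩ := (orb64 (v + w') hu').symm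
  -- the two minimal vectors to be matched
  have hdot1 : dotInt (k (g1 v)).1 (frameVec none).1 = 32 := by
    rw [← hku, co0_dot k hk, ← hg1u, co0_dot g1 hg1]
    show dotInt v.1 (v.1 + w.1) = 32
    rw [dotInt_comm, dotInt_add_left, dotInt_comm w.1, hd]
    have : dotInt v.1 v.1 = sqNorm v.1 := by
      unfold dotInt sqNorm
      apply Finset.sum_congr rfl
      intro i _; ring
    rw [this, hv]; norm_num
  have hdot2 : dotInt (k v).1 (frameVec none).1 = 32 := by
    rw [← hku, co0_dot k hk]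
    show dotInt v.1 (v.1 + w'.1) = 32
    rw [dotInt_comm, dotInt_add_left, dotInt_comm w'.1, hd']
    have : dotInt v.1 v.1 = sqNorm v.1 := by
      unfold dotInt sqNorm
      apply Finset.sum_congr rfl
      intro i _; ring
    rw [this, hv]; norm_num
  have hc1 : (k (g1 v)).1 none = 4 := by
    rw [dotInt_comm, frameVec_val, dotInt_single] at hdot1
    omega
  have hc2 : (k v).1 none = 4 := by
    rw [dotInt_comm, frameVec_val, dotInt_single] at hdot2
    omega
  obtain ⟨n, hn, hnf, hna⟩ := stab_frame_trans (k (g1 v)) (k v) (by rw [hk.2, hg1.2, hv])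
    (by rw [hk.2, hv]) hc1 hc2
  refine ⟨k⁻¹ * n * k * g1, Co0.mul_mem (Co0.mul_mem (Co0.mul_mem (Co0.inv_mem hk) hn) hk) hg1, ?_, ?_⟩
  · simp only [Equiv.Perm.mul_apply]
    rw [hna]
    simp
  · have hgu : (k⁻¹ * n * k * g1) (v + w) = v + w' := by
      simp only [Equiv.Perm.mul_apply]
      rw [hg1u, hku, hnf, ← hku]
      simp
    have hgv : (k⁻¹ * n * k * g1) v = v := by
      simp only [Equiv.Perm.mul_apply]
      rw [hna]
      simp
    have hadd := (Co0.mul_mem (Co0.mul_mem (Co0.mul_mem (Co0.inv_mem hk) hn) hk) hg1).1 v w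
    rw [hgu, hgv] at hadd
    exact (add_left_cancel hadd).symm

end Cfsg.Agent.Helper7
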