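import Cfsg.Agent.Lib.Helper7.LeechCountAt
import Cfsg.Agent.Lib.Helper7.Co0Pairs

/-!
# The census of minimal vectors by inner product with a fixed minimal vector
-/

set_option autoImplicit false

namespace Cfsg.Agent.Helper7
open Cfsg Cfsg.Agent.Helper91

/-- counts by inner product are constant along orbits -/
theorem ncard_dot_orbit (v v' : leechLattice) (h : Orb v v') (n D : ℤ) :
    {w : GolayPt → ℤ | w ∈ leechLattice ∧ sqNorm w = n ∧ dotInt v'.1 w = D}.ncard =
      {w : GolayPt → ℤ | w ∈ leechLattice ∧ sqNorm w = n ∧ dotInt v.1 w = D}.ncard := by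
  obtain ⟨g, hg, rfl⟩ := h
  symm
  apply Set.ncard_congr (fun w hw => (g ⟨w, hw.1⟩).1)
  · intro w hw
    refine ⟨(g ⟨w, hw.1⟩).2, ?_, ?_⟩
    · rw [hg.2]; exact hw.2.1
    · rw [co0_dot g hg]; exact hw.2.2
  · intro a b ha hb hab
    have := g.injective (Subtype.ext hab)
    exact congrArg Subtype.val this
  · intro b hb
    refine ⟨(g.symm ⟨b, hb.1⟩).1, ⟨(g.symm ⟨b, hb.1⟩).2, ?_, ?_⟩, ?_⟩
    · have := hg.2 (g.symm ⟨b, hb.1⟩)
      rw [Equiv.apply_symm_apply] at this
      rw [← this]; exact hb.2.1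
    · have := co0_dot g hg v (g.symm ⟨b, hb.1⟩)
      rw [Equiv.apply_symm_apply] at this
      rw [← this]; exact hb.2.2
    · simp

/-- the keys of the code words relative to the points 3 and 4 -/
def keys34 : List ℕ := [0, 102, 71, 39, 8, 43, 106, 12, 16, 47, 75, 79, 110, 118]

/-- the keys with their multiplicities -/
def kc34 : List (ℕ × ℕ) :=
  [(0, 1), (102, 77), (71, 176), (39, 176), (8, 330), (43, 672), (106, 616), (12, 616), (16, 77),
    (47, 176), (75, 672), (79, 176), (110, 330), (118, 1)]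

set_option maxRecDepth 100000 in
theorem keyCounts_34 : keyCountsN keys34 [3, 4] 16777191 = kc34 := by decide +kernel

set_option maxRecDepth 100000 in
theorem cover34 : ∀ a ∈ codeList, keyN [3, 4] 16777191 a ∈ keys34 := by decide +kernel

theorem rm34 : ∀ p, (16777191).testBit (idx p) = decide (p ∉ [pt 3, pt 4]) := by decide +kernel

set_option maxRecDepth 100000 in
theorem num34 :
    (∑ k ∈ Finset.range 17, leechNumAt 16777191 kc34
      [(pt 3, (k : ℤ) - 8), (pt 4, -4 - ((k : ℤ) - 8))] 32) = 4600 ∧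
    (∑ k ∈ Finset.range 17, leechNumAt 16777191 kc34
      [(pt 3, (k : ℤ) - 8), (pt 4, -2 - ((k : ℤ) - 8))] 32) = 47104 ∧
    (∑ k ∈ Finset.range 17, leechNumAt 16777191 kc34
      [(pt 3, (k : ℤ) - 8), (pt 4, 0 - ((k : ℤ) - 8))] 32) = 93150 := by decide +kernel

/-- the count for the base vector -/
theorem census_base (d : ℤ) :
    {w : GolayPt → ℤ | w ∈ leechLattice ∧ sqNorm w = 32 ∧ dotInt b32a.1 w = 4 * d}.ncard =
      ∑ k ∈ Finset.range 17, leechNumAt 16777191 kc34
        [(pt 3, (k : ℤ) - 8), (pt 4, d - ((k : ℤ) - 8))] 32 := by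
  have h := ncard_pair_sum (pt 3) (pt 4) (by decide) 16777191 rm34 keys34 (by decide) cover34 d 32
    (by norm_num)
  have e : keyCountsN keys34 [idx (pt 3), idx (pt 4)] 16777191 = kc34 := keyCounts_34
  rw [e] at h
  rw [← h]
  congr 1
  ext w
  simp only [Set.mem_ofPred_eq, dotInt_b32a, Nat.cast_ofNat]
  constructor
  · rintro ⟨h1, h2, h3⟩
    exact ⟨h1, h2, by omega⟩
  · rintro ⟨h1, h2, h3⟩
    exact ⟨h1, h2, by omega⟩

/-- the census of minimal vectors by inner product with a minimal vector -/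
theorem census32 (v : GolayPt → ℤ) (hv : v ∈ leechLattice) (hvn : sqNorm v = 32) :
    {w : GolayPt → ℤ | w ∈ leechLattice ∧ sqNorm w = 32 ∧ dotInt v w = -16}.ncard = 4600 ∧
    {w : GolayPt → ℤ | w ∈ leechLattice ∧ sqNorm w = 32 ∧ dotInt v w = -8}.ncard = 47104 ∧
    {w : GolayPt → ℤ | w ∈ leechLattice ∧ sqNorm w = 32 ∧ dotInt v w = 0}.ncard = 93150 := by
  have horb : Orb b32a ⟨v, hv⟩ := co0_trans32 b32a ⟨v, hv⟩ sqNorm_b32a hvn
  have h1 := ncard_dot_orbit b32a ⟨v, hv⟩ horb 32 (-16)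
  have h2 := ncard_dot_orbit b32a ⟨v, hv⟩ horb 32 (-8)
  have h3 := ncard_dot_orbit b32a ⟨v, hv⟩ horb 32 0
  have c1 := census_base (-4)
  have c2 := census_base (-2)
  have c3 := census_base 0
  rw [show (4 : ℤ) * -4 = -16 by norm_num] at c1
  rw [show (4 : ℤ) * -2 = -8 by norm_num] at c2
  rw [show (4 : ℤ) * 0 = 0 by norm_num] at c3
  refine ⟨h1.trans (c1.trans num34.1), h2.trans (c2.trans num34.2.1),
    h3.trans (c3.trans num34.2.2)⟩

end Cfsg.Agent.Helper7
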