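import Cfsg.Agent.Lib.Helper7.Co0Orb2

/-!
# Transitivity of the automorphism group on the vectors of norm 48
-/

set_option autoImplicit false

namespace Cfsg.Agent.Helper7
open Cfsg Cfsg.Agent.Helper91 Cfsg.Agent.Helper92
open scoped Pointwise

/-! ### The base vectors -/

def dod48 : ℕ := 15130653

theorem dod48_code : ofMask dod48 ∈ Code :=
  (ofMask_mem_iff dod48 (by decide)).mpr (by decide +kernel)

theorem dod48_card : (ofMask dod48).card = 12 := by rw [card_ofMask']; decide +kernel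

theorem dod48_real : Real (ofMask dod48) := real_of_check dod48 (by decide +kernel)

def b48a : leechLattice := ⟨twoInd (ofMask dod48), twoInd_mem dod48_code⟩

def l48b : List ℤ := [-3, -3, -3, 1, 1, 1, 1, 1, 1, 1, 1, 1, 1, 1, 1, 1, 1, 1, 1, 1, 1, 1, 1, 1]

theorem l48b_mem : vecOf l48b ∈ leechLattice := vecOf_mem l48b 1 0 (by decide +kernel)

def b48b : leechLattice := ⟨vecOf l48b, l48b_mem⟩

theorem l48b_apply : ∀ q, vecOf l48b q = if q = pt 0 ∨ q = pt 1 ∨ q = pt 2 then -3 else 1 := by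
  decide +kernel

def l48c : List ℤ := [5, 1, 1, 1, 1, 1, 1, 1, 1, 1, 1, 1, 1, 1, 1, 1, 1, 1, 1, 1, 1, 1, 1, 1]

theorem l48c_mem : vecOf l48c ∈ leechLattice := vecOf_mem l48c 1 0 (by decide +kernel)

def b48c : leechLattice := ⟨vecOf l48c, l48c_mem⟩

theorem l48c_apply : ∀ q, vecOf l48c q = if q = pt 0 then 5 else 1 := by decide +kernel

def l48d : List ℤ := [-2, 2, 2, 2, 4, 2, 0, 0, 0, 0, 0, 0, 0, 0, 2, 0, 0, 2, 0, 0, 0, 0, 0, 2]

theorem l48d_mem : vecOf l48d ∈ leechLattice := vecOf_mem l48d 0 baseOct (by decide +kernel)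

def b48d : leechLattice := ⟨vecOf l48d, l48d_mem⟩

theorem l48d_apply : ∀ q, vecOf l48d q =
    if q = pt 4 then 4 else if q ∈ O0 then (if q = pt 0 then -2 else 2) else 0 := by
  decide +kernel

/-! ### The shapes -/

theorem orb48_G1 (x : leechLattice) (hn : sqNorm x.1 = 48)
    (h : ∀ i, x.1 i = 0 ∨ x.1 i = 2 ∨ x.1 i = -2) : Orb b48a x := by
  have hz : ∀ k, k ≠ 0 → k ≠ 2 → cnt x.1 k = 0 := by
    intro k h0 h4
    apply cnt_eq_zero
    intro i
    rcases h i with e | e | e <;> rw [e] <;> simp <;> omega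
  obtain ⟨h24, hsq⟩ := hist x.1 48 hn (by norm_num)
  rw [hz 1 (by norm_num) (by norm_num), hz 4 (by norm_num) (by norm_num),
    hz 3 (by norm_num) (by norm_num), hz 5 (by norm_num) (by norm_num),
    hz 6 (by norm_num) (by norm_num)] at hsq
  have h2 : cnt x.1 2 = 12 := by omega
  have hX : resSet x.1 2 = Finset.univ.filter (fun i => (x.1 i).natAbs = 2) := by
    ext i
    rw [mem_resSet, Finset.mem_filter]
    unfold Int.ModEq
    rcases h i with e | e | e <;> rw [e] <;> simp
  have hdod : resSet x.1 2 ∈ dodecads := by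
    rw [mem_dodecads_iff]
    refine ⟨resSet_mem x.2 2, ?_⟩
    rw [hX]
    exact h2
  have hdod' : ofMask dod48 ∈ dodecads := (mem_dodecads_iff _).mpr ⟨dod48_code, dod48_card⟩
  obtain ⟨g, hg, hgX⟩ := dodecad_trans hdod' hdod
  apply orb_twoInd dod48_code dod48_real x h g hg
  intro i
  rw [← mem_smul_iff, hgX, mem_resSet]
  unfold Int.ModEq
  rcases h i with e | e | e <;> rw [e] <;> simp

theorem odd48 (x : leechLattice) (hn : sqNorm x.1 = 48) (h : ∀ i, x.1 i % 2 = 1) :
    (cnt x.1 3 = 3 ∧ cnt x.1 5 = 0) ∨ (cnt x.1 3 = 0 ∧ cnt x.1 5 = 1) := by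
  have hz : ∀ k, k % 2 = 0 → cnt x.1 k = 0 := by
    intro k hk
    apply cnt_eq_zero
    intro i
    have := h i
    omega
  obtain ⟨h24, hsq⟩ := hist x.1 48 hn (by norm_num)
  rw [hz 0 (by norm_num), hz 2 (by norm_num), hz 4 (by norm_num), hz 6 (by norm_num)] at h24
  rw [hz 2 (by norm_num), hz 4 (by norm_num), hz 6 (by norm_num)] at hsq
  omega

theorem orb48_G2 (x : leechLattice) (hn : sqNorm x.1 = 48) (h : ∀ i, x.1 i % 2 = 1)
    (h5 : ∀ i, (x.1 i).natAbs ≠ 5) : Orb b48b x := by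
  have hc5 : cnt x.1 5 = 0 := cnt_eq_zero x.1 5 h5
  have h3 : cnt x.1 3 = 3 := by
    rcases odd48 x hn h with h' | h' <;> omega
  have hB := natAbs_lt_seven x.1 48 hn (by norm_num)
  unfold cnt at h3
  obtain ⟨p, q, r, hpq, hpr, hqr, hT⟩ := Finset.card_eq_three.mp h3
  have hmemT : ∀ k, (x.1 k).natAbs = 3 ↔ k = p ∨ k = q ∨ k = r := by
    intro k
    have : k ∈ Finset.univ.filter (fun i => (x.1 i).natAbs = 3) ↔
        k ∈ ({p, q, r} : Finset GolayPt) := by rw [hT]
    simpa using this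
  obtain ⟨σ, hσ, hmap⟩ := m24_five_trans [pt 0, pt 1, pt 2] [p, q, r] (by decide)
    (by simp [hpq, hpr, hqr]) rfl (by norm_num)
  simp only [List.map_cons, List.map_nil, List.cons.injEq, and_true] at hmap
  obtain ⟨hσ0, hσ1, hσ2⟩ := hmap
  apply orb_odd (b := b48b) _ h σ hσ
  · intro i
    show (x.1 i).natAbs = (vecOf l48b (σ.symm i)).natAbs
    rw [l48b_apply]
    have e0 : σ.symm i = pt 0 ↔ i = p := by rw [Equiv.symm_apply_eq, hσ0]
    have e1 : σ.symm i = pt 1 ↔ i = q := by rw [Equiv.symm_apply_eq, hσ1]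
    have e2 : σ.symm i = pt 2 ↔ i = r := by rw [Equiv.symm_apply_eq, hσ2]
    by_cases hi : i = p ∨ i = q ∨ i = r
    · rw [if_pos (by rw [e0, e1, e2]; exact hi), (hmemT i).mpr hi]
      rfl
    · rw [if_neg (by rw [e0, e1, e2]; exact hi)]
      have h1 : (x.1 i).natAbs ≠ 3 := fun hh => hi ((hmemT i).mp hh)
      have h2 := h5 i
      have h3 := hB i
      have h4 := h i
      show (x.1 i).natAbs = 1
      omega
  · intro i
    show vecOf l48b i % 4 = 1
    rw [l48b_apply]
    split_ifs <;> norm_num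

theorem orb48_G3 (x : leechLattice) (hn : sqNorm x.1 = 48) (h : ∀ i, x.1 i % 2 = 1)
    (h5 : ∃ i, (x.1 i).natAbs = 5) : Orb b48c x := by
  obtain ⟨i5, hi5⟩ := h5
  have hpos := cnt_pos_of x.1 5 i5 hi5
  have hc : cnt x.1 3 = 0 ∧ cnt x.1 5 = 1 := by
    rcases odd48 x hn h with h' | h' <;> omega
  obtain ⟨hc3, hc5⟩ := hc
  have hB := natAbs_lt_seven x.1 48 hn (by norm_num)
  unfold cnt at hc5
  obtain ⟨p, hT⟩ := Finset.card_eq_one.mp hc5
  have hmemT : ∀ k, (x.1 k).natAbs = 5 ↔ k = p := by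
    intro k
    have : k ∈ Finset.univ.filter (fun i => (x.1 i).natAbs = 5) ↔ k ∈ ({p} : Finset GolayPt) := by
      rw [hT]
    simpa using this
  obtain ⟨σ, hσ, hmap⟩ := m24_five_trans [pt 0] [p] (by decide) (by simp) rfl (by norm_num)
  simp only [List.map_cons, List.map_nil, List.cons.injEq, and_true] at hmap
  apply orb_odd (b := b48c) _ h σ hσ
  · intro i
    show (x.1 i).natAbs = (vecOf l48c (σ.symm i)).natAbs
    rw [l48c_apply]
    have e0 : σ.symm i = pt 0 ↔ i = p := by rw [Equiv.symm_apply_eq, hmap]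
    by_cases hi : i = p
    · rw [if_pos (e0.mpr hi), (hmemT i).mpr hi]
      rfl
    · rw [if_neg (fun hh => hi (e0.mp hh))]
      have h1 : (x.1 i).natAbs ≠ 5 := fun hh => hi ((hmemT i).mp hh)
      have h2 := ne_of_cnt_zero x.1 3 hc3 i
      have h3 := hB i
      have h4 := h i
      show (x.1 i).natAbs = 1
      omega
  · intro i
    show vecOf l48c i % 4 = 1
    rw [l48c_apply]
    split_ifs <;> norm_num

theorem even48 (x : leechLattice) (hn : sqNorm x.1 = 48) (hev : ∀ i, x.1 i % 2 = 0) :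
    cnt x.1 6 = 0 ∧ ((cnt x.1 2 = 12 ∧ cnt x.1 4 = 0) ∨ (cnt x.1 2 = 8 ∧ cnt x.1 4 = 1)) := by
  have hz : ∀ k, k % 2 = 1 → cnt x.1 k = 0 := by
    intro k hk
    apply cnt_eq_zero
    intro i
    have := hev i
    omega
  have hB := natAbs_lt_seven x.1 48 hn (by norm_num)
  obtain ⟨h24, hsq⟩ := hist x.1 48 hn (by norm_num)
  rw [hz 1 (by norm_num), hz 3 (by norm_num), hz 5 (by norm_num)] at hsq
  have hS : resSet x.1 2 = Finset.univ.filter (fun i => (x.1 i).natAbs % 4 = 2) := by
    ext i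
    rw [mem_resSet, Finset.mem_filter]
    unfold Int.ModEq
    simp only [Finset.mem_univ, true_and]
    omega
  have hcard := card_filter_natAbs x.1 hB (fun k => k % 4 = 2)
  rw [← hS] at hcard
  simp only [Finset.sum_range_succ, Finset.sum_range_zero, zero_add] at hcard
  norm_num at hcard
  have hw := weight_cases _ (resSet_mem x.2 2)
  -- the shape (4, 4, 4) is excluded by the sum condition
  have hno : ¬ (cnt x.1 2 = 0 ∧ cnt x.1 6 = 0 ∧ cnt x.1 4 = 3) := by
    rintro ⟨h2, h6, h4⟩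
    have hs := sum_mod_eight x.2 none
    rw [hev none] at hs
    have hd : (8 : ℤ) ∣ ∑ i, (x.1 i - 4 * (if (x.1 i).natAbs = 4 then 1 else 0)) := by
      apply Finset.dvd_sum
      intro i _
      have a1 := ne_of_cnt_zero x.1 2 h2 i
      have a2 := ne_of_cnt_zero x.1 6 h6 i
      have a3 := hB i
      have a4 := hev i
      split_ifs with hc <;> omega
    rw [Finset.sum_sub_distrib, ← Finset.mul_sum, Finset.sum_boole] at hd
    have : (Finset.univ.filter (fun i => (x.1 i).natAbs = 4)).card = 3 := h4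
    rw [this] at hd
    omega
  omega

theorem orb48_G4 (x : leechLattice) (hn : sqNorm x.1 = 48) (hev : ∀ i, x.1 i % 2 = 0)
    (h4 : ∃ i, (x.1 i).natAbs = 4) : Orb b48d x := by
  obtain ⟨i4, hi4⟩ := h4
  have hpos := cnt_pos_of x.1 4 i4 hi4
  obtain ⟨hc6, hc⟩ := even48 x hn hev
  have hc' : cnt x.1 2 = 8 ∧ cnt x.1 4 = 1 := by omega
  obtain ⟨hc2, hc4⟩ := hc'
  have hB := natAbs_lt_seven x.1 48 hn (by norm_num)
  -- the octad
  have hX : resSet x.1 2 = Finset.univ.filter (fun i => (x.1 i).natAbs = 2) := by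
    ext i
    rw [mem_resSet, Finset.mem_filter]
    unfold Int.ModEq
    simp only [Finset.mem_univ, true_and]
    have a2 := ne_of_cnt_zero x.1 6 hc6 i
    have a3 := hB i
    omega
  have hO : resSet x.1 2 ∈ octads := by
    rw [mem_octads_iff]
    refine ⟨resSet_mem x.2 2, ?_⟩
    rw [hX]
    exact hc2
  have hmemO : ∀ k, k ∈ resSet x.1 2 ↔ (x.1 k).natAbs = 2 := by
    intro k
    rw [hX, Finset.mem_filter]
    simp
  -- the point carrying the 4
  unfold cnt at hc4
  obtain ⟨p, hT⟩ := Finset.card_eq_one.mp hc4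
  have hmemT : ∀ k, (x.1 k).natAbs = 4 ↔ k = p := by
    intro k
    have : k ∈ Finset.univ.filter (fun i => (x.1 i).natAbs = 4) ↔ k ∈ ({p} : Finset GolayPt) := by
      rw [hT]
    simpa using this
  -- the permutation
  obtain ⟨σ1, hσ1, hσ1O⟩ := octad_trans O0_mem hO
  have hp' : σ1.symm p ∉ O0 := by
    intro hc
    have : p ∈ σ1 • O0 := (mem_smul_iff σ1 O0 p).mpr hc
    rw [hσ1O, hmemO] at this
    have := (hmemT p).mpr rfl
    omega
  have hbit : baseOct.testBit (idx (σ1.symm p)) = false := by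
    rw [mem_ofMask] at hp'
    simpa using hp'
  obtain ⟨l, hl, hl4⟩ := k0_targets (idx (σ1.symm p)) (idx_lt _) hbit
  obtain ⟨κ, hκ, hκt, -⟩ := goodTabs_k0 l hl
  have hκ4 : κ (pt 4) = σ1.symm p := by
    rw [hκt.apply 4 (by norm_num), hl4, pt_idx]
  rw [mem_octFix] at hκ
  obtain ⟨hκM, hκfix⟩ := hκ
  have hκO : ∀ q, κ.symm q ∈ O0 ↔ q ∈ O0 := by
    intro q
    constructor
    · intro hq
      have := hκfix _ hq
      rw [κ.apply_symm_apply] at this
      rw [this]; exact hq
    · intro hq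
      have := hκfix _ hq
      have e : κ.symm q = q := by rw [Equiv.symm_apply_eq, this]
      rw [e]; exact hq
  set σ : Equiv.Perm GolayPt := σ1 * κ with hσdef
  have hσ : σ ∈ M24 := M24.mul_mem hσ1 hκM
  have hσsymm : ∀ i, σ.symm i = κ.symm (σ1.symm i) := fun i => rfl
  have hσ4 : ∀ i, σ.symm i = pt 4 ↔ i = p := by
    intro i
    rw [hσsymm, Equiv.symm_apply_eq, hκ4, Equiv.apply_eq_iff_eq]
  have hσO : ∀ i, σ.symm i ∈ O0 ↔ (x.1 i).natAbs = 2 := by
    intro i
    rw [hσsymm, hκO, ← mem_smul_iff, hσ1O, hmemO]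
  -- the permuted base vector
  set y : leechLattice := monoPerm σ ∅ hσ Helper92.empty_mem b48d with hy
  have hyval : ∀ i, y.1 i = if i = p then 4 else
      if (x.1 i).natAbs = 2 then (if σ.symm i = pt 0 then -2 else 2) else 0 := by
    intro i
    have e : y.1 i = vecOf l48d (σ.symm i) := by
      rw [hy, monoPerm_val, signedPerm_apply]
      simp
      rfl
    rw [e, l48d_apply]
    by_cases h1 : i = p
    · rw [if_pos ((hσ4 i).mpr h1), if_pos h1]
    · rw [if_neg (fun hh => h1 ((hσ4 i).mp hh)), if_neg h1]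
      by_cases h2 : (x.1 i).natAbs = 2
      · rw [if_pos ((hσO i).mpr h2), if_pos h2]
      · rw [if_neg (fun hh => h2 ((hσO i).mp hh)), if_neg h2]
  have hOrb1 : Orb b48d y := ⟨_, monoPerm_mem σ ∅ hσ Helper92.empty_mem, rfl⟩
  refine hOrb1.trans ?_
  have habs : ∀ i, (x.1 i).natAbs = (y.1 i).natAbs := by
    intro i
    rw [hyval]
    by_cases h1 : i = p
    · rw [if_pos h1, (hmemT i).mpr h1]; rfl
    · rw [if_neg h1]
      by_cases h2 : (x.1 i).natAbs = 2
      · rw [if_pos h2, h2]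
        split_ifs <;> rfl
      · rw [if_neg h2]
        have a1 : (x.1 i).natAbs ≠ 4 := fun hh => h1 ((hmemT i).mp hh)
        have a2 := ne_of_cnt_zero x.1 6 hc6 i
        have a3 := hB i
        have a4 := hev i
        show (x.1 i).natAbs = 0
        omega
  have hevD := even_diff_card (x := x) (y := y) hev habs
  set E : Finset GolayPt := Finset.univ.filter (fun i => x.1 i ≠ y.1 i ∧ y.1 i % 4 = 2) with hE
  have hy2 : ∀ i, y.1 i % 4 = 2 ↔ (x.1 i).natAbs = 2 := by
    intro i
    rw [hyval]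
    by_cases h1 : i = p
    · rw [if_pos h1]
      have := (hmemT i).mpr h1
      constructor
      · intro hh; norm_num at hh
      · intro hh; omega
    · rw [if_neg h1]
      by_cases h2 : (x.1 i).natAbs = 2
      · rw [if_pos h2]
        simp only [h2, iff_true]
        split_ifs <;> norm_num
      · rw [if_neg h2]
        simp only [h2, iff_false]
        norm_num
  have hEsub : E ⊆ resSet x.1 2 := by
    intro i hi
    rw [hE, Finset.mem_filter] at hi
    rw [hmemO]
    exact (hy2 i).mp hi.2.2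
  obtain ⟨c0, hc0, hc0E⟩ := real_octad hO E hEsub hevD
  have hpO : p ∉ resSet x.1 2 := by
    rw [hmemO]
    have := (hmemT p).mpr rfl
    omega
  have hmem0 : ∀ i, (x.1 i).natAbs = 2 → (i ∈ c0 ↔ x.1 i ≠ y.1 i) := by
    intro i hi
    have : i ∈ c0 ∩ resSet x.1 2 ↔ i ∈ E := by rw [hc0E]
    rw [Finset.mem_inter, hE, Finset.mem_filter] at this
    have hiO := (hmemO i).mpr hi
    have hi2 := (hy2 i).mpr hi
    constructor
    · intro hh
      exact (this.mp ⟨hh, hiO⟩).2.1
    · intro hh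
      exact (this.mpr ⟨Finset.mem_univ _, hh, hi2⟩).1
  have hynz : ∀ i, y.1 i ≠ 0 → i = p ∨ (x.1 i).natAbs = 2 := by
    intro i hi
    by_contra hcon
    rw [not_or] at hcon
    apply hi
    rw [hyval, if_neg hcon.1, if_neg hcon.2]
  by_cases hpc : (p ∈ c0 ↔ x.1 p ≠ y.1 p)
  · apply orb_sign habs c0 hc0
    intro i hi
    rcases hynz i hi with h1 | h1
    · rw [h1]; exact hpc
    · exact hmem0 i h1
  · have hcompl := Helper92.compl_mem (resSet_mem x.2 2)
    apply orb_sign habs (symmDiff c0 (resSet x.1 2)ᶜ) (symmDiff_mem hc0 hcompl)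
    intro i hi
    rw [Finset.mem_symmDiff, Finset.mem_compl]
    rcases hynz i hi with h1 | h1
    · rw [h1]
      constructor
      · rintro (⟨a, b⟩ | ⟨a, b⟩)
        · exact absurd hpO b
        · intro hcon
          exact hpc ⟨fun hh => absurd hh b, fun hh => absurd hcon hh⟩
      · intro hh
        right
        refine ⟨hpO, fun hc => ?_⟩
        exact hpc ⟨fun _ => hh, fun _ => hc⟩
    · have hiO := (hmemO i).mpr h1
      rw [← hmem0 i h1]
      constructor
      · rintro (⟨a, _⟩ | ⟨a, _⟩)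
        · exact a
        · exact absurd hiO a
      · intro hh
        left
        exact ⟨hh, fun hc => hc hiO⟩

/-! ### Linking the shapes by the extra automorphism -/

theorem sqNorm_b48a : sqNorm b48a.1 = 48 := by decide +kernel

theorem sqNorm_b48c : sqNorm b48c.1 = 48 := by decide +kernel

def l48e : List ℤ := [-2, 2, 4, 0, 0, 0, 0, 0, 0, 0, 0, 0, 0, 2, 0, 2, 0, 2, 2, 2, 0, 0, 0, 2]

theorem l48e_mem : vecOf l48e ∈ leechLattice := vecOf_mem l48e 0 9347075 (by decide +kernel)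

def b48e : leechLattice := ⟨vecOf l48e, l48e_mem⟩

theorem sqNorm_b48e : sqNorm b48e.1 = 48 := by decide +kernel

theorem link48_ab : Orb b48a b48b := by
  have h2 : Orb b48b (xiPerm b48a) := by
    apply orb48_G2 (xiPerm b48a)
    · rw [xiPerm_mem.2, sqNorm_b48a]
    · rw [xiPerm_val]
      decide +kernel
    · rw [xiPerm_val]
      decide +kernel
  exact (orb_xi b48a).trans h2.symm

theorem link48_cb : Orb b48c b48b := by
  have h2 : Orb b48b (xiPerm b48c) := by
    apply orb48_G2 (xiPerm b48c)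
    · rw [xiPerm_mem.2, sqNorm_b48c]
    · rw [xiPerm_val]
      decide +kernel
    · rw [xiPerm_val]
      decide +kernel
  exact (orb_xi b48c).trans h2.symm

theorem link48_dc : Orb b48d b48c := by
  have h1 : Orb b48d b48e := by
    apply orb48_G4 b48e sqNorm_b48e
    · decide +kernel
    · exact ⟨pt 2, by decide +kernel⟩
  have h2 : Orb b48c (xiPerm b48e) := by
    apply orb48_G3 (xiPerm b48e)
    · rw [xiPerm_mem.2, sqNorm_b48e]
    · rw [xiPerm_val]
      decide +kernel
    · rw [xiPerm_val]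
      exact ⟨pt 0, by decide +kernel⟩
  exact (h1.trans (orb_xi b48e)).trans h2.symm

theorem orb48 (x : leechLattice) (hn : sqNorm x.1 = 48) : Orb b48b x := by
  by_cases hpar : x.1 none % 2 = 1
  · have hodd : ∀ i, x.1 i % 2 = 1 := by
      intro i
      rw [leech_parity x.2 i none]
      exact hpar
    by_cases h5 : ∃ i, (x.1 i).natAbs = 5
    · exact link48_cb.symm.trans (orb48_G3 x hn hodd h5)
    · exact orb48_G2 x hn hodd (fun i hi => h5 ⟨i, hi⟩)
  · have hev : ∀ i, x.1 i % 2 = 0 := by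
      intro i
      rw [leech_parity x.2 i none]
      omega
    by_cases h4 : ∃ i, (x.1 i).natAbs = 4
    · exact (link48_cb.symm.trans link48_dc.symm).trans (orb48_G4 x hn hev h4)
    · refine link48_ab.symm.trans (orb48_G1 x hn ?_)
      have hc4 : cnt x.1 4 = 0 := cnt_eq_zero x.1 4 (fun i hi => h4 ⟨i, hi⟩)
      obtain ⟨hc6, -⟩ := even48 x hn hev
      have hB := natAbs_lt_seven x.1 48 hn (by norm_num)
      intro i
      have a1 := ne_of_cnt_zero x.1 4 hc4 i
      have a2 := ne_of_cnt_zero x.1 6 hc6 i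
      have a3 := hB i
      have a4 := hev i
      omega

/-- The automorphism group is transitive on the vectors of norm 48. -/
theorem co0_trans48 (v w : leechLattice) (hv : sqNorm v.1 = 48) (hw : sqNorm w.1 = 48) :
    Orb v w := (orb48 v hv).symm.trans (orb48 w hw)

end Cfsg.Agent.Helper7
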