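import Cfsg.Agent.Lib.Helper7.LeechBasic
import Cfsg.Agent.Lib.Helper26.GolayFacts

/-!
# The index of the Leech lattice in `ℤ^24`

A three step chain `ℤ^24 ⊇ A₁ ⊇ A₂ ⊇ Λ` of indices `2^23`, `2^12`, `2`.
-/

set_option autoImplicit false

namespace Cfsg.Agent.Helper7
open Cfsg Cfsg.Agent.Helper91

/-- differences of coordinates with the coordinate at infinity, mod 2 -/
def lxG1 : (GolayPt → ℤ) →+ (ZMod 23 → ZMod 2) where
  toFun x := fun i => ((x (some i) - x none : ℤ) : ZMod 2)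
  map_zero' := by funext i; simp
  map_add' x y := by
    funext i
    simp only [Pi.add_apply]
    push_cast
    ring

theorem lxG1_surj : Function.Surjective lxG1 := by
  intro w
  refine ⟨fun p => match p with | none => 0 | some i => ((w i).val : ℤ), ?_⟩
  funext i
  show (((((w i).val : ℤ)) - 0 : ℤ) : ZMod 2) = w i
  rw [sub_zero]
  simp

theorem index_lxG1_ker : lxG1.ker.index = 2 ^ 23 := by
  rw [AddSubgroup.index_ker, AddMonoidHom.range_eq_top.mpr lxG1_surj, AddSubgroup.card_top,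
    Nat.card_eq_fintype_card, Fintype.card_fun, ZMod.card, ZMod.card]

theorem mem_lxG1_ker (x : GolayPt → ℤ) : x ∈ lxG1.ker ↔ ∀ i, (2 : ℤ) ∣ x i - x none := by
  rw [AddMonoidHom.mem_ker]
  constructor
  · intro h i
    cases i with
    | none => simp
    | some i =>
      have := congrFun h i
      exact (ZMod.intCast_zmod_eq_zero_iff_dvd _ 2).mp this
  · intro h
    funext i
    exact (ZMod.intCast_zmod_eq_zero_iff_dvd _ 2).mpr (h (some i))

/-- the half-difference vector, shifted by the parity of the coordinate at infinity -/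
def lxPhi (x : GolayPt → ℤ) : GolayPt → ZMod 2 :=
  fun i => (((x i - x none) / 2 : ℤ) : ZMod 2) + ((x none : ℤ) : ZMod 2)

theorem lxPhi_add {v w : GolayPt → ℤ} (hv : ∀ i, (2 : ℤ) ∣ v i - v none)
    (hw : ∀ i, (2 : ℤ) ∣ w i - w none) : lxPhi (v + w) = lxPhi v + lxPhi w := by
  funext i
  obtain ⟨a, ha⟩ := hv i
  obtain ⟨b, hb⟩ := hw i
  simp only [lxPhi, Pi.add_apply]
  have e : v i + w i - (v none + w none) = 2 * (a + b) := by rw [mul_add, ← ha, ← hb]; ring
  rw [e, ha, hb, Int.mul_ediv_cancel_left _ (by norm_num : (2 : ℤ) ≠ 0),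
    Int.mul_ediv_cancel_left _ (by norm_num : (2 : ℤ) ≠ 0),
    Int.mul_ediv_cancel_left _ (by norm_num : (2 : ℤ) ≠ 0)]
  push_cast
  ring

theorem lxPhi_zero : lxPhi 0 = 0 := by
  funext i
  simp [lxPhi]

/-- if `x = m + 2 a` then `lxPhi x = red a + (m + a ∞)`. -/
theorem lxPhi_eq (x a : GolayPt → ℤ) (m : ℤ) (h1 : ∀ i, x i = m + 2 * a i) :
    lxPhi x = red a + (((m + a none : ℤ) : ZMod 2)) • (1 : GolayPt → ZMod 2) := by
  funext i
  simp only [lxPhi, Pi.add_apply, Pi.smul_apply, Pi.one_apply, smul_eq_mul, mul_one, red]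
  rw [h1 i, h1 none]
  have e : m + 2 * a i - (m + 2 * a none) = 2 * (a i - a none) := by ring
  rw [e, Int.mul_ediv_cancel_left _ (by norm_num : (2 : ℤ) ≠ 0)]
  push_cast
  have h2 : (2 : ZMod 2) = 0 := by decide
  have h3 : ∀ x : ZMod 2, -x = x := by decide
  rw [h2, zero_mul, add_zero, sub_eq_add_neg, h3]
  ring

/-- the second map, on the kernel of the first -/
def lxF2 : ↥lxG1.ker →+ (GolayPt → ZMod 2) ⧸ golayCode :=
  (golayCode.mkQ).toAddMonoidHom.comp
    { toFun := fun x => lxPhi x.1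
      map_zero' := lxPhi_zero
      map_add' := fun x y => lxPhi_add ((mem_lxG1_ker _).mp x.2) ((mem_lxG1_ker _).mp y.2) }

theorem lxF2_apply (x : ↥lxG1.ker) : lxF2 x = golayCode.mkQ (lxPhi x.1) := rfl

theorem mem_lxF2_ker (x : ↥lxG1.ker) : x ∈ lxF2.ker ↔ lxPhi x.1 ∈ golayCode := by
  rw [AddMonoidHom.mem_ker, lxF2_apply, Submodule.mkQ_apply, Submodule.Quotient.mk_eq_zero]

theorem lxF2_surj : Function.Surjective lxF2 := by
  intro q
  obtain ⟨w, rfl⟩ := golayCode.mkQ_surjective q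
  -- x = m + 2 a with a ∞ = 0, m = w ∞, a = w - w ∞
  set x : GolayPt → ℤ := fun i => ((w none).val : ℤ) + 2 * (((w i - w none).val : ℤ)) with hx
  have hxk : x ∈ lxG1.ker := by
    rw [mem_lxG1_ker]
    intro i
    refine ⟨((w i - w none).val : ℤ) - (((w none - w none).val : ℤ)), ?_⟩
    simp only [hx]
    ring
  refine ⟨⟨x, hxk⟩, ?_⟩
  rw [lxF2_apply]
  congr 1
  rw [lxPhi_eq x (fun i => ((w i - w none).val : ℤ)) ((w none).val : ℤ) (fun i => rfl)]
  funext i
  simp only [Pi.add_apply, Pi.smul_apply, Pi.one_apply, smul_eq_mul, mul_one, red, sub_self]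
  push_cast
  simp

theorem card_quot_golay : Nat.card ((GolayPt → ZMod 2) ⧸ golayCode) = 2 ^ 12 := by
  have h := Submodule.card_eq_card_quotient_mul_card golayCode
  have h1 : Nat.card golayCode = 4096 := by
    rw [← Cfsg.Agent.Helper26.golayCode_ncard]
    exact (Nat.card_coe_set_eq _)
  have h2 : Nat.card (GolayPt → ZMod 2) = 2 ^ 24 := by
    rw [Nat.card_eq_fintype_card, Fintype.card_fun, ZMod.card]
    rfl
  rw [h1, h2] at h
  omega

theorem index_lxF2_ker : lxF2.ker.index = 2 ^ 12 := by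
  rw [AddSubgroup.index_ker, AddMonoidHom.range_eq_top.mpr lxF2_surj, AddSubgroup.card_top,
    card_quot_golay]

/-- the second group of the chain -/
def lxA2 : AddSubgroup (GolayPt → ℤ) := lxF2.ker.map lxG1.ker.subtype

theorem index_lxA2 : lxA2.index = 2 ^ 35 := by
  unfold lxA2
  rw [AddSubgroup.index_map_subtype, index_lxF2_ker, index_lxG1_ker]
  norm_num

theorem mem_lxA2 (x : GolayPt → ℤ) :
    x ∈ lxA2 ↔ (∀ i, (2 : ℤ) ∣ x i - x none) ∧ lxPhi x ∈ golayCode := by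
  unfold lxA2
  rw [AddSubgroup.mem_map]
  constructor
  · rintro ⟨y, hy, rfl⟩
    exact ⟨(mem_lxG1_ker _).mp y.2, (mem_lxF2_ker y).mp hy⟩
  · rintro ⟨h1, h2⟩
    exact ⟨⟨x, (mem_lxG1_ker x).mpr h1⟩, (mem_lxF2_ker _).mpr h2, rfl⟩

/-- The coordinate sum of a vector reducing to a code word is even. -/
theorem two_dvd_sum_of_red_mem (a : GolayPt → ℤ) (h2 : red a ∈ golayCode) :
    (2 : ℤ) ∣ ∑ i, a i := by
  obtain ⟨u, hu⟩ := four_dvd_sum_sq a h2
  have h : (2 : ℤ) ∣ ∑ i, ((a i) ^ 2 - a i) := by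
    apply Finset.dvd_sum
    intro i _
    have : (a i) ^ 2 - a i = a i * (a i - 1) := by ring
    rw [this]
    exact (Int.even_mul_pred_self (a i)).two_dvd
  rw [Finset.sum_sub_distrib, hu] at h
  obtain ⟨t, ht⟩ := h
  exact ⟨2 * u - t, by linarith⟩

theorem card_golayPt24 : (Finset.univ : Finset GolayPt).card = 24 := by decide

/-- decomposition of the members of the second group -/
theorem lxA2_decomp {x : GolayPt → ℤ} (hx : x ∈ lxA2) :
    ∃ a : GolayPt → ℤ, (∀ i, x i = x none + 2 * a i) ∧ a none = 0 ∧ red a ∈ golayCode := by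
  rw [mem_lxA2] at hx
  obtain ⟨hpar, hphi⟩ := hx
  choose a ha using hpar
  have h1 : ∀ i, x i = x none + 2 * a i := fun i => by have := ha i; linarith
  have h0 : a none = 0 := by have := ha none; simp at this; omega
  refine ⟨a, h1, h0, ?_⟩
  rw [lxPhi_eq x a (x none) h1] at hphi
  have := golayCode.sub_mem hphi (golayCode.smul_mem ((((x none + a none : ℤ)) : ZMod 2)) one_mem_golayCode)
  rwa [add_sub_cancel_right] at this

theorem sum_of_decomp (x a : GolayPt → ℤ) (m : ℤ) (h1 : ∀ i, x i = m + 2 * a i) :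
    ∑ i, x i = 24 * m + 2 * ∑ i, a i := by
  rw [Finset.sum_congr rfl (fun i _ => h1 i), Finset.sum_add_distrib, ← Finset.mul_sum]
  simp

theorem four_dvd_of_mem_lxA2 {x : GolayPt → ℤ} (hx : x ∈ lxA2) :
    (4 : ℤ) ∣ ∑ i, x i - 4 * x none := by
  obtain ⟨a, h1, -, h2⟩ := lxA2_decomp hx
  obtain ⟨t, ht⟩ := two_dvd_sum_of_red_mem a h2
  rw [sum_of_decomp x a (x none) h1, ht]
  exact ⟨5 * x none + t, by ring⟩

/-- the third map -/
def lxSig : ↥lxA2 →+ ZMod 2 where
  toFun x := (((∑ i, x.1 i - 4 * x.1 none) / 4 : ℤ) : ZMod 2)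
  map_zero' := by simp
  map_add' x y := by
    obtain ⟨u, hu⟩ := four_dvd_of_mem_lxA2 x.2
    obtain ⟨v, hv⟩ := four_dvd_of_mem_lxA2 y.2
    have e : ∑ i, (x + y).1 i - 4 * (x + y).1 none = 4 * (u + v) := by
      rw [mul_add, ← hu, ← hv]
      simp only [AddSubgroup.coe_add, Pi.add_apply, Finset.sum_add_distrib]
      ring
    rw [e, hu, hv, Int.mul_ediv_cancel_left _ (by norm_num : (4 : ℤ) ≠ 0),
      Int.mul_ediv_cancel_left _ (by norm_num : (4 : ℤ) ≠ 0),
      Int.mul_ediv_cancel_left _ (by norm_num : (4 : ℤ) ≠ 0)]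
    push_cast
    rfl

theorem mem_lxSig_ker (x : ↥lxA2) : x ∈ lxSig.ker ↔ (8 : ℤ) ∣ ∑ i, x.1 i - 4 * x.1 none := by
  rw [AddMonoidHom.mem_ker]
  show (((∑ i, x.1 i - 4 * x.1 none) / 4 : ℤ) : ZMod 2) = 0 ↔ _
  rw [ZMod.intCast_zmod_eq_zero_iff_dvd]
  obtain ⟨u, hu⟩ := four_dvd_of_mem_lxA2 x.2
  rw [hu, Int.mul_ediv_cancel_left _ (by norm_num : (4 : ℤ) ≠ 0)]
  push_cast
  omega

/-- the vector with a single entry 4 -/
def lxFour : GolayPt → ℤ := fun i => if i = some 0 then 4 else 0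

theorem lxFour_mem : lxFour ∈ lxA2 := by
  rw [mem_lxA2]
  have h0 : lxFour none = 0 := rfl
  refine ⟨fun i => ?_, ?_⟩
  · rw [h0, sub_zero]
    unfold lxFour
    split_ifs <;> norm_num
  · have : lxPhi lxFour = 0 := by
      funext i
      unfold lxPhi
      rw [h0, sub_zero]
      unfold lxFour
      split_ifs <;> simp <;> decide
    rw [this]
    exact golayCode.zero_mem

theorem sum_lxFour : ∑ i, lxFour i = 4 := by
  unfold lxFour
  rw [Finset.sum_ite_eq' Finset.univ (some 0) (fun _ => (4 : ℤ))]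
  simp

theorem lxSig_surj : Function.Surjective lxSig := by
  intro z
  have hz : z = 0 ∨ z = 1 := by revert z; decide
  rcases hz with rfl | rfl
  · exact ⟨0, map_zero _⟩
  · refine ⟨⟨lxFour, lxFour_mem⟩, ?_⟩
    show (((∑ i, lxFour i - 4 * lxFour none) / 4 : ℤ) : ZMod 2) = 1
    rw [sum_lxFour]
    have h0 : lxFour none = 0 := rfl
    rw [h0]
    decide

theorem index_lxSig_ker : lxSig.ker.index = 2 := by
  rw [AddSubgroup.index_ker, AddMonoidHom.range_eq_top.mpr lxSig_surj, AddSubgroup.card_top,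
    Nat.card_eq_fintype_card, ZMod.card]

/-- the third group of the chain, which is the lattice -/
def lxA3 : AddSubgroup (GolayPt → ℤ) := lxSig.ker.map lxA2.subtype

theorem index_lxA3 : lxA3.index = 2 ^ 36 := by
  unfold lxA3
  rw [AddSubgroup.index_map_subtype, index_lxSig_ker, index_lxA2]
  norm_num

theorem mem_lxA3 (x : GolayPt → ℤ) :
    x ∈ lxA3 ↔ x ∈ lxA2 ∧ (8 : ℤ) ∣ ∑ i, x i - 4 * x none := by
  unfold lxA3
  rw [AddSubgroup.mem_map]
  constructor
  · rintro ⟨y, hy, rfl⟩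
    exact ⟨y.2, (mem_lxSig_ker y).mp hy⟩
  · rintro ⟨h1, h2⟩
    exact ⟨⟨x, h1⟩, (mem_lxSig_ker _).mpr h2, rfl⟩

theorem lxA3_eq : lxA3 = leechLattice := by
  ext x
  rw [mem_lxA3, mem_leechLattice_iff]
  constructor
  · rintro ⟨hx, h8⟩
    obtain ⟨a, h1, -, h2⟩ := lxA2_decomp hx
    refine ⟨x none, a, h1, h2, ?_⟩
    exact (Int.modEq_iff_dvd.mpr (by
      obtain ⟨t, ht⟩ := h8
      exact ⟨-t, by linarith⟩))
  · rintro ⟨m, a, h1, h2, h3⟩
    refine ⟨?_, ?_⟩
    · rw [mem_lxA2]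
      refine ⟨fun i => ⟨a i - a none, by rw [h1 i, h1 none]; ring⟩, ?_⟩
      rw [lxPhi_eq x a m h1]
      exact golayCode.add_mem h2 (golayCode.smul_mem _ one_mem_golayCode)
    · have := Int.modEq_iff_dvd.mp h3
      obtain ⟨t, ht⟩ := this
      rw [h1 none]
      exact ⟨-t - a none, by linarith⟩

theorem leechLattice_index : leechLattice.index = 2 ^ 36 := by
  rw [← lxA3_eq, index_lxA3]

end Cfsg.Agent.Helper7
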