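import Cfsg.Agent.Lib.Helper7.LeechCount

/-!
# Counting lattice vectors having a coordinate of a given kind
-/

set_option autoImplicit false

namespace Cfsg.Agent.Helper7
open Cfsg Cfsg.Agent.Helper91

theorem leech_norm_finite (n : ℕ) (hn : n < 65) :
    {x : GolayPt → ℤ | x ∈ leechLattice ∧ sqNorm x = n}.Finite := by
  apply Set.Finite.subset (Set.Finite.pi (fun _ : GolayPt => Set.finite_Icc (-8 : ℤ) 8))
  intro x hx
  rw [Set.mem_univ_pi]
  intro i
  have := coord_bound x n hn hx.2 i
  exact ⟨this.1, this.2⟩

/-- Lattice vectors of norm `n` having a coordinate satisfying `q`. -/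
theorem leech_ncard_exists (q : ℤ → Bool) (n : ℕ) (hn : n < 65) :
    {x : GolayPt → ℤ | x ∈ leechLattice ∧ sqNorm x = n ∧ ∃ i, q (x i) = true}.ncard =
      leechNum (fun _ => true) n - leechNum (fun t => !q t) n := by
  rw [← leech_ncard_all n hn, ← leech_ncard (fun t => !q t) n hn]
  rw [← Set.ncard_sdiff _ ((leech_norm_finite n hn).subset _)]
  · congr 1
    ext x
    simp only [Set.mem_ofPred_eq, Set.mem_sdiff, Bool.not_eq_true', not_and, not_forall,
      Bool.not_eq_false]
    constructor
    · rintro ⟨h1, h2, h3⟩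
      exact ⟨⟨h1, h2⟩, fun _ _ => h3⟩
    · rintro ⟨⟨h1, h2⟩, h3⟩
      exact ⟨h1, h2, h3 h1 h2⟩
  · intro x hx
    exact ⟨hx.1, hx.2.1⟩
  · intro x hx
    exact ⟨hx.1, hx.2.1⟩

/-- all coordinates of a lattice vector have the same parity -/
theorem leech_parity {x : GolayPt → ℤ} (hx : x ∈ leechLattice) (i j : GolayPt) :
    x i % 2 = x j % 2 := by
  have hS : x ∈ leechSet := by rw [← leechLattice_coe]; exact hx
  obtain ⟨m, hpar, -, -⟩ := hS
  have a := hpar i
  have b := hpar j
  unfold Int.ModEq at a b
  omega

/-- the restriction: odd and not of absolute value 5 -/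
def rOddNo5 (t : ℤ) : Bool := decide (t % 2 = 1) && !decide (|t| = 5)

theorem three_threes_iff (x : GolayPt → ℤ) (hL : x ∈ leechLattice) (hn : sqNorm x = 48) :
    (∃ i j k, i ≠ j ∧ j ≠ k ∧ i ≠ k ∧ |x i| = 3 ∧ |x j| = 3 ∧ |x k| = 3) ↔
      ∀ i, rOddNo5 (x i) = true := by
  constructor
  · rintro ⟨i, j, k, hij, hjk, hik, hi, hj, hk⟩ l
    unfold rOddNo5
    rw [Bool.and_eq_true, decide_eq_true_eq, Bool.not_eq_true', decide_eq_false_iff_not]
    refine ⟨?_, fun hl => ?_⟩
    · have := leech_parity hL l i
      have h3 : x i = 3 ∨ x i = -3 := by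
        rcases abs_cases (x i) with h | h <;> omega
      omega
    · -- too long a vector
      have hli : l ≠ i := by rintro rfl; omega
      have hlj : l ≠ j := by rintro rfl; omega
      have hlk : l ≠ k := by rintro rfl; omega
      have hsq : ∀ t : ℤ, ∀ c : ℤ, |t| = c → t ^ 2 = c ^ 2 := by
        intro t c h; rw [← h, sq_abs]
      have key : ∀ t : GolayPt, (if t = l then (25 : ℤ) else 0) + (if t = i then 9 else 0) +
          (if t = j then 9 else 0) + (if t = k then 9 else 0) ≤ x t ^ 2 := by
        intro t
        by_cases h1 : t = l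
        · subst h1
          rw [if_pos rfl, if_neg hli, if_neg hlj, if_neg hlk, hsq _ _ hl]; norm_num
        · by_cases h2 : t = i
          · subst h2
            rw [if_neg h1, if_pos rfl, if_neg hij, if_neg hik, hsq _ _ hi]; norm_num
          · by_cases h3 : t = j
            · subst h3
              rw [if_neg h1, if_neg h2, if_pos rfl, if_neg hjk, hsq _ _ hj]; norm_num
            · by_cases h4 : t = k
              · subst h4
                rw [if_neg h1, if_neg h2, if_neg h3, if_pos rfl, hsq _ _ hk]; norm_num
              · rw [if_neg h1, if_neg h2, if_neg h3, if_neg h4]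
                positivity
      have hsum := Finset.sum_le_sum (s := Finset.univ) (fun t _ => key t)
      simp only [Finset.sum_add_distrib, Finset.sum_ite_eq', Finset.mem_univ, if_true] at hsum
      unfold sqNorm at hn
      omega
  · intro h
    -- every coordinate is ±1 or ±3
    have hb : ∀ i, x i ^ 2 = 1 ∨ x i ^ 2 = 9 := by
      intro i
      have hi := h i
      unfold rOddNo5 at hi
      rw [Bool.and_eq_true, decide_eq_true_eq, Bool.not_eq_true', decide_eq_false_iff_not] at hi
      have hbd := coord_bound x 48 (by norm_num) (by exact_mod_cast hn) i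
      obtain ⟨h1, h2⟩ := hbd
      have h5 : x i ≠ 5 ∧ x i ≠ -5 := by
        constructor <;> (intro hc; apply hi.2; rw [hc]; rfl)
      have h7 : x i ^ 2 ≤ 48 := by
        have : x i ^ 2 ≤ sqNorm x := by
          unfold sqNorm
          exact Finset.single_le_sum (f := fun j => x j ^ 2) (fun j _ => sq_nonneg (x j))
            (Finset.mem_univ i)
        omega
      have : x i = 1 ∨ x i = -1 ∨ x i = 3 ∨ x i = -3 := by
        have h8 : x i ≠ 7 ∧ x i ≠ -7 := by
          constructor <;> (intro hc; rw [hc] at h7; norm_num at h7)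
        omega
      rcases this with e | e | e | e <;> rw [e] <;> norm_num
    set F := Finset.univ.filter (fun i => x i ^ 2 = 9) with hF
    have hsum : sqNorm x = 24 + 8 * (F.card : ℤ) := by
      unfold sqNorm
      have : ∀ i, x i ^ 2 = 1 + (if x i ^ 2 = 9 then 8 else 0) := by
        intro i
        rcases hb i with e | e <;> rw [e] <;> norm_num
      rw [Finset.sum_congr rfl (fun i _ => this i), Finset.sum_add_distrib, Finset.sum_const,
        Finset.sum_ite, Finset.sum_const, Finset.sum_const_zero]
      simp only [smul_eq_mul, nsmul_eq_mul, mul_one, add_zero]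
      rw [← hF]
      have : (Finset.univ : Finset GolayPt).card = 24 := by decide
      rw [this]
      push_cast
      ring
    have hcard : F.card = 3 := by
      rw [hn] at hsum
      omega
    obtain ⟨i, j, k, hij, hik, hjk, hFe⟩ := Finset.card_eq_three.mp hcard
    have hmem : ∀ t ∈ F, |x t| = 3 := by
      intro t ht
      rw [hF, Finset.mem_filter] at ht
      have h9 : |x t| ^ 2 = 3 ^ 2 := by rw [sq_abs, ht.2]; norm_num
      have := abs_nonneg (x t)
      nlinarith
    refine ⟨i, j, k, hij, hjk, hik, hmem i ?_, hmem j ?_, hmem k ?_⟩ <;> rw [hFe] <;> simp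

end Cfsg.Agent.Helper7
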