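import Cfsg.Agent.Lib.Helper7.FrameBound
import Cfsg.Prelude.Def_SporadicCombinatorics
import Cfsg.Agent.Lib.Helper7.LeechShapes
import Cfsg.Agent.Lib.Helper7.LeechIdx
import Cfsg.Agent.Lib.Helper91.LeechMod2

/-!
# The Leech lattice modulo twice itself
-/

set_option autoImplicit false

namespace Cfsg.Agent.Helper7
open Cfsg Cfsg.Agent.Helper91

/-- doubling -/
def dblHom : (GolayPt → ℤ) →+ (GolayPt → ℤ) := nsmulAddMonoidHom 2

theorem dblHom_apply (x : GolayPt → ℤ) : dblHom x = 2 • x := rfl

theorem two_nsmul_apply (x : GolayPt → ℤ) (i : GolayPt) : (2 • x) i = 2 * x i := by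
  simp only [Pi.smul_apply, nsmul_eq_mul, Nat.cast_ofNat]

theorem dblHom_injective : Function.Injective dblHom := by
  intro x y h
  funext i
  have := congrFun h i
  simp only [dblHom_apply, two_nsmul_apply] at this
  omega

/-- reduction modulo 2 -/
def mod2Hom : (GolayPt → ℤ) →+ (GolayPt → ZMod 2) where
  toFun x := fun i => ((x i : ℤ) : ZMod 2)
  map_zero' := by funext i; simp
  map_add' x y := by funext i; simp

theorem mod2Hom_surj : Function.Surjective mod2Hom := by
  intro w
  refine ⟨fun i => ((w i).val : ℤ), ?_⟩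
  funext i
  show ((((w i).val : ℤ)) : ZMod 2) = w i
  simp

theorem dblHom_range : dblHom.range = mod2Hom.ker := by
  ext x
  rw [AddMonoidHom.mem_range, AddMonoidHom.mem_ker]
  constructor
  · rintro ⟨y, rfl⟩
    funext i
    show (((2 • y) i : ℤ) : ZMod 2) = 0
    rw [ZMod.intCast_zmod_eq_zero_iff_dvd, two_nsmul_apply]
    exact ⟨y i, rfl⟩
  · intro h
    have hd : ∀ i, (2 : ℤ) ∣ x i := fun i =>
      (ZMod.intCast_zmod_eq_zero_iff_dvd _ 2).mp (congrFun h i)
    choose y hy using hd
    refine ⟨y, ?_⟩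
    funext i
    rw [dblHom_apply, two_nsmul_apply, hy i]

theorem index_dblHom_range : dblHom.range.index = 2 ^ 24 := by
  rw [dblHom_range, AddSubgroup.index_ker, AddMonoidHom.range_eq_top.mpr mod2Hom_surj,
    AddSubgroup.card_top, Nat.card_eq_fintype_card, Fintype.card_fun, ZMod.card]
  rfl

/-- twice the lattice -/
def twoL : AddSubgroup (GolayPt → ℤ) := leechLattice.map dblHom

theorem mem_twoL (x : GolayPt → ℤ) : x ∈ twoL ↔ ∃ z ∈ leechLattice, 2 • z = x := by
  unfold twoL
  rw [AddSubgroup.mem_map]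
  rfl

theorem twoL_le : twoL ≤ leechLattice := by
  intro x hx
  obtain ⟨z, hz, rfl⟩ := (mem_twoL x).mp hx
  exact leechLattice.nsmul_mem hz 2

theorem index_twoL : twoL.index = 2 ^ 36 * 2 ^ 24 := by
  unfold twoL
  have := AddSubgroup.index_map_of_injective (H := leechLattice) dblHom_injective
  rw [this, leechLattice_index, index_dblHom_range]

theorem relIndex_twoL : twoL.relIndex leechLattice = 2 ^ 24 := by
  have h := AddSubgroup.relIndex_mul_index twoL_le
  rw [index_twoL, leechLattice_index] at h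
  have : (2 : ℕ) ^ 36 ≠ 0 := by norm_num
  have h2 : twoL.relIndex leechLattice * 2 ^ 36 = 2 ^ 24 * 2 ^ 36 := by rw [h]; ring
  exact Nat.eq_of_mul_eq_mul_right (by norm_num) h2

/-- the quotient of the lattice by twice itself -/
abbrev LeechQ : Type := ↥leechLattice ⧸ twoL.addSubgroupOf leechLattice

theorem card_LeechQ : Nat.card LeechQ = 2 ^ 24 := relIndex_twoL

/-- congruence modulo twice the lattice -/
def Cong2 (x y : GolayPt → ℤ) : Prop := ∃ z ∈ leechLattice, x - y = 2 • z

theorem mk_eq_iff (x y : leechLattice) :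
    (QuotientAddGroup.mk x : LeechQ) = QuotientAddGroup.mk y ↔ Cong2 x.1 y.1 := by
  rw [QuotientAddGroup.eq, AddSubgroup.mem_addSubgroupOf, mem_twoL]
  constructor
  · rintro ⟨z, hz, h⟩
    refine ⟨-z, leechLattice.neg_mem hz, ?_⟩
    rw [smul_neg, h]
    simp only [AddSubgroup.coe_add, AddSubgroup.coe_neg]
    abel
  · rintro ⟨z, hz, h⟩
    refine ⟨-z, leechLattice.neg_mem hz, ?_⟩
    rw [smul_neg, ← h]
    simp only [AddSubgroup.coe_add, AddSubgroup.coe_neg]
    abel

theorem Cong2.symm {x y : GolayPt → ℤ} (h : Cong2 x y) : Cong2 y x := by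
  obtain ⟨z, hz, h⟩ := h
  refine ⟨-z, leechLattice.neg_mem hz, ?_⟩
  rw [smul_neg, ← h]; abel

theorem Cong2.trans {x y w : GolayPt → ℤ} (h : Cong2 x y) (h' : Cong2 y w) : Cong2 x w := by
  obtain ⟨z, hz, h⟩ := h
  obtain ⟨z', hz', h'⟩ := h'
  refine ⟨z + z', leechLattice.add_mem hz hz', ?_⟩
  rw [smul_add, ← h, ← h']; abel

theorem cong2_neg_self {x : GolayPt → ℤ} (hx : x ∈ leechLattice) : Cong2 (-x) x := by
  refine ⟨-x, leechLattice.neg_mem hx, ?_⟩
  rw [two_nsmul]; abel

section counting
open Classical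

/-- the projection to the quotient -/
noncomputable def piQ (x : leechLattice) : LeechQ := QuotientAddGroup.mk x

theorem piQ_eq_iff (x y : leechLattice) : piQ x = piQ y ↔ Cong2 x.1 y.1 := mk_eq_iff x y

/-- the lattice vectors of a given norm, as a finite set of elements of the lattice -/
noncomputable def shortSet (n : ℕ) (hn : n < 65) : Finset ↥leechLattice :=
  (leech_norm_finite n hn).toFinset.subtype (· ∈ leechLattice)

theorem mem_shortSet (n : ℕ) (hn : n < 65) (x : leechLattice) :
    x ∈ shortSet n hn ↔ sqNorm x.1 = n := by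
  unfold shortSet
  rw [Finset.mem_subtype, Set.Finite.mem_toFinset]
  simp [x.2]

theorem card_shortSet (n : ℕ) (hn : n < 65) :
    (shortSet n hn).card = leechNum (fun _ => true) n := by
  unfold shortSet
  rw [Finset.card_subtype, Finset.filter_true_of_mem,
    ← Set.ncard_eq_toFinset_card _ (leech_norm_finite n hn), leech_ncard_all n hn]
  intro x hx
  rw [Set.Finite.mem_toFinset] at hx
  exact hx.1

/-- Two congruent short vectors of norm below 64 are equal or opposite. -/
theorem cong_small {x y : leechLattice} (hx : sqNorm x.1 ≤ 64) (hy : sqNorm y.1 ≤ 64)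
    (hc : Cong2 x.1 y.1) (h48 : sqNorm x.1 < 64 ∨ sqNorm y.1 < 64) : y = x ∨ y = -x := by
  by_contra hne
  rw [not_or] at hne
  have h1 : y.1 ≠ x.1 := fun h => hne.1 (Subtype.ext h)
  have h2 : y.1 ≠ -x.1 := fun h => hne.2 (Subtype.ext h)
  have := short_classes_of_min leech_min_norm x.1 y.1 x.2 y.2 hx hy hc h1 h2
  omega

theorem fiber_le_two (n : ℕ) (hn : n < 64) (q : LeechQ) :
    ((shortSet n (by omega)).filter (fun x => piQ x = q)).card ≤ 2 := by
  by_cases hne : ((shortSet n (by omega)).filter (fun x => piQ x = q)).Nonempty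
  · obtain ⟨x, hx⟩ := hne
    rw [Finset.mem_filter, mem_shortSet] at hx
    have hsub : (shortSet n (by omega)).filter (fun x => piQ x = q) ⊆ {x, -x} := by
      intro y hy
      rw [Finset.mem_filter, mem_shortSet] at hy
      rw [Finset.mem_insert, Finset.mem_singleton]
      apply cong_small (by rw [hx.1]; exact_mod_cast (by omega : n ≤ 64))
        (by rw [hy.1]; exact_mod_cast (by omega : n ≤ 64))
      · rw [← piQ_eq_iff, hx.2, hy.2]
      · left; rw [hx.1]; exact_mod_cast hn
    exact (Finset.card_le_card hsub).trans Finset.card_le_two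
  · rw [Finset.not_nonempty_iff_eq_empty] at hne
    rw [hne]; simp

theorem sqNorm_eq_dotProduct (x : GolayPt → ℤ) : sqNorm x = x ⬝ᵥ x := by
  unfold sqNorm dotProduct
  apply Finset.sum_congr rfl
  intro i _
  ring

theorem fiber_le_48 (q : LeechQ) :
    ((shortSet 64 (by norm_num)).filter (fun x => piQ x = q)).card ≤ 48 := by
  set F := (shortSet 64 (by norm_num)).filter (fun x => piQ x = q) with hF
  have hmem : ∀ y : leechLattice, y ∈ F ↔ sqNorm y.1 = 64 ∧ piQ y = q := by
    intro y
    rw [hF, Finset.mem_filter, mem_shortSet]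
    norm_num
  set G : Finset (GolayPt → ℤ) := F.image Subtype.val with hG
  have hcard : G.card = F.card := Finset.card_image_of_injective _ Subtype.val_injective
  have hGmem : ∀ y : GolayPt → ℤ, y ∈ G ↔ ∃ hy : y ∈ leechLattice, (⟨y, hy⟩ : leechLattice) ∈ F := by
    intro y
    rw [hG, Finset.mem_image]
    constructor
    · rintro ⟨z, hz, rfl⟩
      exact ⟨z.2, hz⟩
    · rintro ⟨hy, h⟩
      exact ⟨⟨y, hy⟩, h, rfl⟩
  have h := frame_card_le G 64 (by norm_num)
    (by
      intro y hy
      obtain ⟨hyL, hyF⟩ := (hGmem y).mp hy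
      rw [← sqNorm_eq_dotProduct]
      exact ((hmem _).mp hyF).1)
    (by
      intro y hy
      obtain ⟨hyL, hyF⟩ := (hGmem y).mp hy
      rw [hGmem]
      refine ⟨leechLattice.neg_mem hyL, ?_⟩
      rw [hmem] at hyF ⊢
      refine ⟨by show sqNorm (-y) = 64; rw [sqNorm_neg]; exact hyF.1, ?_⟩
      rw [← hyF.2, piQ_eq_iff]
      exact cong2_neg_self hyL)
    (by
      intro y hy y' hy' h1 h2
      obtain ⟨hyL, hyF⟩ := (hGmem y).mp hy
      obtain ⟨hyL', hyF'⟩ := (hGmem y').mp hy'
      rw [hmem] at hyF hyF'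
      have hc : Cong2 y y' := by
        have := (piQ_eq_iff ⟨y, hyL⟩ ⟨y', hyL'⟩).mp (by rw [hyF.2, hyF'.2])
        exact this
      have := short_classes_of_min leech_min_norm y y' hyL hyL' (by rw [hyF.1]) (by rw [hyF'.1])
        hc h1 h2
      have key : sqNorm (y + y') = sqNorm y + sqNorm y' + 2 * (y ⬝ᵥ y') := by
        unfold sqNorm dotProduct
        rw [Finset.mul_sum, ← Finset.sum_add_distrib, ← Finset.sum_add_distrib]
        apply Finset.sum_congr rfl
        intro i _
        simp only [Pi.add_apply]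
        ring
      omega)
  rw [hcard] at h
  have : Fintype.card GolayPt = 24 := by decide
  omega

theorem leechNum_0 : leechNum (fun _ => true) 0 = 1 := by decide +kernel
theorem leechNum_32 : leechNum (fun _ => true) 32 = 196560 := by decide +kernel
theorem leechNum_48 : leechNum (fun _ => true) 48 = 16773120 := by decide +kernel
theorem leechNum_64 : leechNum (fun _ => true) 64 = 398034000 := by decide +kernel

instance : Finite LeechQ := Nat.finite_of_card_ne_zero (by rw [card_LeechQ]; norm_num)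

noncomputable instance : Fintype LeechQ := Fintype.ofFinite _

/-- the classes of the short vectors of norm `n` -/
noncomputable def imgSet (n : ℕ) (hn : n < 65) : Finset LeechQ := (shortSet n hn).image piQ

theorem imgSet_disjoint (m n : ℕ) (hm : m < 65) (hn : n < 65) (hmn : m ≠ n) :
    Disjoint (imgSet m hm) (imgSet n hn) := by
  rw [Finset.disjoint_left]
  intro q hq hq'
  unfold imgSet at hq hq'
  rw [Finset.mem_image] at hq hq'
  obtain ⟨x, hx, rfl⟩ := hq
  obtain ⟨y, hy, hxy⟩ := hq'
  rw [mem_shortSet] at hx hy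
  have hc : Cong2 x.1 y.1 := (piQ_eq_iff x y).mp hxy.symm
  have h1 : y.1 ≠ x.1 := by
    intro h; rw [h, hx] at hy; exact hmn (by exact_mod_cast hy)
  have h2 : y.1 ≠ -x.1 := by
    intro h; rw [h, sqNorm_neg, hx] at hy; exact hmn (by exact_mod_cast hy)
  have := short_classes_of_min leech_min_norm x.1 y.1 x.2 y.2
    (by rw [hx]; exact_mod_cast (by omega : m ≤ 64)) (by rw [hy]; exact_mod_cast (by omega : n ≤ 64))
    hc h1 h2
  rw [hx, hy] at this
  have e1 : (m : ℤ) = 64 := this.1
  have e2 : (n : ℤ) = 64 := this.2.1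
  omega

theorem card_le_imgSet (n : ℕ) (hn : n < 64) :
    (shortSet n (by omega)).card ≤ 2 * (imgSet n (by omega)).card :=
  Finset.card_le_mul_card_image _ 2 (fun q _ => fiber_le_two n hn q)

theorem card_le_imgSet64 :
    (shortSet 64 (by norm_num)).card ≤ 48 * (imgSet 64 (by norm_num)).card :=
  Finset.card_le_mul_card_image _ 48 (fun q _ => fiber_le_48 q)

/-- the four image sets exhaust the quotient, and their sizes -/
theorem imgSet_cards :
    (imgSet 0 (by norm_num) ∪ imgSet 32 (by norm_num) ∪ imgSet 48 (by norm_num) ∪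
      imgSet 64 (by norm_num) = Finset.univ) ∧ (imgSet 64 (by norm_num)).card = 8292375 := by
  have h0 := card_le_imgSet 0 (by norm_num)
  have h32 := card_le_imgSet 32 (by norm_num)
  have h48 := card_le_imgSet 48 (by norm_num)
  have h64 := card_le_imgSet64
  rw [card_shortSet, leechNum_0] at h0
  rw [card_shortSet, leechNum_32] at h32
  rw [card_shortSet, leechNum_48] at h48
  rw [card_shortSet, leechNum_64] at h64
  have d1 : Disjoint (imgSet 0 (by norm_num)) (imgSet 32 (by norm_num)) :=
    imgSet_disjoint 0 32 _ _ (by norm_num)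
  have d2 : Disjoint (imgSet 0 (by norm_num) ∪ imgSet 32 (by norm_num)) (imgSet 48 (by norm_num)) := by
    rw [Finset.disjoint_union_left]
    exact ⟨imgSet_disjoint 0 48 _ _ (by norm_num), imgSet_disjoint 32 48 _ _ (by norm_num)⟩
  have d3 : Disjoint (imgSet 0 (by norm_num) ∪ imgSet 32 (by norm_num) ∪ imgSet 48 (by norm_num))
      (imgSet 64 (by norm_num)) := by
    rw [Finset.disjoint_union_left, Finset.disjoint_union_left]
    exact ⟨⟨imgSet_disjoint 0 64 _ _ (by norm_num), imgSet_disjoint 32 64 _ _ (by norm_num)⟩,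
      imgSet_disjoint 48 64 _ _ (by norm_num)⟩
  have hcard : (imgSet 0 (by norm_num) ∪ imgSet 32 (by norm_num) ∪ imgSet 48 (by norm_num) ∪
      imgSet 64 (by norm_num)).card = (imgSet 0 (by norm_num)).card + (imgSet 32 (by norm_num)).card +
      (imgSet 48 (by norm_num)).card + (imgSet 64 (by norm_num)).card := by
    rw [Finset.card_union_of_disjoint d3, Finset.card_union_of_disjoint d2,
      Finset.card_union_of_disjoint d1]
  have hle := Finset.card_le_univ (imgSet 0 (by norm_num) ∪ imgSet 32 (by norm_num) ∪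
    imgSet 48 (by norm_num) ∪ imgSet 64 (by norm_num))
  have hQ : Fintype.card LeechQ = 2 ^ 24 := by
    rw [← Nat.card_eq_fintype_card, card_LeechQ]
  rw [hQ, hcard] at hle
  norm_num at hle
  refine ⟨?_, by omega⟩
  apply Finset.eq_univ_of_card
  rw [hcard, hQ]
  norm_num
  omega

/-- Every class modulo twice the lattice contains a vector of norm at most 64. -/
theorem exists_short_rep (x : GolayPt → ℤ) (hx : x ∈ leechLattice) :
    ∃ y ∈ leechLattice, sqNorm y ≤ 64 ∧ ∃ z ∈ leechLattice, x - y = 2 • z := by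
  have hmem : piQ ⟨x, hx⟩ ∈ (Finset.univ : Finset LeechQ) := Finset.mem_univ _
  rw [← imgSet_cards.1] at hmem
  simp only [Finset.mem_union, imgSet, Finset.mem_image, mem_shortSet] at hmem
  have key : ∀ (n : ℕ), n ≤ 64 → (∃ a : leechLattice, sqNorm a.1 = n ∧ piQ a = piQ ⟨x, hx⟩) →
      ∃ y ∈ leechLattice, sqNorm y ≤ 64 ∧ ∃ z ∈ leechLattice, x - y = 2 • z := by
    rintro n hn ⟨a, ha, hq⟩
    refine ⟨a.1, a.2, by rw [ha]; exact_mod_cast hn, ?_⟩
    exact (piQ_eq_iff ⟨x, hx⟩ a).mp hq.symm
  rcases hmem with ((h | h) | h) | h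
  · exact key 0 (by norm_num) h
  · exact key 32 (by norm_num) h
  · exact key 48 (by norm_num) h
  · exact key 64 (by norm_num) h

/-- every class of a vector of norm 64 contains exactly 48 vectors of norm 64 -/
theorem fiber_eq_48 (x : leechLattice) (hx : sqNorm x.1 = 64) :
    ((shortSet 64 (by norm_num)).filter (fun y => piQ y = piQ x)).card = 48 := by
  by_contra hne
  have hlt : ((shortSet 64 (by norm_num)).filter (fun y => piQ y = piQ x)).card < 48 :=
    lt_of_le_of_ne (fiber_le_48 _) hne
  have hsum := Finset.card_eq_sum_card_image piQ (shortSet 64 (by norm_num))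
  have hxI : piQ x ∈ (shortSet 64 (by norm_num)).image piQ :=
    Finset.mem_image_of_mem _ ((mem_shortSet 64 _ x).mpr (by rw [hx]; norm_num))
  have hlt2 : ∑ b ∈ (shortSet 64 (by norm_num)).image piQ,
      ((shortSet 64 (by norm_num)).filter (fun a => piQ a = b)).card <
      ∑ _b ∈ (shortSet 64 (by norm_num)).image piQ, 48 :=
    Finset.sum_lt_sum (fun q _ => fiber_le_48 q) ⟨piQ x, hxI, hlt⟩
  rw [← hsum, Finset.sum_const, card_shortSet, leechNum_64, smul_eq_mul] at hlt2
  have := imgSet_cards.2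
  unfold imgSet at this
  rw [this] at hlt2
  norm_num at hlt2

theorem cross_ncard (x : GolayPt → ℤ) (hx : x ∈ leechLattice) (hxn : sqNorm x = 64) :
    (cross x).ncard = 48 := by
  rw [← fiber_eq_48 ⟨x, hx⟩ hxn]
  have : cross x = Subtype.val '' (((shortSet 64 (by norm_num)).filter
      (fun y => piQ y = piQ ⟨x, hx⟩) : Finset leechLattice) : Set leechLattice) := by
    ext y
    simp only [cross, Set.mem_ofPred_eq, Set.mem_image, Finset.mem_coe, Finset.mem_filter,
      mem_shortSet]
    constructor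
    · rintro ⟨hy, hyn, hc⟩
      refine ⟨⟨y, hy⟩, ⟨by rw [hyn, hxn]; norm_num, ?_⟩, rfl⟩
      rw [piQ_eq_iff]
      exact Cong2.symm hc
    · rintro ⟨a, ⟨ha, hq⟩, rfl⟩
      refine ⟨a.2, by rw [ha, hxn]; norm_num, ?_⟩
      exact Cong2.symm ((piQ_eq_iff a ⟨x, hx⟩).mp hq)
  rw [this, Set.ncard_image_of_injective _ Subtype.val_injective, Set.ncard_coe_finset]

end counting

end Cfsg.Agent.Helper7
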