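import Cfsg.Agent.Lib.Helper7.Census32
import Cfsg.Agent.Lib.Helper7.Co0Trans48
import Cfsg.Agent.Lib.Helper7.LeechMod2Count

/-!
# A vector of norm 48 is a sum of two minimal vectors in 552 ordered ways
-/

set_option autoImplicit false

namespace Cfsg.Agent.Helper7
open Cfsg Cfsg.Agent.Helper91

open Classical in
/-- the minimal vectors whose difference with `u` is minimal -/
noncomputable def pairSet (u : leechLattice) : Finset ↥leechLattice :=
  (shortSet 32 (by norm_num)).filter (fun v => sqNorm (u.1 - v.1) = 32)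

theorem mem_pairSet (u v : leechLattice) :
    v ∈ pairSet u ↔ sqNorm v.1 = 32 ∧ sqNorm (u.1 - v.1) = 32 := by
  unfold pairSet
  rw [Finset.mem_filter, mem_shortSet]
  norm_num

theorem co0_sub (g : Equiv.Perm leechLattice) (hg : g ∈ Co0) (x y : leechLattice) :
    g (x - y) = g x - g y := by
  have h := hg.1 (x - y) y
  rw [sub_add_cancel] at h
  rw [h, add_sub_cancel_right]

theorem pairSet_card_orbit (u u' : leechLattice) (h : Orb u u') :
    (pairSet u').card = (pairSet u).card := by
  obtain ⟨g, hg, rfl⟩ := h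
  symm
  apply Finset.card_bij (fun v _ => g v)
  · intro v hv
    rw [mem_pairSet] at hv ⊢
    refine ⟨by rw [hg.2]; exact hv.1, ?_⟩
    have h1 : (g u).1 - (g v).1 = (g (u - v)).1 := by rw [co0_sub g hg]; rfl
    rw [h1, hg.2]
    exact hv.2
  · intro a _ b _ hab
    exact g.injective hab
  · intro b hb
    rw [mem_pairSet] at hb
    refine ⟨g.symm b, ?_, by simp⟩
    rw [mem_pairSet]
    have h0 := hg.2 (g.symm b)
    rw [Equiv.apply_symm_apply] at h0
    refine ⟨by rw [← h0]; exact hb.1, ?_⟩
    have h1 := hg.2 (u - g.symm b)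
    rw [co0_sub g hg, Equiv.apply_symm_apply] at h1
    have h2 : u.1 - (g.symm b).1 = (u - g.symm b).1 := rfl
    rw [h2, ← h1]
    exact hb.2

open Classical in
/-- for a minimal vector `v`, the vectors `u` of norm 48 with `u - v` minimal -/
theorem card_fibre_pairs (v : leechLattice) (hv : sqNorm v.1 = 32) :
    ((shortSet 48 (by norm_num)).filter (fun u : leechLattice => sqNorm (u.1 - v.1) = 32)).card =
      47104 := by
  rw [← (census32 v.1 v.2 hv).2.1, ← Set.ncard_coe_finset]
  apply Set.ncard_congr (fun (u : leechLattice) _ => u.1 - v.1)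
  · intro u hu
    rw [Finset.mem_coe, Finset.mem_filter, mem_shortSet] at hu
    refine ⟨leechLattice.sub_mem u.2 v.2, hu.2, ?_⟩
    have h1 := sqNorm_add v.1 (u.1 - v.1)
    rw [add_sub_cancel, hu.1, hv, hu.2] at h1
    push_cast at h1
    omega
  · intro a b _ _ hab
    apply Subtype.ext
    have : a.1 - v.1 + v.1 = b.1 - v.1 + v.1 := by rw [hab]
    simpa using this
  · intro w hw
    have h1 := sqNorm_add v.1 w
    rw [hv, hw.2.1, hw.2.2] at h1
    refine ⟨⟨v.1 + w, leechLattice.add_mem v.2 hw.1⟩, ?_, ?_⟩
    · rw [Finset.mem_coe, Finset.mem_filter, mem_shortSet]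
      refine ⟨?_, ?_⟩
      · show sqNorm (v.1 + w) = _
        rw [h1]; norm_num
      · show sqNorm (v.1 + w - v.1) = 32
        rw [add_sub_cancel_left]
        exact hw.2.1
    · show v.1 + w - v.1 = w
      rw [add_sub_cancel_left]

open Classical in
theorem pairs_sum :
    ∑ u ∈ shortSet 48 (by norm_num), (pairSet u).card = 196560 * 47104 := by
  have h1 : ∀ u : leechLattice, (pairSet u).card =
      ∑ v ∈ shortSet 32 (by norm_num), if sqNorm (u.1 - v.1) = 32 then 1 else 0 := by
    intro u
    unfold pairSet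
    rw [Finset.card_filter]
  simp only [h1]
  rw [Finset.sum_comm]
  have h2 : ∀ v ∈ shortSet 32 (by norm_num),
      (∑ u ∈ shortSet 48 (by norm_num), if sqNorm (u.1 - v.1) = 32 then 1 else 0) = 47104 := by
    intro v hv
    rw [mem_shortSet] at hv
    rw [← Finset.card_filter]
    exact card_fibre_pairs v (by exact_mod_cast hv)
  rw [Finset.sum_congr rfl h2, Finset.sum_const, card_shortSet, leechNum_32, smul_eq_mul]

theorem pairSet_card (u : leechLattice) (hu : sqNorm u.1 = 48) : (pairSet u).card = 552 := by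
  have h := pairs_sum
  have h2 : ∀ u' ∈ shortSet 48 (by norm_num), (pairSet u').card = (pairSet u).card := by
    intro u' hu'
    rw [mem_shortSet] at hu'
    exact pairSet_card_orbit u u' (co0_trans48 u u' hu (by exact_mod_cast hu'))
  rw [Finset.sum_congr rfl h2, Finset.sum_const, card_shortSet, leechNum_48, smul_eq_mul] at h
  omega

end Cfsg.Agent.Helper7
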