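import Cfsg.Agent.Lib.Helper91.LeechPred

set_option autoImplicit false

namespace Cfsg.Agent.Helper7
open Cfsg Cfsg.Agent.Helper91

theorem empty_mem_supports : (∅ : Finset GolayPt) ∈ supports (golayCode : Set W) :=
  ⟨0, Submodule.zero_mem _, by ext p; simp [mem_support₂]⟩

theorem compl_mem_supports {b : Finset GolayPt} (hb : b ∈ supports (golayCode : Set W)) :
    bᶜ ∈ supports (golayCode : Set W) := by
  obtain ⟨w, hw, rfl⟩ := hb
  refine ⟨w + 1, Submodule.add_mem _ hw one_mem_golayCode, ?_⟩
  ext p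
  rw [mem_support₂, Finset.mem_compl, mem_support₂]
  simp only [Pi.add_apply, Pi.one_apply]
  have : ∀ z : ZMod 2, z + 1 ≠ 0 ↔ ¬ z ≠ 0 := by decide
  exact this _

/-- The defining set of the lattice is exactly the set of vectors satisfying `LP`. -/
theorem mem_leechSet_iff (x : GolayPt → ℤ) : x ∈ leechSet ↔ LP x := by
  constructor
  · exact LP_of_mem_leechSet
  · rintro ⟨m, a, h1, h2, h3⟩
    refine ⟨m, fun i => ?_, h3, fun k => ?_⟩
    · rw [h1 i, Int.modEq_iff_dvd]
      exact ⟨-(a i), by ring⟩
    · have hsupp : support₂ (red a) ∈ supports (golayCode : Set W) := ⟨_, h2, rfl⟩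
      by_cases hk2 : k % 2 = m % 2
      · by_cases hk4 : k % 4 = m % 4
        · have : (Finset.univ.filter fun i => x i ≡ k [ZMOD 4]) = (support₂ (red a))ᶜ := by
            ext p
            rw [Finset.mem_filter, Finset.mem_compl, mem_support₂_red, Int.odd_iff]
            simp only [Finset.mem_univ, true_and]
            rw [h1 p]
            unfold Int.ModEq
            omega
          rw [this]
          exact compl_mem_supports hsupp
        · have : (Finset.univ.filter fun i => x i ≡ k [ZMOD 4]) = support₂ (red a) := by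
            ext p
            rw [Finset.mem_filter, mem_support₂_red, Int.odd_iff]
            simp only [Finset.mem_univ, true_and]
            rw [h1 p]
            unfold Int.ModEq
            omega
          rw [this]
          exact hsupp
      · have : (Finset.univ.filter fun i => x i ≡ k [ZMOD 4]) = ∅ := by
          ext p
          rw [Finset.mem_filter]
          simp only [Finset.mem_univ, true_and, Finset.notMem_empty, iff_false]
          rw [h1 p]
          unfold Int.ModEq
          omega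
        rw [this]
        exact empty_mem_supports

/-- `leechSet` is the carrier of an additive subgroup. -/
theorem leechSet_closed : ∃ L : AddSubgroup (GolayPt → ℤ), (L : Set (GolayPt → ℤ)) = leechSet :=
  ⟨{ carrier := leechSet
     zero_mem' := (mem_leechSet_iff 0).mpr LP_zero
     add_mem' := fun {x y} hx hy =>
       (mem_leechSet_iff _).mpr (LP_add ((mem_leechSet_iff x).mp hx) ((mem_leechSet_iff y).mp hy))
     neg_mem' := fun {x} hx => (mem_leechSet_iff _).mpr (LP_neg ((mem_leechSet_iff x).mp hx)) },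
   rfl⟩

theorem mem_leechLattice_iff (x : GolayPt → ℤ) : x ∈ leechLattice ↔ LP x :=
  ⟨LP_of_mem_leechLattice, fun h => AddSubgroup.subset_closure ((mem_leechSet_iff x).mpr h)⟩

theorem leechLattice_coe : (leechLattice : Set (GolayPt → ℤ)) = leechSet := by
  ext x
  rw [SetLike.mem_coe, mem_leechLattice_iff, mem_leechSet_iff]

theorem sq_mod_four (a : ℤ) : a ^ 2 % 4 = if a % 2 = 1 then 1 else 0 := by
  rcases Int.emod_two_eq_zero_or_one a with h | h
  · obtain ⟨c, rfl⟩ : ∃ c, a = 2 * c := ⟨a / 2, by omega⟩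
    rw [if_neg (by omega)]
    have : (2 * c) ^ 2 = 4 * c ^ 2 := by ring
    omega
  · obtain ⟨c, rfl⟩ : ∃ c, a = 2 * c + 1 := ⟨a / 2, by omega⟩
    rw [if_pos (by omega)]
    have : (2 * c + 1) ^ 2 = 4 * (c ^ 2 + c) + 1 := by ring
    omega

/-- The sum of squares of a vector whose reduction mod 2 is a code word is divisible by 4. -/
theorem four_dvd_sum_sq (a : GolayPt → ℤ) (h2 : red a ∈ golayCode) : (4 : ℤ) ∣ ∑ i, a i ^ 2 := by
  have h4 := four_dvd_card_support _ h2
  have hcard : ((support₂ (red a)).card : ℤ) = ∑ i, if a i % 2 = 1 then (1 : ℤ) else 0 := by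
    rw [Finset.sum_boole]
    congr 2
    ext p
    rw [mem_support₂_red, Int.odd_iff, Finset.mem_filter]
    simp
  have hmod : (∑ i, a i ^ 2) % 4 = (∑ i, if a i % 2 = 1 then (1 : ℤ) else 0) % 4 := by
    rw [Finset.sum_int_mod, Finset.sum_congr rfl (fun i _ => sq_mod_four (a i))]
  rw [← hcard] at hmod
  have : ((support₂ (red a)).card : ℤ) % 4 = 0 := by
    obtain ⟨c, hc⟩ := h4
    rw [hc]
    push_cast
    omega
  omega

/-- The sum of squares of a lattice vector is divisible by 16. -/
theorem sixteen_dvd_sqNorm (x : GolayPt → ℤ) (hx : x ∈ leechLattice) : (16 : ℤ) ∣ sqNorm x := by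
  obtain ⟨m, a, h1, h2, h3⟩ := LP_of_mem_leechLattice hx
  obtain ⟨u, hu⟩ := four_dvd_sum_sq a h2
  have hsum : ∑ i, x i = 24 * m + 2 * ∑ i, a i := by
    rw [Finset.sum_congr rfl (fun i _ => h1 i), Finset.sum_add_distrib, ← Finset.mul_sum]
    simp
  have hsq : sqNorm x = 24 * m ^ 2 + 4 * m * (∑ i, a i) + 4 * ∑ i, a i ^ 2 := by
    unfold sqNorm
    rw [Finset.sum_congr rfl (fun i _ => by rw [h1 i])]
    have : ∀ i, (m + 2 * a i) ^ 2 = m ^ 2 + 4 * m * a i + 4 * a i ^ 2 := fun i => by ring
    rw [Finset.sum_congr rfl (fun i _ => this i), Finset.sum_add_distrib, Finset.sum_add_distrib,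
      ← Finset.mul_sum, ← Finset.mul_sum]
    simp
  rw [hsum] at h3
  unfold Int.ModEq at h3
  obtain ⟨t, ht⟩ : ∃ t, ∑ i, a i = 2 * m + 4 * t := ⟨(∑ i, a i - 2 * m) / 4, by omega⟩
  rw [hsq, hu, ht]
  exact ⟨2 * m ^ 2 + m * t + u, by ring⟩

end Cfsg.Agent.Helper7
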