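import Cfsg.Agent.Lib.Helper7.Weights

set_option autoImplicit false

namespace Cfsg.Agent.Helper7
open Cfsg
open scoped Pointwise

/-- Twelve octads spanning the code. -/
def octBL : List ℕ := [5279, 10558, 18147, 36294, 69395, 133817, 262637, 525274, 1050548, 2101096, 4196943, 8391797]

/-- Which of the twelve octads add up to each generator. -/
def octSelL : List ℕ := [83, 166, 332, 665, 1331, 614, 1229, 410, 821, 1643, 1239, 431, 863, 1726, 1404, 760, 1520, 993, 1986, 1925, 1802, 1556, 1065, 4095]

theorem octBL_spec : ∀ i < 12, octBL.getD i 0 < 2 ^ 24 ∧ encMask (octBL.getD i 0) = octBL.getD i 0 ∧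
    popcF (octBL.getD i 0) = 8 := by
  decide +kernel

theorem genMask_eq_octs : ∀ j < 24, genMask j =
    xorUpTo (fun i => if (octSelL.getD j 0).testBit i then octBL.getD i 0 else 0) 12 := by
  decide +kernel

theorem indW_smul (g : Equiv.Perm GolayPt) (b : Finset GolayPt) :
    (fun p => indW b (g.symm p)) = indW (g • b) := by
  apply support₂_injective
  rw [← image_support₂, support₂_indW, support₂_indW, smul_finset_eq]

theorem octads_finite : octads.Finite := Set.toFinite _

theorem ofMask_octBL_mem (i : ℕ) (hi : i < 12) : ofMask (octBL.getD i 0) ∈ octads := by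
  obtain ⟨h1, h2, h3⟩ := octBL_spec i hi
  rw [mem_octads_iff]
  exact ⟨(ofMask_mem_iff _ h1).mpr h2, by rw [card_ofMask', h3]⟩

/-- The code is spanned by the octads. -/
theorem golayCode_eq_span_octads :
    golayCode = Submodule.span (ZMod 2) (indW '' octads) := by
  apply le_antisymm
  · have hgen : ∀ j < 24, decW (genMask j) ∈ Submodule.span (ZMod 2) (indW '' octads) := by
      intro j hj
      rw [genMask_eq_octs j hj, decW_xorUpTo]
      apply Submodule.sum_mem
      intro i hi
      split
      · apply Submodule.subset_span
        refine ⟨ofMask (octBL.getD i 0), ofMask_octBL_mem i (Finset.mem_range.mp hi), ?_⟩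
        rw [indW_ofMask]
      · rw [decW_zero]; exact Submodule.zero_mem _
    apply Submodule.span_le.mpr
    rintro x (⟨t, rfl⟩ | hx)
    · rw [qrWord_eq]
      exact hgen _ (lt_trans (ZMod.val_lt t) (by norm_num))
    · rw [Set.mem_singleton_iff.mp hx, one_eq]
      exact hgen 23 (by norm_num)
  · apply Submodule.span_le.mpr
    rintro x ⟨o, ho, rfl⟩
    exact (mem_supports_iff _ o).mp ho.1

/-- `M24` is the automorphism group of the system of octads. -/
theorem M24_eq_aut_octads : M24 = setSystemAut octads := by
  ext g
  constructor
  · intro hg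
    rw [setSystemAut, MulAction.mem_stabilizer_set' octads_finite]
    intro b hb
    rw [mem_octads_iff] at hb ⊢
    refine ⟨smul_mem_supports hg hb.1, ?_⟩
    rw [smul_finset_eq, Finset.card_image_of_injective _ g.injective]
    exact hb.2
  · intro hg
    rw [setSystemAut, MulAction.mem_stabilizer_set' octads_finite] at hg
    have key : ∀ w ∈ Submodule.span (ZMod 2) (indW '' octads),
        (fun p => w (g.symm p)) ∈ Submodule.span (ZMod 2) (indW '' octads) := by
      intro w hw
      refine Submodule.span_induction ?_ ?_ ?_ ?_ hw
      · rintro x ⟨o, ho, rfl⟩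
        rw [indW_smul]
        exact Submodule.subset_span ⟨_, hg ho, rfl⟩
      · exact Submodule.zero_mem _
      · intro x y _ _ hx hy
        exact Submodule.add_mem _ hx hy
      · intro c x _ hx
        exact Submodule.smul_mem _ c hx
    apply mem_M24_of_key
    intro t
    rw [golayCode_eq_span_octads]
    apply key
    rw [← golayCode_eq_span_octads]
    exact Submodule.subset_span (Or.inl ⟨t, rfl⟩)

end Cfsg.Agent.Helper7
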