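import Cfsg.Agent.Lib.Helper7.Co0Center
import Cfsg.Agent.Lib.Helper7.M24Order
import Cfsg.Agent.Lib.Helper92.LeechIndex

/-!
# The stabiliser of the standard cross in `Co0` is the monomial group
-/

set_option autoImplicit false

namespace Cfsg.Agent.Helper7
open Cfsg Cfsg.Agent.Helper91 Cfsg.Agent.Helper92
open scoped Pointwise

/-- An additive map into the ambient group is determined by its values on the frame. -/
theorem addHom_ext_frame' (f h : leechLattice →+ (GolayPt → ℤ))
    (hfh : ∀ i, f (frameVec i) = h (frameVec i)) : f = h := by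
  ext x : 1
  have key : (8 : ℤ) • f x = (8 : ℤ) • h x := by
    rw [← map_zsmul, ← map_zsmul, eight_smul_eq_sum, map_sum, map_sum]
    apply Finset.sum_congr rfl
    intro i _
    rw [map_zsmul, map_zsmul, hfh i]
  funext j
  have := congrFun key j
  simp only [Pi.smul_apply, smul_eq_mul] at this
  omega

/-- the signed permutation as an additive map on the lattice -/
def signedHom (σ : Equiv.Perm GolayPt) (c : Finset GolayPt) : leechLattice →+ (GolayPt → ℤ) :=
  AddMonoidHom.mk' (fun x => signedPerm σ c x.1) (fun v w => signedPerm_add σ c v.1 w.1)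

/-- the property of stabilising the standard cross -/
def StabCross (g : Equiv.Perm leechLattice) : Prop :=
  ∀ v : leechLattice, (v : GolayPt → ℤ) ∈ stdCross → ((g v : leechLattice) : GolayPt → ℤ) ∈ stdCross

theorem frameVec_mem_stdCross (i : GolayPt) : (frameVec i : GolayPt → ℤ) ∈ stdCross :=
  ⟨i, 8, Or.inl rfl, rfl⟩

theorem single_injective_of_ne {i j : GolayPt} {s t : ℤ} (hs : s ≠ 0)
    (h : (Pi.single i s : GolayPt → ℤ) = Pi.single j t) : i = j ∧ s = t := by
  have h1 := congrFun h i
  rw [Pi.single_eq_same] at h1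
  by_cases hij : i = j
  · subst hij
    rw [Pi.single_eq_same] at h1
    exact ⟨rfl, h1⟩
  · rw [Pi.single_eq_of_ne hij] at h1
    exact absurd h1 hs

theorem monoPerm_stab (σ : Equiv.Perm GolayPt) (c : Finset GolayPt) (hσ : σ ∈ M24) (hc : c ∈ Code) :
    StabCross (monoPerm σ c hσ hc) := by
  rintro v ⟨i, s, hs, hv⟩
  rw [monoPerm_val, hv, signedPerm_single]
  refine ⟨σ i, _, ?_, rfl⟩
  split_ifs <;> rcases hs with rfl | rfl <;> simp

/-- An element of `Co0` stabilising the standard cross is monomial. -/
theorem stab_is_mono (g : Equiv.Perm leechLattice) (hg : g ∈ Co0) (hst : StabCross g) :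
    ∃ (σ : Equiv.Perm GolayPt) (c : Finset GolayPt) (hσ : σ ∈ M24) (hc : c ∈ Code),
      g = monoPerm σ c hσ hc := by
  -- images of the frame vectors
  have himg : ∀ i, ∃ (j : GolayPt) (s : ℤ), (s = 8 ∨ s = -8) ∧
      ((g (frameVec i) : leechLattice) : GolayPt → ℤ) = Pi.single j s :=
    fun i => hst (frameVec i) (frameVec_mem_stdCross i)
  choose τ s hs hτ using himg
  have hs0 : ∀ i, s i ≠ 0 := fun i => by rcases hs i with h | h <;> rw [h] <;> norm_num
  have hinj : Function.Injective τ := by
    intro i j hij
    by_contra hne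
    -- g (v_i ∓ v_j) = 0
    have hsij : s i = s j ∨ s i = -s j := by
      rcases hs i with h | h <;> rcases hs j with h' | h' <;> rw [h, h'] <;> norm_num
    rcases hsij with h | h
    · have : g (frameVec i) = g (frameVec j) := by
        apply Subtype.ext
        rw [hτ i, hτ j, hij, h]
      have := g.injective this
      have := congrArg (fun v : leechLattice => v.1 i) this
      simp only [frameVec_val, Pi.single_eq_same, Pi.single_eq_of_ne hne] at this
      norm_num at this
    · have : g (frameVec i) = g (-frameVec j) := by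
        rw [co0_map_neg g hg]
        apply Subtype.ext
        rw [AddSubgroup.coe_neg, hτ i, hτ j, hij, h, Pi.single_neg]
      have := g.injective this
      have := congrArg (fun v : leechLattice => v.1 i) this
      simp only [frameVec_val, AddSubgroup.coe_neg, Pi.neg_apply, Pi.single_eq_same,
        Pi.single_eq_of_ne hne] at this
      norm_num at this
  have hbij : Function.Bijective τ := Finite.injective_iff_bijective.mp hinj
  set σ : Equiv.Perm GolayPt := Equiv.ofBijective τ hbij with hσdef
  have hσi : ∀ i, σ i = τ i := fun i => rfl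
  set c : Finset GolayPt := Finset.univ.filter (fun j => s (σ.symm j) = -8) with hcdef
  have hmemc : ∀ i, σ i ∈ c ↔ s i = -8 := by
    intro i
    rw [hcdef, Finset.mem_filter, σ.symm_apply_apply]
    simp
  -- agreement on the lattice
  have hagree : ∀ x : leechLattice, ((g x : leechLattice) : GolayPt → ℤ) = signedPerm σ c x.1 := by
    have : (AddSubgroup.subtype leechLattice).comp (co0Hom g hg) = signedHom σ c := by
      apply addHom_ext_frame'
      intro i
      show ((g (frameVec i) : leechLattice) : GolayPt → ℤ) = signedPerm σ c (frameVec i).1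
      rw [hτ i, frameVec_val, signedPerm_single, hσi]
      congr 1
      rcases hs i with h | h
      · rw [if_neg (by rw [← hσi, hmemc, h]; norm_num), h]
      · rw [if_pos (by rw [← hσi, hmemc, h]), h]
    intro x
    exact DFunLike.congr_fun this x
  -- the permutation preserves the code
  have hσ : σ ∈ M24 := by
    rw [mem_M24_iff]
    intro b hb
    have hx : twoInd b ∈ leechLattice := twoInd_mem hb
    have hgx := (g ⟨twoInd b, hx⟩).2
    rw [hagree] at hgx
    have hS : signedPerm σ c (twoInd b) ∈ leechSet := by rw [← leechLattice_coe]; exact hgx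
    obtain ⟨m, -, -, hcode⟩ := hS
    have := hcode 2
    convert this using 1
    ext j
    rw [mem_smul_iff, Finset.mem_filter]
    simp only [Finset.mem_univ, true_and, signedPerm_apply, twoInd]
    unfold Int.ModEq
    by_cases hj : σ.symm j ∈ b
    · simp only [hj, if_true, true_iff]
      split_ifs <;> norm_num
    · simp only [hj, if_false, false_iff]
      split_ifs <;> norm_num
  -- the sign set is a code word
  have hc : c ∈ Code := by
    have hgx := (g ⟨oddVec, oddVec_mem⟩).2
    rw [hagree] at hgx
    have hS : signedPerm σ c oddVec ∈ leechSet := by rw [← leechLattice_coe]; exact hgx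
    obtain ⟨m, -, -, hcode⟩ := hS
    have hceq : c = Finset.univ.filter (fun i => signedPerm σ c oddVec i ≡ 3 [ZMOD 4]) := by
      ext j
      have e : (j ∈ Finset.univ.filter (fun i => signedPerm σ c oddVec i ≡ 3 [ZMOD 4])) ↔
          signedPerm σ c oddVec j ≡ 3 [ZMOD 4] := by simp
      rw [e, signedPerm_apply]
      unfold oddVec Int.ModEq
      by_cases hj : j ∈ c
      · simp only [hj, if_true, true_iff]
        split_ifs <;> norm_num
      · simp only [hj, if_false, false_iff]
        split_ifs <;> norm_num
    have := hcode 3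
    rwa [← hceq] at this
  refine ⟨σ, c, hσ, hc, ?_⟩
  ext x : 1
  apply Subtype.ext
  rw [hagree, monoPerm_val]

theorem codeList_length : codeList.length = 4096 := by decide +kernel

theorem card_Code : Nat.card (↥(Code : Set (Finset GolayPt))) = 4096 := by
  rw [Nat.card_coe_set_eq]
  have : (Code : Set (Finset GolayPt)) = ↑((codeList.map ofMask).toFinset) := by
    ext b
    rw [Finset.mem_coe, List.mem_toFinset, List.mem_map]
    exact mem_supports_iff_codeList b
  rw [this, Set.ncard_coe_finset, List.toFinset_card_of_nodup, List.length_map, codeList_length]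
  apply List.Nodup.map_on _ codeList_nodup
  intro x hx y hy hxy
  exact ofMask_injOn x y (codeList_lt hx) (codeList_lt hy) hxy

theorem monoPerm_inj (σ σ' : Equiv.Perm GolayPt) (c c' : Finset GolayPt) (hσ : σ ∈ M24)
    (hσ' : σ' ∈ M24) (hc : c ∈ Code) (hc' : c' ∈ Code)
    (h : monoPerm σ c hσ hc = monoPerm σ' c' hσ' hc') : σ = σ' ∧ c = c' := by
  have key : ∀ i, σ i = σ' i ∧ (σ i ∈ c ↔ σ' i ∈ c') := by
    intro i
    have h1 := congrArg (fun g : Equiv.Perm leechLattice => ((g (frameVec i) : leechLattice) :
      GolayPt → ℤ)) h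
    simp only [monoPerm_val, frameVec_val, signedPerm_single] at h1
    have hne : (if σ i ∈ c then (-8 : ℤ) else 8) ≠ 0 := by split_ifs <;> norm_num
    obtain ⟨h2, h3⟩ := single_injective_of_ne hne h1
    refine ⟨h2, ?_⟩
    by_cases ha : σ i ∈ c <;> by_cases hb : σ' i ∈ c'
    · exact ⟨fun _ => hb, fun _ => ha⟩
    · rw [if_pos ha, if_neg hb] at h3; norm_num at h3
    · rw [if_neg ha, if_pos hb] at h3; norm_num at h3
    · exact ⟨fun h => absurd h ha, fun h => absurd h hb⟩
  have hσσ : σ = σ' := Equiv.ext (fun i => (key i).1)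
  refine ⟨hσσ, ?_⟩
  ext j
  have := (key (σ.symm j)).2
  rw [← hσσ, σ.apply_symm_apply] at this
  exact this

/-- The stabiliser of the standard cross has the order of the monomial group. -/
theorem card_stabCross :
    Nat.card {g : ↥Co0 // StabCross g.1} = 4096 * 244823040 := by
  let Φ : (↥M24 × ↥(Code : Set (Finset GolayPt))) → {g : ↥Co0 // StabCross g.1} :=
    fun p => ⟨⟨monoPerm p.1.1 p.2.1 p.1.2 p.2.2, monoPerm_mem p.1.1 p.2.1 p.1.2 p.2.2⟩,
      monoPerm_stab p.1.1 p.2.1 p.1.2 p.2.2⟩
  have hbij : Function.Bijective Φ := by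
    constructor
    · rintro ⟨⟨σ, hσ⟩, ⟨c, hc⟩⟩ ⟨⟨σ', hσ'⟩, ⟨c', hc'⟩⟩ h
      have h1 : monoPerm σ c hσ hc = monoPerm σ' c' hσ' hc' := by
        have := congrArg (fun t : {g : ↥Co0 // StabCross g.1} => (t.1.1 : Equiv.Perm leechLattice)) h
        exact this
      obtain ⟨rfl, rfl⟩ := monoPerm_inj σ σ' c c' hσ hσ' hc hc' h1
      rfl
    · rintro ⟨⟨g, hg⟩, hst⟩
      obtain ⟨σ, c, hσ, hc, rfl⟩ := stab_is_mono g hg hst
      exact ⟨⟨⟨σ, hσ⟩, ⟨c, hc⟩⟩, rfl⟩
  rw [← Nat.card_congr (Equiv.ofBijective Φ hbij), Nat.card_prod, card_M24, card_Code]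

end Cfsg.Agent.Helper7
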