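import Cfsg.Agent.Lib.Helper7.Co0Orb

/-!
# Transitivity of the automorphism group on the vectors of norm 32
-/

set_option autoImplicit false

namespace Cfsg.Agent.Helper7
open Cfsg Cfsg.Agent.Helper91 Cfsg.Agent.Helper92
open scoped Pointwise

/-! ### The base vectors -/

def l32a : List ℤ := [0, 0, 0, 4, 4, 0, 0, 0, 0, 0, 0, 0, 0, 0, 0, 0, 0, 0, 0, 0, 0, 0, 0, 0]

theorem l32a_mem : vecOf l32a ∈ leechLattice := vecOf_mem l32a 0 0 (by decide +kernel)

def b32a : leechLattice := ⟨vecOf l32a, l32a_mem⟩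

theorem l32a_apply : ∀ q, vecOf l32a q = if q = pt 3 ∨ q = pt 4 then 4 else 0 := by decide +kernel

def oct32 : ℕ := 9347075

theorem oct32_code : ofMask oct32 ∈ Code :=
  (ofMask_mem_iff oct32 (by decide)).mpr (by decide +kernel)

theorem oct32_card : (ofMask oct32).card = 8 := by rw [card_ofMask']; decide +kernel

theorem oct32_real : Real (ofMask oct32) := real_of_check oct32 (by decide +kernel)

def b32b : leechLattice := ⟨twoInd (ofMask oct32), twoInd_mem oct32_code⟩

def b32c : leechLattice := ⟨oddVec, oddVec_mem⟩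

/-! ### The three shapes -/

theorem orb32_F1 (x : leechLattice) (hn : sqNorm x.1 = 32)
    (h : ∀ i, x.1 i = 0 ∨ x.1 i = 4 ∨ x.1 i = -4) : Orb b32a x := by
  have hz : ∀ k, k ≠ 0 → k ≠ 4 → cnt x.1 k = 0 := by
    intro k h0 h4
    apply cnt_eq_zero
    intro i
    rcases h i with e | e | e <;> rw [e] <;> simp <;> omega
  obtain ⟨h24, hsq⟩ := hist x.1 32 hn (by norm_num)
  rw [hz 1 (by norm_num) (by norm_num), hz 2 (by norm_num) (by norm_num),
    hz 3 (by norm_num) (by norm_num), hz 5 (by norm_num) (by norm_num),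
    hz 6 (by norm_num) (by norm_num)] at hsq
  have h4 : cnt x.1 4 = 2 := by omega
  unfold cnt at h4
  obtain ⟨i, j, hij, hT⟩ := Finset.card_eq_two.mp h4
  have hmemT : ∀ k, (x.1 k).natAbs = 4 ↔ k = i ∨ k = j := by
    intro k
    have : k ∈ Finset.univ.filter (fun i => (x.1 i).natAbs = 4) ↔ k ∈ ({i, j} : Finset GolayPt) := by
      rw [hT]
    simpa using this
  obtain ⟨σ, hσ, hmap⟩ := m24_five_trans [pt 3, pt 4] [i, j] (by decide) (by simp [hij]) rfl
    (by norm_num)
  simp only [List.map_cons, List.map_nil, List.cons.injEq, and_true] at hmap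
  obtain ⟨hσ3, hσ4⟩ := hmap
  obtain ⟨c, hc, hci, hcj⟩ := sign_fix2 i j hij (x.1 i = -4) (x.1 j = -4)
  apply orb_of_signedPerm σ c hσ hc
  intro k
  show x.1 k = if k ∈ c then -vecOf l32a (σ.symm k) else vecOf l32a (σ.symm k)
  rw [l32a_apply]
  by_cases hki : k = i
  · subst hki
    have e : σ.symm k = pt 3 := by rw [Equiv.symm_apply_eq, hσ3]
    have hk4 := (hmemT k).mpr (Or.inl rfl)
    rw [e, if_pos (Or.inl rfl)]
    by_cases hkc : k ∈ c
    · rw [if_pos hkc]; exact hci.mp hkc
    · rw [if_neg hkc]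
      have : x.1 k ≠ -4 := fun hh => hkc (hci.mpr hh)
      omega
  · by_cases hkj : k = j
    · subst hkj
      have e : σ.symm k = pt 4 := by rw [Equiv.symm_apply_eq, hσ4]
      have hk4 := (hmemT k).mpr (Or.inr rfl)
      rw [e, if_pos (Or.inr rfl)]
      by_cases hkc : k ∈ c
      · rw [if_pos hkc]; exact hcj.mp hkc
      · rw [if_neg hkc]
        have : x.1 k ≠ -4 := fun hh => hkc (hcj.mpr hh)
        omega
    · have hk0 : x.1 k = 0 := by
        have : ¬ (x.1 k).natAbs = 4 := fun hh => by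
          rcases (hmemT k).mp hh with h' | h'
          · exact hki h'
          · exact hkj h'
        rcases h k with e | e | e
        · exact e
        · exfalso; apply this; rw [e]; rfl
        · exfalso; apply this; rw [e]; rfl
      have h3 : σ.symm k ≠ pt 3 := by
        rw [Ne, Equiv.symm_apply_eq, hσ3]; exact hki
      have h4' : σ.symm k ≠ pt 4 := by
        rw [Ne, Equiv.symm_apply_eq, hσ4]; exact hkj
      have hv : (if σ.symm k = pt 3 ∨ σ.symm k = pt 4 then (4 : ℤ) else 0) = 0 :=
        if_neg (by tauto)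
      rw [hv, hk0]
      split_ifs <;> norm_num

theorem orb32_F2 (x : leechLattice) (hn : sqNorm x.1 = 32)
    (h : ∀ i, x.1 i = 0 ∨ x.1 i = 2 ∨ x.1 i = -2) : Orb b32b x := by
  have hz : ∀ k, k ≠ 0 → k ≠ 2 → cnt x.1 k = 0 := by
    intro k h0 h4
    apply cnt_eq_zero
    intro i
    rcases h i with e | e | e <;> rw [e] <;> simp <;> omega
  obtain ⟨h24, hsq⟩ := hist x.1 32 hn (by norm_num)
  rw [hz 1 (by norm_num) (by norm_num), hz 4 (by norm_num) (by norm_num),
    hz 3 (by norm_num) (by norm_num), hz 5 (by norm_num) (by norm_num),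
    hz 6 (by norm_num) (by norm_num)] at hsq
  have h2 : cnt x.1 2 = 8 := by omega
  have hX : resSet x.1 2 = Finset.univ.filter (fun i => (x.1 i).natAbs = 2) := by
    ext i
    rw [mem_resSet, Finset.mem_filter]
    unfold Int.ModEq
    rcases h i with e | e | e <;> rw [e] <;> simp
  have hoct : resSet x.1 2 ∈ octads := by
    rw [mem_octads_iff]
    refine ⟨resSet_mem x.2 2, ?_⟩
    rw [hX]
    exact h2
  have hoct' : ofMask oct32 ∈ octads := (mem_octads_iff _).mpr ⟨oct32_code, oct32_card⟩
  obtain ⟨g, hg, hgX⟩ := octad_trans hoct' hoct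
  apply orb_twoInd oct32_code oct32_real x h g hg
  intro i
  rw [← mem_smul_iff, hgX, mem_resSet]
  unfold Int.ModEq
  rcases h i with e | e | e <;> rw [e] <;> simp

theorem orb32_F3 (x : leechLattice) (hn : sqNorm x.1 = 32)
    (h : ∀ i, x.1 i % 2 = 1) : Orb b32c x := by
  have hz : ∀ k, k % 2 = 0 → cnt x.1 k = 0 := by
    intro k hk
    apply cnt_eq_zero
    intro i
    have := h i
    omega
  obtain ⟨h24, hsq⟩ := hist x.1 32 hn (by norm_num)
  rw [hz 0 (by norm_num), hz 2 (by norm_num), hz 4 (by norm_num), hz 6 (by norm_num)] at h24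
  rw [hz 2 (by norm_num), hz 4 (by norm_num), hz 6 (by norm_num)] at hsq
  have h3 : cnt x.1 3 = 1 := by omega
  have h5 : cnt x.1 5 = 0 := by omega
  have hB := natAbs_lt_seven x.1 32 hn (by norm_num)
  unfold cnt at h3
  obtain ⟨p, hT⟩ := Finset.card_eq_one.mp h3
  have hmemT : ∀ k, (x.1 k).natAbs = 3 ↔ k = p := by
    intro k
    have : k ∈ Finset.univ.filter (fun i => (x.1 i).natAbs = 3) ↔ k ∈ ({p} : Finset GolayPt) := by
      rw [hT]
    simpa using this
  obtain ⟨σ, hσ, hmap⟩ := m24_five_trans [none] [p] (by decide) (by simp) rfl (by norm_num)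
  simp only [List.map_cons, List.map_nil, List.cons.injEq, and_true] at hmap
  apply orb_odd (b := b32c) _ h σ hσ
  · intro i
    show (x.1 i).natAbs = (oddVec (σ.symm i)).natAbs
    unfold oddVec
    by_cases hi : i = p
    · have e : σ.symm i = none := by rw [Equiv.symm_apply_eq, hmap, hi]
      rw [if_pos e, (hmemT i).mpr hi]
      rfl
    · have e : σ.symm i ≠ none := by
        rw [Ne, Equiv.symm_apply_eq, hmap]; exact hi
      rw [if_neg e]
      have h1 : (x.1 i).natAbs ≠ 3 := fun hh => hi ((hmemT i).mp hh)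
      have h2 := ne_of_cnt_zero x.1 5 h5 i
      have h3 := hB i
      have h4 := h i
      show (x.1 i).natAbs = 1
      omega
  · intro i
    show oddVec i % 4 = 1
    unfold oddVec
    split_ifs <;> norm_num

/-! ### The classification of the shapes -/

theorem shapes32 (x : leechLattice) (hn : sqNorm x.1 = 32) :
    (∀ i, x.1 i % 2 = 1) ∨ (∀ i, x.1 i = 0 ∨ x.1 i = 2 ∨ x.1 i = -2) ∨
      (∀ i, x.1 i = 0 ∨ x.1 i = 4 ∨ x.1 i = -4) := by
  by_cases hpar : x.1 none % 2 = 1
  · left
    intro i
    rw [leech_parity x.2 i none]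
    exact hpar
  right
  have hev : ∀ i, x.1 i % 2 = 0 := by
    intro i
    rw [leech_parity x.2 i none]
    omega
  have hz : ∀ k, k % 2 = 1 → cnt x.1 k = 0 := by
    intro k hk
    apply cnt_eq_zero
    intro i
    have := hev i
    omega
  have hB := natAbs_lt_seven x.1 32 hn (by norm_num)
  obtain ⟨h24, hsq⟩ := hist x.1 32 hn (by norm_num)
  rw [hz 1 (by norm_num), hz 3 (by norm_num), hz 5 (by norm_num)] at hsq
  have hS : resSet x.1 2 = Finset.univ.filter (fun i => (x.1 i).natAbs % 4 = 2) := by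
    ext i
    rw [mem_resSet, Finset.mem_filter]
    unfold Int.ModEq
    simp only [Finset.mem_univ, true_and]
    omega
  have hcard := card_filter_natAbs x.1 hB (fun k => k % 4 = 2)
  rw [← hS] at hcard
  simp only [Finset.sum_range_succ, Finset.sum_range_zero, zero_add] at hcard
  norm_num at hcard
  have hw := weight_cases _ (resSet_mem x.2 2)
  have h6 : cnt x.1 6 = 0 := by omega
  rcases (by omega : (cnt x.1 2 = 8 ∧ cnt x.1 4 = 0) ∨ (cnt x.1 2 = 0 ∧ cnt x.1 4 = 2)) with
    ⟨h2, h4⟩ | ⟨h2, h4⟩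
  · left
    intro i
    have a1 := ne_of_cnt_zero x.1 4 h4 i
    have a2 := ne_of_cnt_zero x.1 6 h6 i
    have a3 := hB i
    have a4 := hev i
    omega
  · right
    intro i
    have a1 := ne_of_cnt_zero x.1 2 h2 i
    have a2 := ne_of_cnt_zero x.1 6 h6 i
    have a3 := hB i
    have a4 := hev i
    omega

/-! ### Linking the shapes by the extra automorphism -/

theorem sqNorm_b32a : sqNorm b32a.1 = 32 := by decide +kernel

theorem sqNorm_b32b : sqNorm b32b.1 = 32 := by decide +kernel

theorem link32_ab : Orb b32a b32b := by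
  have h2 : Orb b32b (xiPerm b32a) := by
    apply orb32_F2 (xiPerm b32a)
    · rw [xiPerm_mem.2, sqNorm_b32a]
    · rw [xiPerm_val]
      decide +kernel
  exact (orb_xi b32a).trans h2.symm

theorem link32_bc : Orb b32b b32c := by
  have h2 : Orb b32c (xiPerm b32b) := by
    apply orb32_F3 (xiPerm b32b)
    · rw [xiPerm_mem.2, sqNorm_b32b]
    · rw [xiPerm_val]
      decide +kernel
  exact (orb_xi b32b).trans h2.symm

theorem orb32 (x : leechLattice) (hn : sqNorm x.1 = 32) : Orb b32a x := by
  rcases shapes32 x hn with h | h | h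
  · exact (link32_ab.trans link32_bc).trans (orb32_F3 x hn h)
  · exact link32_ab.trans (orb32_F2 x hn h)
  · exact orb32_F1 x hn h

/-- The automorphism group is transitive on the vectors of norm 32. -/
theorem co0_trans32 (v w : leechLattice) (hv : sqNorm v.1 = 32) (hw : sqNorm w.1 = 32) :
    Orb v w := (orb32 v hv).symm.trans (orb32 w hw)

end Cfsg.Agent.Helper7
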