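import Cfsg.Agent.Lib.Helper7.Leech64
import Cfsg.Agent.Lib.Helper7.Co0Trans48
import Cfsg.Agent.Lib.Helper7.Co0Trans32

/-!
# Invariant quadratic forms on the Leech lattice modulo 2
-/

set_option autoImplicit false

namespace Cfsg.Agent.Helper7
open Cfsg Cfsg.Agent.Helper91 Cfsg.Agent.Helper92

theorem dotInt_add_left (x y z : GolayPt → ℤ) : dotInt (x + y) z = dotInt x z + dotInt y z := by
  unfold dotInt
  rw [← Finset.sum_add_distrib]
  apply Finset.sum_congr rfl
  intro i _
  simp only [Pi.add_apply]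
  ring

theorem dotInt_single (i : GolayPt) (c : ℤ) (z : GolayPt → ℤ) :
    dotInt (Pi.single i c) z = c * z i := by
  unfold dotInt
  rw [Finset.sum_eq_single i]
  · rw [Pi.single_eq_same]
  · intro k _ hk
    rw [Pi.single_eq_of_ne hk, zero_mul]
  · intro h; exact absurd (Finset.mem_univ i) h

theorem dotInt_two_smul (y z : GolayPt → ℤ) : dotInt y (2 • z) = 2 * dotInt y z := by
  unfold dotInt
  rw [Finset.mul_sum]
  apply Finset.sum_congr rfl
  intro i _
  simp only [Pi.smul_apply, smul_eq_mul]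
  ring

/-- the vector `4 s e_i + 4 t e_j` -/
def fourPair (i j : GolayPt) (s t : ℤ) : GolayPt → ℤ := Pi.single i (4 * s) + Pi.single j (4 * t)

theorem fourPair_mem (i j : GolayPt) (hij : i ≠ j) (s t : ℤ) (hs : s = 1 ∨ s = -1)
    (ht : t = 1 ∨ t = -1) : fourPair i j s t ∈ leechLattice := by
  rw [mem_leechLattice_iff]
  refine ⟨0, Pi.single i (2 * s) + Pi.single j (2 * t), fun k => ?_, ?_, ?_⟩
  · unfold fourPair
    simp only [Pi.add_apply, Pi.single_apply]
    split_ifs <;> ring
  · have : red (Pi.single i (2 * s) + Pi.single j (2 * t)) = 0 := by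
      funext k
      show red _ k = 0
      rw [red_apply_eq_zero_iff, even_iff_two_dvd]
      simp only [Pi.add_apply, Pi.single_apply]
      split_ifs <;> omega
    rw [this]
    exact Submodule.zero_mem _
  · unfold fourPair
    simp only [Pi.add_apply]
    rw [Finset.sum_add_distrib, Finset.sum_pi_single', Finset.sum_pi_single']
    simp only [Finset.mem_univ, if_true]
    unfold Int.ModEq
    rcases hs with rfl | rfl <;> rcases ht with rfl | rfl <;> norm_num

theorem sqNorm_fourPair (i j : GolayPt) (hij : i ≠ j) (s t : ℤ) (hs : s = 1 ∨ s = -1)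
    (ht : t = 1 ∨ t = -1) : sqNorm (fourPair i j s t) = 32 := by
  unfold sqNorm fourPair
  have : ∀ k, (Pi.single i (4 * s) + Pi.single j (4 * t) : GolayPt → ℤ) k ^ 2 =
      (if k = i then 16 else 0) + (if k = j then 16 else 0) := by
    intro k
    simp only [Pi.add_apply, Pi.single_apply]
    by_cases h1 : k = i
    · have h2 : k ≠ j := fun h => hij (h1.symm.trans h)
      rw [if_pos h1, if_neg h2, if_pos h1, if_neg h2]
      rcases hs with rfl | rfl <;> norm_num
    · by_cases h2 : k = j
      · rw [if_neg h1, if_pos h2, if_neg h1, if_pos h2]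
        rcases ht with rfl | rfl <;> norm_num
      · rw [if_neg h1, if_neg h2, if_neg h1, if_neg h2]; norm_num
  rw [Finset.sum_congr rfl (fun k _ => this k), Finset.sum_add_distrib, Finset.sum_ite_eq',
    Finset.sum_ite_eq']
  simp

theorem dotInt_fourPair (i j : GolayPt) (s t : ℤ) (z : GolayPt → ℤ) :
    dotInt (fourPair i j s t) z = 4 * s * z i + 4 * t * z j := by
  unfold fourPair
  rw [dotInt_add_left, dotInt_single, dotInt_single]

/-! ### Explicit vectors for the vanishing on minimal vectors -/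

def lqU : List ℤ := [4, 4, 0, 0, 0, 0, 0, 0, 0, 0, 0, 0, 0, 0, 0, 0, 0, 0, 0, 0, 0, 0, 0, 0]
def lqV1 : List ℤ := [2, 0, 2, 0, 0, 0, 0, 0, 0, 0, 0, 0, 0, 2, 2, 2, 2, 2, 0, 0, 2, 0, 0, 0]
def lqV2 : List ℤ := [0, 2, -2, 0, 0, 0, 0, 0, 0, 0, 0, 0, 0, 0, -2, 0, -2, 0, 2, 2, -2, 0, 0, 2]

theorem lqU_mem : vecOf lqU ∈ leechLattice := vecOf_mem lqU 0 0 (by decide +kernel)
theorem lqV1_mem : vecOf lqV1 ∈ leechLattice := vecOf_mem lqV1 0 1302533 (by decide +kernel)
theorem lqV2_mem : vecOf lqV2 ∈ leechLattice := vecOf_mem lqV2 0 10305542 (by decide +kernel)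

def qU : leechLattice := ⟨vecOf lqU, lqU_mem⟩
def qV1 : leechLattice := ⟨vecOf lqV1, lqV1_mem⟩
def qV2 : leechLattice := ⟨vecOf lqV2, lqV2_mem⟩

theorem qU_norm : sqNorm qU.1 = 32 := by decide +kernel
theorem qV1_norm : sqNorm qV1.1 = 32 := by decide +kernel
theorem qV2_norm : sqNorm qV2.1 = 32 := by decide +kernel
theorem qV12_norm : sqNorm (qV1 + qV2 : leechLattice).1 = 32 := by decide +kernel
theorem qUV1_norm : sqNorm (qU - qV1 : leechLattice).1 = 48 := by decide +kernel
theorem qUV2_norm : sqNorm (qU - qV2 : leechLattice).1 = 48 := by decide +kernel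
theorem qUV12_norm : sqNorm (qU - (qV1 + qV2) : leechLattice).1 = 32 := by decide +kernel

theorem b32a_eq_fourPair : b32a.1 = fourPair (pt 3) (pt 4) 1 1 := by
  funext q
  revert q
  decide +kernel

theorem fourPair_split (a b j : GolayPt) (s : ℤ) :
    fourPair a j 1 s + fourPair b j 1 (-s) = fourPair a b 1 1 := by
  funext k
  unfold fourPair
  simp only [Pi.add_apply, Pi.single_apply]
  split_ifs <;> ring

section
variable (Q : leechLattice → ZMod 2)
  (hcoset : ∀ v w : leechLattice, Q (v + (w + w)) = Q v)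
  (hquad : ∀ u v w : leechLattice,
    Q (u + v + w) + Q u + Q v + Q w = Q (u + v) + Q (u + w) + Q (v + w))
  (hinv : ∀ (g : Co0) (v : leechLattice), Q (g • v) = Q v)
include hcoset hquad hinv

theorem quad_orb {v w : leechLattice} (h : Orb v w) : Q v = Q w := by
  obtain ⟨g, hg, rfl⟩ := h
  exact (hinv ⟨g, hg⟩ v).symm

theorem quad_const32 {v w : leechLattice} (hv : sqNorm v.1 = 32) (hw : sqNorm w.1 = 32) :
    Q v = Q w := quad_orb Q hcoset hquad hinv (co0_trans32 v w hv hw)

theorem quad_const48 {v w : leechLattice} (hv : sqNorm v.1 = 48) (hw : sqNorm w.1 = 48) :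
    Q v = Q w := quad_orb Q hcoset hquad hinv (co0_trans48 v w hv hw)

theorem quad_add_eq_sub (x z : leechLattice) : Q (x + z) = Q (x - z) := by
  have := hcoset (x - z) z
  rw [← this]
  congr 1
  abel

theorem quad_zero : Q 0 = 0 := by
  have := hquad 0 0 0
  simp only [add_zero] at this
  generalize Q 0 = a at this
  revert a
  decide

/-- the form vanishes on minimal vectors -/
theorem quad_min (v : leechLattice) (hv : sqNorm v.1 = 32) : Q v = 0 := by
  have c32 := fun {a b : leechLattice} (ha : sqNorm a.1 = 32) (hb : sqNorm b.1 = 32) =>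
    quad_const32 Q hcoset hquad hinv ha hb
  have c48 := fun {a b : leechLattice} (ha : sqNorm a.1 = 48) (hb : sqNorm b.1 = 48) =>
    quad_const48 Q hcoset hquad hinv ha hb
  have h := hquad qU qV1 qV2
  have e1 : Q (qU + qV1 + qV2) = Q v := by
    rw [add_assoc, quad_add_eq_sub Q hcoset hquad hinv]
    exact c32 qUV12_norm hv
  have e2 : Q (qU + qV1) = Q (qU - qV1) := quad_add_eq_sub Q hcoset hquad hinv _ _
  have e3 : Q (qU + qV2) = Q (qU - qV1) := by
    rw [quad_add_eq_sub Q hcoset hquad hinv]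
    exact c48 qUV2_norm qUV1_norm
  rw [e1, e2, e3, c32 qU_norm hv, c32 qV1_norm hv, c32 qV2_norm hv, c32 qV12_norm hv] at h
  generalize Q v = a at h
  generalize Q (qU - qV1) = b at h
  revert a b
  decide

/-- the key step: `x, y, z` minimal with `x + y` minimal, `(x + y) ⊥ z`, `x` not orthogonal to `z` -/
theorem quad_three (x y z : leechLattice) (hx : sqNorm x.1 = 32) (hy : sqNorm y.1 = 32)
    (hz : sqNorm z.1 = 32) (hxy : sqNorm (x + y : leechLattice).1 = 32)
    (hd : dotInt (x + y : leechLattice).1 z.1 = 0) (hne : dotInt x.1 z.1 ≠ 0) :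
    Q (x + y + z) = 0 := by
  have c32 := fun {a b : leechLattice} (ha : sqNorm a.1 = 32) (hb : sqNorm b.1 = 32) =>
    quad_const32 Q hcoset hquad hinv ha hb
  have c48 := fun {a b : leechLattice} (ha : sqNorm a.1 = 48) (hb : sqNorm b.1 = 48) =>
    quad_const48 Q hcoset hquad hinv ha hb
  have hmin := fun v hv => quad_min Q hcoset hquad hinv v hv
  set d := dotInt x.1 z.1 with hdd
  have hdy : dotInt y.1 z.1 = -d := by
    have : dotInt (x.1 + y.1) z.1 = 0 := hd
    rw [dotInt_add_left] at this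
    omega
  have h8 : (8 : ℤ) ∣ d := eight_dvd_dot x.2 z.2
  -- norms of the four combinations
  have n1 : sqNorm (x + z : leechLattice).1 = 64 + 2 * d := by
    show sqNorm (x.1 + z.1) = _
    rw [sqNorm_add, hx, hz]; ring
  have n2 : sqNorm (x - z : leechLattice).1 = 64 - 2 * d := by
    show sqNorm (x.1 - z.1) = _
    rw [sqNorm_sub, hx, hz]; ring
  have n3 : sqNorm (y + z : leechLattice).1 = 64 - 2 * d := by
    show sqNorm (y.1 + z.1) = _
    rw [sqNorm_add, hy, hz, hdy]; ring
  have n4 : sqNorm (y - z : leechLattice).1 = 64 + 2 * d := by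
    show sqNorm (y.1 - z.1) = _
    rw [sqNorm_sub, hy, hz, hdy]; ring
  -- a lattice vector of norm below 32 vanishes
  have small : ∀ t : leechLattice, sqNorm t.1 < 32 → t = 0 := by
    intro t ht
    by_contra h0
    have : t.1 ≠ 0 := fun h => h0 (Subtype.ext h)
    have := leech_min_norm t.1 t.2 this
    omega
  have key : Q (x + z) + Q (y + z) = 0 := by
    rcases lt_or_gt_of_ne hne with hneg | hpos
    · -- d < 0 : use x + z and y - z
      have e : Q (y + z) = Q (y - z) := quad_add_eq_sub Q hcoset hquad hinv _ _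
      rw [e]
      have hd' : d = -8 ∨ d = -16 ∨ d ≤ -24 := by omega
      rcases hd' with h | h | h
      · rw [c48 (a := x + z) (b := y - z) (by rw [n1, h]; norm_num) (by rw [n4, h]; norm_num)]
        exact CharTwo.add_self_eq_zero _
      · rw [c32 (a := x + z) (b := y - z) (by rw [n1, h]; norm_num) (by rw [n4, h]; norm_num)]
        exact CharTwo.add_self_eq_zero _
      · have hx0 := small (x + z) (by rw [n1]; omega)
        have hy0 := small (y - z) (by rw [n4]; omega)
        rw [hx0, hy0]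
        exact CharTwo.add_self_eq_zero _
    · have e : Q (x + z) = Q (x - z) := quad_add_eq_sub Q hcoset hquad hinv _ _
      rw [e]
      have hd' : d = 8 ∨ d = 16 ∨ 24 ≤ d := by omega
      rcases hd' with h | h | h
      · rw [c48 (a := x - z) (b := y + z) (by rw [n2, h]; norm_num) (by rw [n3, h]; norm_num)]
        exact CharTwo.add_self_eq_zero _
      · rw [c32 (a := x - z) (b := y + z) (by rw [n2, h]; norm_num) (by rw [n3, h]; norm_num)]
        exact CharTwo.add_self_eq_zero _
      · have hx0 := small (x - z) (by rw [n2]; omega)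
        have hy0 := small (y + z) (by rw [n3]; omega)
        rw [hx0, hy0]
        exact CharTwo.add_self_eq_zero _
  have h := hquad x y z
  rw [hmin x hx, hmin y hy, hmin z hz, hmin (x + y) hxy] at h
  have key' : Q (x + z) = Q (y + z) := by
    have := key
    generalize Q (x + z) = a at this ⊢
    generalize Q (y + z) = b at this ⊢
    revert a b
    decide
  rw [key'] at h
  generalize Q (x + y + z) = a at h ⊢
  generalize Q (y + z) = b at h
  revert a b
  decide

/-- the form vanishes on the vectors of norm 64 -/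
theorem quad_64 (w : leechLattice) (hw : sqNorm w.1 = 64) : Q w = 0 := by
  obtain ⟨v, z, hv, hz, hwvz, -⟩ := decomp64 w hw
  obtain ⟨g, hg, hgv⟩ := co0_trans32 v b32a hv sqNorm_b32a
  have hQ : Q w = Q (g w) := (hinv ⟨g, hg⟩ w).symm
  rw [hQ]
  set z1 : leechLattice := g z with hz1
  have hgw : g w = b32a + z1 := by rw [hwvz, hg.1, hgv]
  have hz1n : sqNorm z1.1 = 32 := by rw [hz1, hg.2, hz]
  have hgwn : sqNorm (g w).1 = 64 := by rw [hg.2, hw]
  have hdot : dotInt b32a.1 z1.1 = 0 := by
    rw [hgw] at hgwn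
    have : sqNorm (b32a.1 + z1.1) = 64 := hgwn
    rw [sqNorm_add, sqNorm_b32a, hz1n] at this
    omega
  have hdot' : 4 * z1.1 (pt 3) + 4 * z1.1 (pt 4) = 0 := by
    rw [b32a_eq_fourPair, dotInt_fourPair] at hdot
    omega
  -- choose the splitting
  have hsplit : ∃ (j : GolayPt) (s : ℤ), j ≠ pt 3 ∧ j ≠ pt 4 ∧ (s = 1 ∨ s = -1) ∧
      4 * 1 * z1.1 (pt 3) + 4 * s * z1.1 j ≠ 0 := by
    by_cases ha : z1.1 (pt 3) = 0
    · have hb : z1.1 (pt 4) = 0 := by omega
      have hnz : ∃ i, z1.1 i ≠ 0 := by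
        by_contra hcon
        rw [not_exists] at hcon
        have : sqNorm z1.1 = 0 := by
          unfold sqNorm
          apply Finset.sum_eq_zero
          intro i _
          have := hcon i
          rw [not_not] at this
          rw [this]; norm_num
        omega
      obtain ⟨i, hi⟩ := hnz
      refine ⟨i, 1, ?_, ?_, Or.inl rfl, ?_⟩
      · rintro rfl; exact hi ha
      · rintro rfl; exact hi hb
      · rw [ha]; omega
    · by_cases h1 : z1.1 (pt 3) + z1.1 (pt 0) = 0
      · refine ⟨pt 0, -1, by decide, by decide, Or.inr rfl, ?_⟩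
        omega
      · refine ⟨pt 0, 1, by decide, by decide, Or.inl rfl, ?_⟩
        omega
  obtain ⟨j, s, hj3, hj4, hs, hne⟩ := hsplit
  have hs' : -s = 1 ∨ -s = -1 := by rcases hs with rfl | rfl <;> norm_num
  set x : leechLattice := ⟨fourPair (pt 3) j 1 s, fourPair_mem _ _ (Ne.symm hj3) 1 s (Or.inl rfl) hs⟩
    with hxdef
  set y : leechLattice := ⟨fourPair (pt 4) j 1 (-s),
    fourPair_mem _ _ (Ne.symm hj4) 1 (-s) (Or.inl rfl) hs'⟩ with hydef
  have hxy : x + y = b32a := by
    apply Subtype.ext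
    show fourPair (pt 3) j 1 s + fourPair (pt 4) j 1 (-s) = b32a.1
    rw [fourPair_split, b32a_eq_fourPair]
  have h3 := quad_three Q hcoset hquad hinv x y z1
    (sqNorm_fourPair _ _ (Ne.symm hj3) 1 s (Or.inl rfl) hs)
    (sqNorm_fourPair _ _ (Ne.symm hj4) 1 (-s) (Or.inl rfl) hs') hz1n
    (by rw [hxy]; exact sqNorm_b32a) (by rw [hxy]; exact hdot)
    (by
      show dotInt (fourPair (pt 3) j 1 s) z1.1 ≠ 0
      rw [dotInt_fourPair]
      exact hne)
  rw [hxy] at h3
  rw [hgw]
  exact h3

theorem quad_short (v : leechLattice) :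
    ∃ y : leechLattice, sqNorm y.1 ≤ 64 ∧ Q v = Q y ∧ sqNorm v.1 % 32 = sqNorm y.1 % 32 := by
  obtain ⟨y, hy, hyn, z, hz, hvz⟩ := exists_short_rep v.1 v.2
  refine ⟨⟨y, hy⟩, hyn, ?_, ?_⟩
  · have e : v = (⟨y, hy⟩ : leechLattice) + ((⟨z, hz⟩ : leechLattice) + ⟨z, hz⟩) := by
      apply Subtype.ext
      show v.1 = y + (z + z)
      have : v.1 = y + 2 • z := by rw [← hvz]; abel
      rw [this, two_nsmul]
    rw [e, hcoset]
  · have e : v.1 = y + 2 • z := by rw [← hvz]; abel
    show sqNorm v.1 % 32 = sqNorm y % 32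
    rw [e, sqNorm_add, sqNorm_two_smul, dotInt_two_smul]
    obtain ⟨a, ha⟩ := sixteen_dvd_sqNorm z hz
    obtain ⟨b, hb⟩ := eight_dvd_dot hy hz
    rw [ha, hb]
    omega

theorem quad_val (y : leechLattice) (hy : sqNorm y.1 ≤ 64) :
    Q y = if sqNorm y.1 = 48 then Q b48b else 0 := by
  obtain ⟨a, ha⟩ := sixteen_dvd_sqNorm y.1 y.2
  have h0 := sqNorm_nonneg' y.1
  by_cases hy0 : y = 0
  · have : sqNorm y.1 = 0 := by
      rw [hy0]
      unfold sqNorm
      simp
    rw [if_neg (by rw [this]; norm_num), hy0]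
    exact quad_zero Q hcoset hquad hinv
  · have hne : y.1 ≠ 0 := fun h => hy0 (Subtype.ext h)
    have hmin := leech_min_norm y.1 y.2 hne
    have hcases : sqNorm y.1 = 32 ∨ sqNorm y.1 = 48 ∨ sqNorm y.1 = 64 := by omega
    rcases hcases with h | h | h
    · rw [if_neg (by rw [h]; norm_num)]
      exact quad_min Q hcoset hquad hinv y h
    · rw [if_pos h]
      exact quad_const48 Q hcoset hquad hinv h (by
        show sqNorm b48b.1 = 48
        decide +kernel)
    · rw [if_neg (by rw [h]; norm_num)]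
      exact quad_64 Q hcoset hquad hinv y h

/-- an invariant non-zero quadratic form modulo 2 is the standard one -/
theorem quad_main (hne : ∃ v, Q v ≠ 0) (v : leechLattice) :
    Q v = ((sqNorm v.1 / 16 : ℤ) : ZMod 2) := by
  -- the value on vectors of norm 48
  have hq3 : Q b48b = 1 := by
    obtain ⟨v0, hv0⟩ := hne
    obtain ⟨y, hyn, hQ, -⟩ := quad_short Q hcoset hquad hinv v0
    rw [hQ, quad_val Q hcoset hquad hinv y hyn] at hv0
    by_cases h : sqNorm y.1 = 48
    · rw [if_pos h] at hv0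
      generalize Q b48b = a at hv0 ⊢
      revert a
      decide
    · rw [if_neg h] at hv0
      exact absurd rfl hv0
  obtain ⟨y, hyn, hQ, hmod⟩ := quad_short Q hcoset hquad hinv v
  rw [hQ, quad_val Q hcoset hquad hinv y hyn, hq3]
  obtain ⟨k, hk⟩ := sixteen_dvd_sqNorm v.1 v.2
  obtain ⟨a, ha⟩ := sixteen_dvd_sqNorm y.1 y.2
  have h0 := sqNorm_nonneg' y.1
  have hk16 : sqNorm v.1 / 16 = k := by rw [hk]; omega
  rw [hk16, ← ZMod.intCast_mod k 2]
  by_cases h : sqNorm y.1 = 48
  · rw [if_pos h]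
    have : k % ((2 : ℕ) : ℤ) = 1 := by
      push_cast
      omega
    rw [this]
    norm_num
  · rw [if_neg h]
    have hy0 : y = 0 ∨ 32 ≤ sqNorm y.1 := by
      by_cases hy0 : y = 0
      · exact Or.inl hy0
      · right
        exact leech_min_norm y.1 y.2 (fun h => hy0 (Subtype.ext h))
    have hz : sqNorm y.1 = 0 ∨ sqNorm y.1 = 32 ∨ sqNorm y.1 = 64 := by
      rcases hy0 with h' | h'
      · left
        rw [h']
        unfold sqNorm
        simp
      · omega
    have : k % ((2 : ℕ) : ℤ) = 0 := by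
      push_cast
      omega
    rw [this]
    norm_num

end

end Cfsg.Agent.Helper7
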