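import Cfsg.Agent.Lib.Helper7.Co0Trans64
import Cfsg.Agent.Lib.Helper7.Co0Frame
import Cfsg.Agent.Lib.Helper7.QuadInv
import Cfsg.Agent.Lib.Helper7.M24Stab

/-!
# The order of the automorphism group of the Leech lattice
-/

set_option autoImplicit false

namespace Cfsg.Agent.Helper7
open Cfsg Cfsg.Agent.Helper91 Cfsg.Agent.Helper92
open scoped Pointwise

/-- minimal vectors with a coordinate `±4` at the point at infinity -/
theorem f1_form (x : leechLattice) (hx : sqNorm x.1 = 32) (h4 : (x.1 none).natAbs = 4) :
    ∃ j, j ≠ none ∧ (x.1 j).natAbs = 4 ∧ ∀ i, i ≠ none → i ≠ j → x.1 i = 0 := by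
  classical
  rcases shapes32 x hx with h | h | h
  · have := h none; omega
  · rcases h none with e | e | e <;> rw [e] at h4 <;> norm_num at h4
  · have hz : ∀ k, k ≠ 0 → k ≠ 4 → cnt x.1 k = 0 := by
      intro k h0 h4
      apply cnt_eq_zero
      intro i
      rcases h i with e | e | e <;> rw [e] <;> simp <;> omega
    obtain ⟨h24, hsq⟩ := hist x.1 32 hx (by norm_num)
    rw [hz 1 (by norm_num) (by norm_num), hz 2 (by norm_num) (by norm_num),
      hz 3 (by norm_num) (by norm_num), hz 5 (by norm_num) (by norm_num),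
      hz 6 (by norm_num) (by norm_num)] at hsq
    have hc4 : cnt x.1 4 = 2 := by omega
    unfold cnt at hc4
    obtain ⟨i1, i2, hi12, hT⟩ := Finset.card_eq_two.mp hc4
    have hmemT : ∀ k, (x.1 k).natAbs = 4 ↔ k = i1 ∨ k = i2 := by
      intro k
      have : k ∈ Finset.univ.filter (fun i => (x.1 i).natAbs = 4) ↔
          k ∈ ({i1, i2} : Finset GolayPt) := by rw [hT]
      simpa using this
    have hzero : ∀ i, i ≠ i1 → i ≠ i2 → x.1 i = 0 := by
      intro i h1 h2
      have : ¬ (x.1 i).natAbs = 4 := fun hh => by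
        rcases (hmemT i).mp hh with h' | h'
        · exact h1 h'
        · exact h2 h'
      rcases h i with e | e | e
      · exact e
      · exfalso; apply this; rw [e]; rfl
      · exfalso; apply this; rw [e]; rfl
    rcases (hmemT none).mp h4 with h' | h'
    · refine ⟨i2, fun hh => hi12 (h'.symm.trans hh.symm), (hmemT i2).mpr (Or.inr rfl), ?_⟩
      intro i hi1 hi2
      exact hzero i (by rw [← h']; exact hi1) hi2
    · refine ⟨i1, fun hh => hi12 (hh.trans h'), (hmemT i1).mpr (Or.inl rfl), ?_⟩
      intro i hi1 hi2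
      exact hzero i hi2 (by rw [← h']; exact hi1)

theorem dotInt_comm (x y : GolayPt → ℤ) : dotInt x y = dotInt y x := by
  unfold dotInt
  apply Finset.sum_congr rfl
  intro i _
  ring

/-- the vectors of norm 64 congruent to the first frame vector form the standard cross -/
theorem cross_frame (y : leechLattice) (hy : sqNorm y.1 = 64)
    (hc : Cong2 y.1 (frameVec none).1) : y.1 ∈ stdCross := by
  by_cases h1 : y.1 = (frameVec none).1
  · rw [h1]; exact frameVec_mem_stdCross none
  by_cases h2 : y.1 = -(frameVec none).1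
  · rw [h2]
    refine ⟨none, -8, Or.inr rfl, ?_⟩
    rw [frameVec_val]
    funext i
    simp only [Pi.neg_apply, Pi.single_apply]
    split_ifs <;> norm_num
  have hf64 : sqNorm (frameVec none).1 = 64 := by
    rw [frameVec_val]
    unfold sqNorm
    rw [Finset.sum_eq_single none]
    · rw [Pi.single_eq_same]; norm_num
    · intro k _ hk; rw [Pi.single_eq_of_ne hk]; norm_num
    · intro h; exact absurd (Finset.mem_univ _) h
  have hsc := short_classes_of_min leech_min_norm (frameVec none).1 y.1 (frameVec none).2 y.2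
    (by rw [hf64]) (by rw [hy]) hc.symm h1 h2
  obtain ⟨-, -, hplus, hminus⟩ := hsc
  obtain ⟨z, hz, hzy⟩ := hc
  have hzn : sqNorm z = 32 := by
    have := sqNorm_two_smul z
    rw [← hzy] at this
    have h3 : sqNorm (y.1 - (frameVec none).1) = sqNorm ((frameVec none).1 - y.1) := by
      rw [← sqNorm_neg]; congr 1; abel
    rw [h3, hminus] at this
    omega
  have hdot : dotInt (frameVec none).1 y.1 = 0 := by
    rw [sqNorm_add, hf64, hy] at hplus
    omega
  have hy0 : y.1 none = 0 := by
    rw [frameVec_val, dotInt_single] at hdot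
    omega
  have hzcoord : ∀ i, y.1 i = 2 * z i + (frameVec none).1 i := by
    intro i
    have := congrFun hzy i
    rw [two_nsmul] at this
    simp only [Pi.sub_apply, Pi.add_apply] at this
    omega
  have hz4 : (z none).natAbs = 4 := by
    have := hzcoord none
    rw [hy0, frameVec_val, Pi.single_eq_same] at this
    omega
  obtain ⟨j, hj, hj4, hrest⟩ := f1_form ⟨z, hz⟩ hzn hz4
  have hj4' : (z j).natAbs = 4 := hj4
  have hrest' : ∀ i, i ≠ none → i ≠ j → z i = 0 := hrest
  refine ⟨j, 2 * z j, by omega, ?_⟩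
  funext i
  by_cases hi : i = j
  · rw [hi, Pi.single_eq_same, hzcoord, frameVec_val, Pi.single_eq_of_ne hj]; ring
  · rw [Pi.single_eq_of_ne hi]
    by_cases hi0 : i = none
    · rw [hi0]; exact hy0
    · rw [hzcoord, frameVec_val, Pi.single_eq_of_ne hi0, hrest' i hi0 hi]; ring

/-- an automorphism fixing the first frame vector stabilises the standard cross -/
theorem stabCross_of_fix (g : Equiv.Perm leechLattice) (hg : g ∈ Co0)
    (hgf : g (frameVec none) = frameVec none) : StabCross g := by
  rintro v ⟨i, s, hs, hv⟩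
  have hv64 : sqNorm v.1 = 64 := by
    rw [hv]
    unfold sqNorm
    rw [Finset.sum_eq_single i]
    · rw [Pi.single_eq_same]; rcases hs with rfl | rfl <;> norm_num
    · intro k _ hk; rw [Pi.single_eq_of_ne hk]; norm_num
    · intro h; exact absurd (Finset.mem_univ _) h
  -- v is congruent to the frame vector
  have hcong : ∃ z : leechLattice, v = frameVec none + (z + z) := by
    by_cases hi : i = none
    · rcases hs with rfl | rfl
      · refine ⟨0, ?_⟩
        apply Subtype.ext
        rw [hv, hi]
        simp [frameVec_val]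
      · refine ⟨-frameVec none, ?_⟩
        apply Subtype.ext
        rw [hv, hi]
        show _ = (frameVec none).1 + (-(frameVec none).1 + -(frameVec none).1)
        rw [frameVec_val]
        funext k
        simp only [Pi.add_apply, Pi.neg_apply, Pi.single_apply]
        split_ifs <;> norm_num
    · have hs' : s / 8 = 1 ∨ s / 8 = -1 := by rcases hs with rfl | rfl <;> norm_num
      refine ⟨⟨fourPair i none (s / 8) (-1), fourPair_mem i none hi _ _ hs' (Or.inr rfl)⟩, ?_⟩
      apply Subtype.ext
      rw [hv]
      show _ = (frameVec none).1 + (fourPair i none (s / 8) (-1) + fourPair i none (s / 8) (-1))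
      rw [frameVec_val]
      funext k
      unfold fourPair
      simp only [Pi.add_apply, Pi.single_apply]
      rcases hs with rfl | rfl <;> split_ifs <;> norm_num
  obtain ⟨z, hz⟩ := hcong
  have hgv : g v = frameVec none + (g z + g z) := by
    rw [hz, hg.1, hg.1, hgf]
  apply cross_frame (g v) (by rw [hg.2, hv64])
  refine ⟨(g z).1, (g z).2, ?_⟩
  rw [hgv]
  show (frameVec none).1 + ((g z).1 + (g z).1) - (frameVec none).1 = 2 • (g z).1
  rw [two_nsmul]
  abel

/-! ### The stabiliser of the first frame vector -/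

theorem codeList_avoid_length :
    (codeList.filter (fun m => !m.testBit 23)).length = 2048 := by decide +kernel

theorem card_code_avoid :
    Nat.card {c : ↥(Code : Set (Finset GolayPt)) // (none : GolayPt) ∉ c.1} = 2048 := by
  rw [Nat.card_congr (Equiv.subtypeSubtypeEquivSubtypeInter (· ∈ Code) (fun c => none ∉ c))]
  have hset : {c : Finset GolayPt | c ∈ Code ∧ (none : GolayPt) ∉ c} =
      ↑(((codeList.filter (fun m => !m.testBit 23)).map ofMask).toFinset) := by
    ext b
    rw [Finset.mem_coe, List.mem_toFinset, List.mem_map]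
    simp only [Set.mem_ofPred_eq, List.mem_filter]
    constructor
    · rintro ⟨hb, hn⟩
      obtain ⟨m, hm, rfl⟩ := (mem_supports_iff_codeList b).mp hb
      refine ⟨m, ⟨hm, ?_⟩, rfl⟩
      rw [mem_ofMask] at hn
      have : idx (none : GolayPt) = 23 := rfl
      rw [this] at hn
      simpa using hn
    · rintro ⟨m, ⟨hm, hn⟩, rfl⟩
      refine ⟨(mem_supports_iff_codeList _).mpr ⟨m, hm, rfl⟩, ?_⟩
      rw [mem_ofMask]
      have : idx (none : GolayPt) = 23 := rfl
      rw [this]
      simpa using hn
  show Nat.card ↥{c : Finset GolayPt | c ∈ Code ∧ (none : GolayPt) ∉ c} = 2048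
  rw [Nat.card_coe_set_eq, hset, Set.ncard_coe_finset, List.toFinset_card_of_nodup, List.length_map,
    codeList_avoid_length]
  apply List.Nodup.map_on _ (codeList_nodup.filter _)
  intro x hx y hy hxy
  exact ofMask_injOn x y (codeList_lt (List.mem_filter.mp hx).1) (codeList_lt (List.mem_filter.mp hy).1)
    hxy

theorem monoPerm_frame (σ : Equiv.Perm GolayPt) (c : Finset GolayPt) (hσ : σ ∈ M24)
    (hc : c ∈ Code) (i : GolayPt) :
    ((monoPerm σ c hσ hc (frameVec i) : leechLattice) : GolayPt → ℤ) =
      Pi.single (σ i) (if σ i ∈ c then -8 else 8) := by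
  rw [monoPerm_val, frameVec_val, signedPerm_single]

theorem card_stab_frame : Nat.card ↥(stabIn Co0 (frameVec none)) = 10200960 * 2048 := by
  let Ψ : (↥(stabIn M24 (none : GolayPt)) ×
      {c : ↥(Code : Set (Finset GolayPt)) // (none : GolayPt) ∉ c.1}) →
      ↥(stabIn Co0 (frameVec none)) :=
    fun p => ⟨monoPerm p.1.1 p.2.1.1 (mem_stabIn.mp p.1.2).1 p.2.1.2, by
      rw [mem_stabIn]
      refine ⟨monoPerm_mem _ _ _ _, ?_⟩
      apply Subtype.ext
      rw [monoPerm_frame, (mem_stabIn.mp p.1.2).2, if_neg p.2.2, frameVec_val]⟩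
  have hbij : Function.Bijective Ψ := by
    constructor
    · rintro ⟨⟨σ, hσ⟩, ⟨⟨c, hc⟩, hcn⟩⟩ ⟨⟨σ', hσ'⟩, ⟨⟨c', hc'⟩, hcn'⟩⟩ h
      have h1 : monoPerm σ c (mem_stabIn.mp hσ).1 hc = monoPerm σ' c' (mem_stabIn.mp hσ').1 hc' :=
        congrArg Subtype.val h
      obtain ⟨rfl, rfl⟩ := monoPerm_inj σ σ' c c' _ _ hc hc' h1
      rfl
    · rintro ⟨g, hg⟩
      rw [mem_stabIn] at hg
      obtain ⟨hgC, hgf⟩ := hg
      obtain ⟨σ, c, hσ, hc, rfl⟩ := stab_is_mono g hgC (stabCross_of_fix g hgC hgf)
      have h1 := congrArg (fun v : leechLattice => (v : GolayPt → ℤ)) hgf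
      simp only [monoPerm_frame, frameVec_val] at h1
      have hne : (if σ none ∈ c then (-8 : ℤ) else 8) ≠ 0 := by split_ifs <;> norm_num
      obtain ⟨h2, h3⟩ := single_injective_of_ne hne h1
      have hcn : (none : GolayPt) ∉ c := by
        intro hmem
        rw [h2, if_pos hmem] at h3
        norm_num at h3
      exact ⟨⟨⟨σ, mem_stabIn.mpr ⟨hσ, h2⟩⟩, ⟨⟨c, hc⟩, hcn⟩⟩, rfl⟩
  rw [← Nat.card_congr (Equiv.ofBijective Ψ hbij), Nat.card_prod, card_stab1, card_code_avoid]

theorem card_orbit_frame :
    Nat.card (MulAction.orbit Co0 (frameVec none)) = 398034000 := by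
  have hset : (MulAction.orbit Co0 (frameVec none) : Set leechLattice) =
      ↑(shortSet 64 (by norm_num)) := by
    ext w
    rw [Finset.mem_coe, mem_shortSet, MulAction.mem_orbit_iff]
    constructor
    · rintro ⟨g, rfl⟩
      have h64 : sqNorm (frameVec none).1 = 64 := by
        rw [frameVec_val]
        unfold sqNorm
        rw [Finset.sum_eq_single none]
        · rw [Pi.single_eq_same]; norm_num
        · intro k _ hk; rw [Pi.single_eq_of_ne hk]; norm_num
        · intro h; exact absurd (Finset.mem_univ _) h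
      show sqNorm (g.1 (frameVec none)).1 = _
      rw [g.2.2, h64]
      norm_num
    · intro hw
      exact (orb64 w (by rw [hw]; norm_num)).smul
  rw [hset, Nat.card_coe_set_eq, Set.ncard_coe_finset, card_shortSet, leechNum_64]

/-- The order of the automorphism group of the Leech lattice. -/
theorem card_Co0 : Nat.card Co0 = 8315553613086720000 := by
  rw [card_eq_orbit_mul Co0 (frameVec none), card_orbit_frame, card_stab_frame]

end Cfsg.Agent.Helper7
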