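import Cfsg.Agent.Lib.Helper7.Weights

set_option autoImplicit false

namespace Cfsg.Agent.Helper7
open Cfsg

/-- Check that the keys of a list are consecutive numbers. -/
def checkKeys : List ℕ → ℕ → Bool
  | [], _ => true
  | m :: ms, n => Nat.beq (Nat.land m 4095) n && checkKeys ms (n + 1)

theorem checkKeys_spec (l : List ℕ) (n : ℕ) (h : checkKeys l n = true) :
    l.map (fun m => Nat.land m 4095) = List.range' n l.length := by
  induction l generalizing n with
  | nil => rfl
  | cons m ms ih =>
    rw [checkKeys, Bool.and_eq_true, Nat.beq_eq] at h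
    rw [List.map_cons, List.length_cons, List.range'_succ, ih (n + 1) h.2, h.1]

theorem codeList_key : checkKeys codeList 0 = true := by
  decide +kernel

theorem codeList_nodup : codeList.Nodup :=
  List.Nodup.of_map _ (checkKeys_spec _ _ codeList_key ▸ List.nodup_range')

theorem codeList_ok : codeList.all (fun m => Nat.blt m 16777216 && Nat.beq (encMask m) m) = true := by
  decide +kernel

theorem codeList_lt {m : ℕ} (hm : m ∈ codeList) : m < 2 ^ 24 := by
  have := List.all_eq_true.mp codeList_ok m hm
  simp only [Bool.and_eq_true, Nat.blt_eq, Nat.beq_eq] at this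
  omega

theorem codeList_enc {m : ℕ} (hm : m ∈ codeList) : encMask m = m := by
  have := List.all_eq_true.mp codeList_ok m hm
  simp only [Bool.and_eq_true, Nat.blt_eq, Nat.beq_eq] at this
  exact this.2

theorem mem_supports_iff_codeList (b : Finset GolayPt) :
    b ∈ supports (golayCode : Set W) ↔ ∃ m ∈ codeList, ofMask m = b := by
  constructor
  · intro hb
    obtain ⟨a, _, rfl⟩ := exists_of_mem_code b hb
    exact ⟨_, encMask_mem_codeList a, rfl⟩
  · rintro ⟨m, hm, rfl⟩
    exact (ofMask_mem_iff m (codeList_lt hm)).mpr (codeList_enc hm)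

/-- Counting code words with a property by filtering the list of all code words. -/
theorem ncard_code_filter (P : Finset GolayPt → Prop) (f : ℕ → Bool)
    (hf : ∀ m ∈ codeList, (f m = true ↔ P (ofMask m))) :
    {b | b ∈ supports (golayCode : Set W) ∧ P b}.ncard = (codeList.filter f).length := by
  have hnd : ((codeList.filter f).map ofMask).Nodup := by
    apply List.Nodup.map_on _ (codeList_nodup.filter _)
    intro x hx y hy hxy
    exact ofMask_injOn x y (codeList_lt (List.mem_filter.mp hx).1)
      (codeList_lt (List.mem_filter.mp hy).1) hxy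
  have hset : {b | b ∈ supports (golayCode : Set W) ∧ P b} =
      ↑((codeList.filter f).map ofMask).toFinset := by
    ext b
    simp only [Set.mem_ofPred_eq, Finset.mem_coe, List.mem_toFinset, List.mem_map, List.mem_filter]
    rw [mem_supports_iff_codeList]
    constructor
    · rintro ⟨⟨m, hm, rfl⟩, hP⟩
      exact ⟨m, ⟨hm, (hf m hm).mpr hP⟩, rfl⟩
    · rintro ⟨m, ⟨hm, hfm⟩, rfl⟩
      exact ⟨⟨m, hm, rfl⟩, (hf m hm).mp hfm⟩
  rw [hset, Set.ncard_coe_finset, List.toFinset_card_of_nodup hnd, List.length_map]

theorem octads_count : (codeList.filter fun m => Nat.beq (popcF m) 8).length = 759 := by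
  decide +kernel

theorem dodecads_count : (codeList.filter fun m => Nat.beq (popcF m) 12).length = 2576 := by
  decide +kernel

theorem ncard_octads : octads.ncard = 759 := by
  have := ncard_code_filter (fun b => b.card = 8) (fun m => Nat.beq (popcF m) 8) (by
    intro m _
    rw [Nat.beq_eq, card_ofMask'])
  rw [octads_count] at this
  exact this

theorem ncard_dodecads : dodecads.ncard = 2576 := by
  have := ncard_code_filter (fun b => b.card = 12) (fun m => Nat.beq (popcF m) 12) (by
    intro m _
    rw [Nat.beq_eq, card_ofMask'])
  rw [dodecads_count] at this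
  exact this

end Cfsg.Agent.Helper7
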