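import Cfsg.Agent.Lib.Helper7.VecCount
import Cfsg.Agent.Lib.Helper7.LeechBasic
import Cfsg.Agent.Lib.Helper7.Count

/-!
# Counting vectors of the Leech lattice of given norm

The lattice vectors of a given norm are fibred over pairs (parity, code word); each fibre is counted
by the dynamic programme of `VecCount`.
-/

set_option autoImplicit false

namespace Cfsg.Agent.Helper7
open Cfsg Cfsg.Agent.Helper91

/-! ### Orderings of the 24 points -/

/-- the 24 points as a list -/
def allPts : List GolayPt := (List.range 24).map pt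

theorem allPts_nodup : allPts.Nodup := by decide

theorem mem_allPts (p : GolayPt) : p ∈ allPts := by revert p; decide

/-- the points, those in `S` first -/
def ordS (S : Finset GolayPt) : List GolayPt :=
  allPts.filter (fun p => decide (p ∈ S)) ++ allPts.filter (fun p => !decide (p ∈ S))

theorem ordS_perm (S : Finset GolayPt) : (ordS S).Perm allPts :=
  List.filter_append_perm _ _

theorem ordS_nodup (S : Finset GolayPt) : (ordS S).Nodup :=
  (ordS_perm S).nodup_iff.mpr allPts_nodup

theorem mem_ordS (S : Finset GolayPt) (p : GolayPt) : p ∈ ordS S :=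
  (ordS_perm S).mem_iff.mpr (mem_allPts p)

theorem length_filter_mem (S : Finset GolayPt) :
    (allPts.filter (fun p => decide (p ∈ S))).length = S.card := by
  rw [← List.toFinset_card_of_nodup (allPts_nodup.filter _)]
  congr 1
  ext p
  simp [mem_allPts]

theorem length_filter_not_mem (S : Finset GolayPt) :
    (allPts.filter (fun p => !decide (p ∈ S))).length = 24 - S.card := by
  have h := (ordS_perm S).length_eq
  unfold ordS at h
  rw [List.length_append, length_filter_mem] at h
  have : allPts.length = 24 := by decide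
  omega

theorem ordS_map (S : Finset GolayPt) {α : Type*} (a b : α) :
    (ordS S).map (fun i => if i ∈ S then a else b) =
      List.replicate S.card a ++ (List.replicate (24 - S.card) b ++ []) := by
  unfold ordS
  rw [List.map_append, List.append_nil]
  congr 1
  · rw [← length_filter_mem S, ← List.map_const']
    apply List.map_congr_left
    intro i hi
    rw [List.mem_filter, decide_eq_true_eq] at hi
    rw [if_pos hi.2]
  · rw [← length_filter_not_mem S, ← List.map_const']
    apply List.map_congr_left
    intro i hi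
    rw [List.mem_filter] at hi
    have : i ∉ S := by simpa using hi.2
    rw [if_neg this]

theorem sum_ordS (S : Finset GolayPt) {M : Type*} [AddCommMonoid M] (f : GolayPt → M) :
    ((ordS S).map f).sum = ∑ i, f i := by
  rw [← List.sum_toFinset f (ordS_nodup S)]
  congr 1
  exact Finset.eq_univ_iff_forall.mpr (fun p => List.mem_toFinset.mpr (mem_ordS S p))

/-! ### The count of a fibre -/

/-- the number computed by the dynamic programme -/
def fibNum (Vin Vout : List ℤ) (w n r : ℕ) : ℕ :=
  look (iterT (Vin.map encT) w (iterT (Vout.map encT) (24 - w) (tab baseC))) n r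

theorem fib_count (Vin Vout : List ℤ) (hin : Vin.Nodup) (hout : Vout.Nodup)
    (S : Finset GolayPt) (n r : ℕ) (hn : n < 65) (hr : r < 8) :
    {x : GolayPt → ℤ | (∀ i, x i ∈ (if i ∈ S then Vin else Vout)) ∧
      QL n r ((ordS S).map x)}.ncard = fibNum Vin Vout S.card n r := by
  rw [ncard_fun_eq_countP (ordS S) (ordS_nodup S) (mem_ordS S)
    (fun i => if i ∈ S then Vin else Vout) (fun i => by split_ifs <;> assumption) (QL n r)]
  rw [countP_vecs _ _ _ hn hr, ordS_map, tabs_replicate_append, tabs_replicate_append]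
  rfl

/-- the predicate `QL` along an ordering, in terms of sums over all points -/
theorem QL_ordS (S : Finset GolayPt) (x : GolayPt → ℤ) (n r : ℕ) :
    QL n r ((ordS S).map x) ↔ sqNorm x = n ∧ (∑ i, x i) % 8 = r := by
  unfold QL
  rw [List.map_map, List.map_map, sum_ordS, sum_ordS]
  simp only [Function.comp_apply]
  have h1 : sqNorm x = ((∑ i, (x i).natAbs ^ 2 : ℕ) : ℤ) := by
    unfold sqNorm
    rw [Nat.cast_sum]
    apply Finset.sum_congr rfl
    intro i _
    rw [Nat.cast_pow, Int.natCast_natAbs, sq_abs]
  have h2 : (∑ i, x i) % 8 = (((∑ i, (x i % 8).toNat : ℕ) % 8 : ℕ) : ℤ) := by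
    rw [Finset.sum_int_mod]
    push_cast
    congr 1
    apply Finset.sum_congr rfl
    intro i _
    rw [Int.toNat_of_nonneg (Int.emod_nonneg _ (by norm_num))]
  rw [h1, h2]
  constructor
  · rintro ⟨ha, hb⟩
    rw [ha, hb]
    exact ⟨rfl, rfl⟩
  · rintro ⟨ha, hb⟩
    exact ⟨by exact_mod_cast ha, by exact_mod_cast hb⟩

/-! ### Value lists -/

/-- the integers in `[-8, 8]` with a given residue modulo 4 -/
def vRes (c : ℤ) : List ℤ :=
  ((List.range 17).map fun k : ℕ => (k : ℤ) - 8).filter fun t => decide (t % 4 = c)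

theorem mem_vRes (c t : ℤ) : t ∈ vRes c ↔ -8 ≤ t ∧ t ≤ 8 ∧ t % 4 = c := by
  unfold vRes
  rw [List.mem_filter, List.mem_map, decide_eq_true_eq]
  constructor
  · rintro ⟨⟨k, hk, rfl⟩, h2⟩
    rw [List.mem_range] at hk
    exact ⟨by omega, by omega, h2⟩
  · rintro ⟨h1, h2, h3⟩
    refine ⟨⟨(t + 8).toNat, ?_, ?_⟩, h3⟩
    · rw [List.mem_range]; omega
    · omega

theorem vRes_nodup (c : ℤ) : (vRes c).Nodup := by
  unfold vRes
  apply List.Nodup.filter
  apply List.Nodup.map _ List.nodup_range
  intro a b hab
  simp only at hab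
  omega

/-- the code words as a finite set -/
def codeFinset : Finset (Finset GolayPt) := (codeList.map ofMask).toFinset

theorem mem_codeFinset (b : Finset GolayPt) :
    b ∈ codeFinset ↔ b ∈ supports (golayCode : Set W) := by
  unfold codeFinset
  rw [List.mem_toFinset, List.mem_map, mem_supports_iff_codeList]

theorem codeList_map_nodup : (codeList.map ofMask).Nodup := by
  apply List.Nodup.map_on _ codeList_nodup
  intro x hx y hy hxy
  exact ofMask_injOn x y (codeList_lt hx) (codeList_lt hy) hxy

/-! ### The fibres -/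

/-- the fibre over a parity and a code word -/
def fibL (R : ℤ → Bool) (n : ℕ) (e : ℕ) (S : Finset GolayPt) : Set (GolayPt → ℤ) :=
  {x | (∀ i, x i % 4 = if i ∈ S then (e : ℤ) + 2 else (e : ℤ)) ∧ (∑ i, x i) % 8 = 4 * (e : ℤ) ∧
    sqNorm x = n ∧ ∀ i, R (x i) = true}

theorem coord_bound (x : GolayPt → ℤ) (n : ℕ) (hn : n < 65) (hx : sqNorm x = n) (i : GolayPt) :
    -8 ≤ x i ∧ x i ≤ 8 := by
  have h1 : x i ^ 2 ≤ sqNorm x := by
    unfold sqNorm
    exact Finset.single_le_sum (f := fun j => x j ^ 2) (fun j _ => sq_nonneg (x j))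
      (Finset.mem_univ i)
  rw [hx] at h1
  have h2 : x i ^ 2 ≤ 64 := by
    have : (n : ℤ) ≤ 64 := by omega
    omega
  constructor <;> nlinarith

theorem fibL_eq (R : ℤ → Bool) (n : ℕ) (hn : n < 65) (e : ℕ) (he : e < 2) (S : Finset GolayPt) :
    fibL R n e S = {x : GolayPt → ℤ |
      (∀ i, x i ∈ (if i ∈ S then (vRes ((e : ℤ) + 2)).filter R else (vRes (e : ℤ)).filter R)) ∧
      QL n (4 * e) ((ordS S).map x)} := by
  ext x
  simp only [fibL, Set.mem_ofPred_eq, QL_ordS]
  constructor
  · rintro ⟨h1, h2, h3, h4⟩
    refine ⟨fun i => ?_, h3, by rw [h2]; push_cast; ring⟩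
    have hb := coord_bound x n hn h3 i
    have hi := h1 i
    split_ifs with hS
    · rw [if_pos hS] at hi
      rw [List.mem_filter, mem_vRes]
      exact ⟨⟨hb.1, hb.2, hi⟩, h4 i⟩
    · rw [if_neg hS] at hi
      rw [List.mem_filter, mem_vRes]
      exact ⟨⟨hb.1, hb.2, hi⟩, h4 i⟩
  · rintro ⟨h1, h3, h2⟩
    refine ⟨fun i => ?_, by rw [h2]; push_cast; ring, h3, fun i => ?_⟩
    · have hi := h1 i
      split_ifs with hS
      · rw [if_pos hS, List.mem_filter, mem_vRes] at hi
        exact hi.1.2.2
      · rw [if_neg hS, List.mem_filter, mem_vRes] at hi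
        exact hi.1.2.2
    · have hi := h1 i
      split_ifs at hi with hS
      · exact (List.mem_filter.mp hi).2
      · exact (List.mem_filter.mp hi).2

theorem ncard_fibL (R : ℤ → Bool) (n : ℕ) (hn : n < 65) (e : ℕ) (he : e < 2)
    (S : Finset GolayPt) :
    (fibL R n e S).ncard =
      fibNum ((vRes ((e : ℤ) + 2)).filter R) ((vRes (e : ℤ)).filter R) S.card n (4 * e) := by
  rw [fibL_eq R n hn e he S]
  exact fib_count _ _ ((vRes_nodup _).filter _) ((vRes_nodup _).filter _) S n (4 * e) hn (by omega)

theorem fibL_finite (R : ℤ → Bool) (n : ℕ) (hn : n < 65) (e : ℕ) (S : Finset GolayPt) :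
    (fibL R n e S).Finite := by
  apply Set.Finite.subset (Set.Finite.pi (fun _ : GolayPt => Set.finite_Icc (-8 : ℤ) 8))
  intro x hx
  rw [Set.mem_univ_pi]
  intro i
  have := coord_bound x n hn hx.2.2.1 i
  exact ⟨this.1, this.2⟩

theorem fibL_disjoint (R : ℤ → Bool) (n : ℕ) (e e' : ℕ) (he : e < 2) (he' : e' < 2)
    (S S' : Finset GolayPt) (hne : (e, S) ≠ (e', S')) :
    Disjoint (fibL R n e S) (fibL R n e' S') := by
  rw [Set.disjoint_left]
  intro x hx hx'
  apply hne
  have h1 := hx.1
  have h1' := hx'.1
  have hee : e = e' := by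
    have a := h1 none
    have a' := h1' none
    split_ifs at a a' <;> omega
  subst hee
  congr 1
  ext i
  have a := h1 i
  have a' := h1' i
  split_ifs at a a' with hS hS' hS' <;> first | (exfalso; omega) | (simp [hS, hS'])

/-- the index set of the fibration -/
def fibKeys : Finset (ℕ × Finset GolayPt) := ({0, 1} : Finset ℕ) ×ˢ codeFinset

theorem mem_fibKeys (k : ℕ × Finset GolayPt) :
    k ∈ fibKeys ↔ k.1 < 2 ∧ k.2 ∈ supports (golayCode : Set W) := by
  unfold fibKeys
  rw [Finset.mem_product, mem_codeFinset]
  simp only [Finset.mem_insert, Finset.mem_singleton]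
  constructor
  · rintro ⟨h1, h2⟩
    exact ⟨by omega, h2⟩
  · rintro ⟨h1, h2⟩
    exact ⟨by omega, h2⟩

theorem leech_decomp (R : ℤ → Bool) (n : ℕ) :
    {x : GolayPt → ℤ | x ∈ leechLattice ∧ sqNorm x = n ∧ ∀ i, R (x i) = true} =
      ⋃ k ∈ (fibKeys : Set (ℕ × Finset GolayPt)), fibL R n k.1 k.2 := by
  ext x
  simp only [Set.mem_ofPred_eq, Set.mem_iUnion, Finset.mem_coe, exists_prop]
  constructor
  · rintro ⟨hL, hn, hR⟩
    have hS : x ∈ leechSet := by rw [← leechLattice_coe]; exact hL
    obtain ⟨m, hpar, hsum, hcode⟩ := hS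
    have he : (m % 2).toNat < 2 := by omega
    have hem : (((m % 2).toNat : ℕ) : ℤ) = m % 2 := by omega
    refine ⟨((m % 2).toNat, Finset.univ.filter fun i => x i ≡ (((m % 2).toNat : ℕ) : ℤ) + 2 [ZMOD 4]),
      (mem_fibKeys _).mpr ⟨he, hcode _⟩, ?_, ?_, hn, hR⟩
    · intro i
      have hpi := hpar i
      unfold Int.ModEq at hpi
      simp only [Finset.mem_filter, Finset.mem_univ, true_and]
      unfold Int.ModEq
      split_ifs with h <;> omega
    · unfold Int.ModEq at hsum
      simp only
      omega
  · rintro ⟨⟨e, S⟩, hk, h1, h2, h3, h4⟩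
    rw [mem_fibKeys] at hk
    obtain ⟨he, hS⟩ := hk
    simp only at he hS h1 h2
    refine ⟨?_, h3, h4⟩
    rw [← SetLike.mem_coe, leechLattice_coe]
    refine ⟨(e : ℤ), fun i => ?_, ?_, fun k => ?_⟩
    · have := h1 i
      unfold Int.ModEq
      split_ifs at this <;> omega
    · unfold Int.ModEq
      omega
    · by_cases hk1 : k % 4 = (e : ℤ) + 2
      · have : (Finset.univ.filter fun i => x i ≡ k [ZMOD 4]) = S := by
          ext i
          rw [Finset.mem_filter]
          simp only [Finset.mem_univ, true_and]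
          have := h1 i
          unfold Int.ModEq
          split_ifs at this with hi
          · simp only [hi, iff_true]; omega
          · simp only [hi, iff_false]; omega
        rw [this]
        exact hS
      · by_cases hk2 : k % 4 = (e : ℤ)
        · have : (Finset.univ.filter fun i => x i ≡ k [ZMOD 4]) = Sᶜ := by
            ext i
            rw [Finset.mem_filter, Finset.mem_compl]
            simp only [Finset.mem_univ, true_and]
            have := h1 i
            unfold Int.ModEq
            split_ifs at this with hi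
            · simp only [hi, not_true_eq_false, iff_false]; omega
            · simp only [hi, not_false_eq_true, iff_true]; omega
          rw [this]
          exact compl_mem_supports hS
        · have : (Finset.univ.filter fun i => x i ≡ k [ZMOD 4]) = ∅ := by
            ext i
            rw [Finset.mem_filter]
            simp only [Finset.mem_univ, true_and, Finset.notMem_empty, iff_false]
            have := h1 i
            unfold Int.ModEq
            split_ifs at this <;> omega
          rw [this]
          exact empty_mem_supports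

theorem leech_ncard_sum (R : ℤ → Bool) (n : ℕ) (hn : n < 65) :
    {x : GolayPt → ℤ | x ∈ leechLattice ∧ sqNorm x = n ∧ ∀ i, R (x i) = true}.ncard =
      ∑ k ∈ fibKeys, fibNum ((vRes ((k.1 : ℤ) + 2)).filter R) ((vRes (k.1 : ℤ)).filter R)
        k.2.card n (4 * k.1) := by
  rw [leech_decomp, Set.Finite.ncard_biUnion (Finset.finite_toSet _)
    (fun k _ => fibL_finite R n hn k.1 k.2), finsum_mem_coe_finset]
  · apply Finset.sum_congr rfl
    intro k hk
    exact ncard_fibL R n hn k.1 ((mem_fibKeys k).mp hk).1 k.2
  · intro k hk k' hk' hne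
    exact fibL_disjoint R n k.1 k'.1 ((mem_fibKeys k).mp hk).1 ((mem_fibKeys k').mp hk').1 k.2 k'.2
      hne

/-! ### Summing over the code by weight -/

theorem sum_by_weight (l : List ℕ) (f : ℕ → ℕ) (g : ℕ → ℕ)
    (h : ∀ a ∈ l, f a = 0 ∨ f a = 8 ∨ f a = 12 ∨ f a = 16 ∨ f a = 24) :
    (l.map (fun a => g (f a))).sum =
      l.countP (fun a => f a == 0) * g 0 + l.countP (fun a => f a == 8) * g 8 +
      l.countP (fun a => f a == 12) * g 12 + l.countP (fun a => f a == 16) * g 16 +
      l.countP (fun a => f a == 24) * g 24 := by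
  induction l with
  | nil => simp
  | cons a l ih =>
    rw [List.map_cons, List.sum_cons, ih (fun b hb => h b (List.mem_cons_of_mem _ hb))]
    simp only [List.countP_cons]
    rcases h a List.mem_cons_self with h0 | h0 | h0 | h0 | h0 <;> rw [h0] <;> simp <;> ring

theorem codeList_weights (m : ℕ) (hm : m ∈ codeList) :
    popcF m = 0 ∨ popcF m = 8 ∨ popcF m = 12 ∨ popcF m = 16 ∨ popcF m = 24 := by
  have := weight_cases (ofMask m) ((mem_supports_iff_codeList _).mpr ⟨m, hm, rfl⟩)
  rwa [card_ofMask'] at this

theorem codeList_count0 : codeList.countP (fun a => popcF a == 0) = 1 := by decide +kernel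
theorem codeList_count8 : codeList.countP (fun a => popcF a == 8) = 759 := by decide +kernel
theorem codeList_count12 : codeList.countP (fun a => popcF a == 12) = 2576 := by decide +kernel
theorem codeList_count16 : codeList.countP (fun a => popcF a == 16) = 759 := by decide +kernel
theorem codeList_count24 : codeList.countP (fun a => popcF a == 24) = 1 := by decide +kernel

/-- weighted sum over the weights of the code -/
def wsum (h : ℕ → ℕ) : ℕ := h 0 + 759 * h 8 + 2576 * h 12 + 759 * h 16 + h 24

theorem sum_codeFinset (h : ℕ → ℕ) : ∑ S ∈ codeFinset, h S.card = wsum h := by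
  unfold codeFinset
  rw [List.sum_toFinset _ codeList_map_nodup, List.map_map]
  have : (codeList.map ((fun S : Finset GolayPt => h S.card) ∘ ofMask)) =
      codeList.map (fun m => h (popcF m)) := by
    apply List.map_congr_left
    intro m _
    simp only [Function.comp_apply, card_ofMask']
  rw [this, sum_by_weight codeList popcF h codeList_weights, codeList_count0, codeList_count8,
    codeList_count12, codeList_count16, codeList_count24]
  unfold wsum
  ring

/-- the number of lattice vectors of norm `n` all of whose coordinates satisfy `R` -/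
def leechNum (R : ℤ → Bool) (n : ℕ) : ℕ :=
  wsum (fun w => fibNum ((vRes 2).filter R) ((vRes 0).filter R) w n 0) +
  wsum (fun w => fibNum ((vRes 3).filter R) ((vRes 1).filter R) w n 4)

theorem leech_ncard (R : ℤ → Bool) (n : ℕ) (hn : n < 65) :
    {x : GolayPt → ℤ | x ∈ leechLattice ∧ sqNorm x = n ∧ ∀ i, R (x i) = true}.ncard =
      leechNum R n := by
  rw [leech_ncard_sum R n hn]
  unfold fibKeys
  rw [Finset.sum_product, Finset.sum_pair (by decide)]
  simp only
  rw [sum_codeFinset (fun w => fibNum ((vRes (((0 : ℕ) : ℤ) + 2)).filter R)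
    ((vRes ((0 : ℕ) : ℤ)).filter R) w n (4 * 0)),
    sum_codeFinset (fun w => fibNum ((vRes (((1 : ℕ) : ℤ) + 2)).filter R)
    ((vRes ((1 : ℕ) : ℤ)).filter R) w n (4 * 1))]
  rfl

theorem leech_ncard_all (n : ℕ) (hn : n < 65) :
    {x : GolayPt → ℤ | x ∈ leechLattice ∧ sqNorm x = n}.ncard = leechNum (fun _ => true) n := by
  rw [← leech_ncard (fun _ => true) n hn]
  congr 1
  ext x
  simp

end Cfsg.Agent.Helper7
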