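import Cfsg.Agent.Lib.Helper7.M24Order

set_option autoImplicit false

namespace Cfsg.Agent.Helper7
open Cfsg
open scoped Pointwise

theorem level_all {G : Subgroup (Equiv.Perm GolayPt)} {bs : List ℕ} {b : ℕ} {targets : List ℕ}
    (h : ∀ q ∈ targets, q < 24 ∧ ∃ g ∈ stabL G (bs.map pt), g (pt b) = pt q)
    (hall : ∀ q < 24, q ∉ bs → q ∈ targets) :
    ∀ q : GolayPt, q ∉ bs.map pt → ∃ g ∈ stabL G (bs.map pt), g (pt b) = q := by
  intro q hq
  have hq' : idx q ∉ bs := by
    intro hmem
    apply hq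
    rw [List.mem_map]
    exact ⟨idx q, hmem, pt_idx q⟩
  obtain ⟨_, g, hg, hgq⟩ := h (idx q) (hall (idx q) (idx_lt q) hq')
  exact ⟨g, hg, by rw [hgq, pt_idx]⟩

/-- `M24` is transitive along the base `∞, 0, 1, 2, 3`. -/
theorem m24_chainTrans : ChainTrans M24 ([23, 0, 1, 2, 3].map pt) := by
  have a1 := shift_mem
  have a2 := projInv_mem
  have a3 := cubeTwist_mem
  intro i hi q hq
  simp only [List.length_map, List.length_cons, List.length_nil] at hi
  interval_cases i
  · exact level_all (bs := []) (m24_level0 M24 a1 a2 a3) (by decide) q hq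
  · exact level_all (bs := [23]) (m24_level1 M24 a1 a2 a3) (by decide) q hq
  · exact level_all (bs := [23, 0]) (m24_level2 M24 a1 a2 a3) (by decide) q hq
  · exact level_all (bs := [23, 0, 1]) (m24_level3 M24 a1 a2 a3) (by decide) q hq
  · exact level_all (bs := [23, 0, 1, 2]) (m24_level4 M24 a1 a2 a3) (by decide) q hq

/-- `M24` is 5-transitive (on lists). -/
theorem m24_five_trans (xs ys : List GolayPt) (hx : xs.Nodup) (hy : ys.Nodup)
    (hxl : xs.length = ys.length) (hlen : xs.length ≤ 5) : ∃ g ∈ M24, xs.map g = ys :=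
  m24_chainTrans.exists_map_map xs ys hx hy hxl (by simpa using hlen)

end Cfsg.Agent.Helper7
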