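import Mathlib

/-!
# Definitions for the O5760 lemma server (helper7): S0980, no simple group of order 5760
-/

set_option autoImplicit false

namespace Cfsg.Agent.Helper7.O5760

universe u v

/-- The subgroup generated by the elements of order 3 fixing both points `a` and `b`. -/
def K3 (G : Type u) [Group G] {X : Type v} [MulAction G X] (a b : X) : Subgroup G :=
  Subgroup.closure {k : G | k • a = a ∧ k • b = b ∧ orderOf k = 3}

/-- The "line" through two points: the common fixed points of `K3 G a b`. -/
def line (G : Type u) [Group G] {X : Type v} [MulAction G X] (a b : X) : Set X :=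
  {c : X | ∀ k ∈ K3 G a b, k • c = c}

/-- The hypotheses of the design part: a 2-transitive group of order 5760 on 16 points, two-point
stabilizers of order 24, and for each point `a` an element `z a` of order 3 whose only fixed point
is `a` and which generates a normal subgroup of the stabilizer of `a`. -/
structure Hyp (G : Type u) [Group G] (X : Type v) [MulAction G X] (z : X → G) : Prop where
  cardX : Nat.card X = 16
  cardG : Nat.card G = 5760
  faithful : ∀ g : G, (∀ a : X, g • a = a) → g = 1
  twoTrans : ∀ a b c d : X, a ≠ b → c ≠ d → ∃ g : G, g • a = c ∧ g • b = d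
  card24 : ∀ a b : X, a ≠ b →
    Nat.card ↥(MulAction.stabilizer G a ⊓ MulAction.stabilizer G b) = 24
  zOrder : ∀ a : X, orderOf (z a) = 3
  zFix : ∀ a b : X, z a • b = b ↔ b = a
  zNorm : ∀ (a : X) (g : G), g • a = a → g * z a * g⁻¹ ∈ Subgroup.zpowers (z a)

end Cfsg.Agent.Helper7.O5760
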