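import Cfsg.Agent.Lib.Helper7.K0Data
import Cfsg.Agent.Lib.Helper7.M12Card
import Cfsg.Agent.Lib.Helper7.Chain2

set_option autoImplicit false

namespace Cfsg.Agent.Helper7
open Cfsg
open scoped Pointwise

/-- The pointwise stabiliser of a set of points in `M24`. -/
abbrev octFix (o : Finset GolayPt) : Subgroup (Equiv.Perm GolayPt) :=
  M24 ⊓ fixingSubgroup (Equiv.Perm GolayPt) (o : Set GolayPt)

theorem mem_octFix {o : Finset GolayPt} {g : Equiv.Perm GolayPt} :
    g ∈ octFix o ↔ g ∈ M24 ∧ ∀ p ∈ o, g p = p := by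
  constructor
  · rintro ⟨h1, h2⟩
    refine ⟨h1, fun p hp => ?_⟩
    exact (mem_fixingSubgroup_iff _).mp h2 p (Finset.mem_coe.mpr hp)
  · rintro ⟨h1, h2⟩
    refine ⟨h1, ?_⟩
    show g ∈ fixingSubgroup (Equiv.Perm GolayPt) (o : Set GolayPt)
    rw [mem_fixingSubgroup_iff]
    intro p hp
    exact h2 p (Finset.mem_coe.mp hp)

theorem k0AllTabs_eq : slpTabs k0Prog m24InitTabs = k0AllTabs := by
  decide +kernel

theorem goodTabs_k0All : GoodTabs M24 k0AllTabs := by
  rw [← k0AllTabs_eq]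
  exact goodTabs_slp _ _ (goodTabs_init M24 shift_mem projInv_mem cubeTwist_mem)

/-- The base octad. -/
abbrev O0 : Finset GolayPt := ofMask baseOct

theorem O0_mem : O0 ∈ octads := isOct_spec baseOct_isOct

theorem tab_idTab_eq_one {σ : Equiv.Perm GolayPt} (h : Tab σ idTab) : σ = 1 := by
  apply Equiv.ext
  intro p
  apply idx_injective
  rw [h p]
  have : idTab.getD (idx p) 0 = idx p := by
    have := idx_lt p
    revert this
    generalize idx p = i
    intro hi
    interval_cases i <;> rfl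
  rw [this]
  rfl

theorem tab_unique {σ τ : Equiv.Perm GolayPt} {l : List ℕ} (h1 : Tab σ l) (h2 : Tab τ l) :
    σ = τ := by
  apply Equiv.ext
  intro p
  apply idx_injective
  rw [h1 p, h2 p]

theorem goodTabs_k0 : GoodTabs (octFix O0) k0Tabs := by
  intro l hl
  have h1 : l = idTab ∨ l ∈ k0AllTabs := by
    revert l
    decide +kernel
  have hfix : ∀ i < 24, baseOct.testBit i = true → l.getD i 0 = i := by
    revert l
    decide +kernel
  have key : ∀ σ : Equiv.Perm GolayPt, σ ∈ M24 → Tab σ l → σ ∈ octFix O0 := by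
    intro σ hσ ht
    rw [mem_octFix]
    refine ⟨hσ, fun p hp => ?_⟩
    rw [mem_ofMask] at hp
    have := ht.fix (idx p) (idx_lt p) (hfix _ (idx_lt p) hp)
    rwa [pt_idx] at this
  rcases h1 with rfl | h1
  · exact ⟨1, key 1 M24.one_mem tab_one, tab_one, rfl⟩
  · obtain ⟨σ, hσ, ht, hlen⟩ := goodTabs_k0All l h1
    exact ⟨σ, key σ hσ ht, ht, hlen⟩

def k0PropCert : List (ℕ × ℕ × ℕ) := [(5279, 21116, 12), (5279, 115766, 10), (5279, 5279, 7), (10558, 42232, 13), (10558, 133817, 11), (10558, 10558, 8), (18147, 36294, 6), (18147, 18147, 9), (36294, 36294, 15), (69395, 69395, 16), (262637, 262637, 18), (525274, 525274, 19), (1050548, 1050548, 20), (2101096, 2101096, 21), (4196943, 4196943, 22)]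

theorem k0PropCert_ok : propOK k0PropCert 8536127 = true := by decide +kernel

theorem k0_stab_eq_bot : stabIn (octFix O0) (pt 4) = ⊥ := by
  rw [eq_bot_iff]
  intro g hg
  rw [mem_stabIn, mem_octFix] at hg
  rw [Subgroup.mem_bot]
  apply eq_one_of_propOK hg.1.1 k0PropCert 8536127 k0PropCert_ok
  intro p hp
  have : ofMask 8536127 = O0 ∪ {pt 4} := by
    have : (8536127 : ℕ) = Nat.lor baseOct (Nat.shiftLeft 1 4) := by decide
    rw [this, ofMask_lor, ofMask_single 4 (by norm_num)]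
  rw [this, Finset.mem_union, Finset.mem_singleton] at hp
  rcases hp with hp | rfl
  · exact hg.1.2 p hp
  · exact hg.2

theorem k0_image_not_mem {g : Equiv.Perm GolayPt} (hg : g ∈ octFix O0) {p : GolayPt}
    (hp : p ∉ O0) : g p ∉ O0 := by
  intro h
  rw [mem_octFix] at hg
  have := hg.2 _ h
  exact hp (g.injective this ▸ h)

theorem k0_targets : ∀ q < 24, baseOct.testBit q = false → ∃ l ∈ k0Tabs, l.getD 4 0 = q := by
  decide +kernel

/-- Every element of the pointwise stabiliser of the base octad is tabulated in `k0Tabs`. -/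
theorem k0_elem {g : Equiv.Perm GolayPt} (hg : g ∈ octFix O0) : ∃ l ∈ k0Tabs, Tab g l := by
  have h4 : pt 4 ∉ O0 := by decide +kernel
  have hq := k0_image_not_mem hg h4
  rw [mem_ofMask] at hq
  obtain ⟨l, hl, hl4⟩ := k0_targets (idx (g (pt 4))) (idx_lt _) (by simpa using hq)
  obtain ⟨σ, hσ, ht, _⟩ := goodTabs_k0 l hl
  refine ⟨l, hl, ?_⟩
  have hσ4 : σ (pt 4) = g (pt 4) := by
    rw [ht.apply 4 (by norm_num), hl4, pt_idx]
  have : σ⁻¹ * g ∈ stabIn (octFix O0) (pt 4) := by
    rw [mem_stabIn]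
    refine ⟨Subgroup.mul_mem _ (Subgroup.inv_mem _ hσ) hg, ?_⟩
    rw [Equiv.Perm.mul_apply, ← hσ4]
    simp
  rw [k0_stab_eq_bot, Subgroup.mem_bot, inv_mul_eq_one] at this
  rw [← this]
  exact ht

theorem k0_sq : ∀ l ∈ k0Tabs, mulTab l l = idTab := by decide +kernel

theorem k0_mul_self {g : Equiv.Perm GolayPt} (hg : g ∈ octFix O0) : g * g = 1 := by
  obtain ⟨l, hl, ht⟩ := k0_elem hg
  obtain ⟨_, _, _, hlen⟩ := goodTabs_k0 l hl
  apply tab_idTab_eq_one
  rw [← k0_sq l hl]
  exact ht.mul ht hlen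

theorem card_k0 : Nat.card ↥(octFix O0) = 16 := by
  have h := card_eq_mul_of_orbit (octFix O0) (pt 4) (O0ᶜ) (by
    intro q
    rw [Finset.mem_compl]
    constructor
    · intro hq
      rw [mem_ofMask] at hq
      obtain ⟨l, hl, hl4⟩ := k0_targets (idx q) (idx_lt _) (by simpa using hq)
      obtain ⟨σ, hσ, ht, _⟩ := goodTabs_k0 l hl
      exact ⟨σ, hσ, by rw [ht.apply 4 (by norm_num), hl4, pt_idx]⟩
    · rintro ⟨g, hg, rfl⟩
      exact k0_image_not_mem hg (by decide +kernel))
  rw [k0_stab_eq_bot, Subgroup.card_bot] at h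
  rw [h]
  have : (O0ᶜ).card = 16 := by decide +kernel
  rw [this]

theorem octFix_conj (o : Finset GolayPt) {h : Equiv.Perm GolayPt} (hh : h ∈ M24) :
    (octFix o).map (MulAut.conj h).toMonoidHom = octFix (h • o) := by
  ext g
  rw [Subgroup.mem_map, mem_octFix]
  constructor
  · rintro ⟨x, hx, rfl⟩
    rw [mem_octFix] at hx
    refine ⟨?_, ?_⟩
    · show h * x * h⁻¹ ∈ M24
      exact M24.mul_mem (M24.mul_mem hh hx.1) (M24.inv_mem hh)
    · intro p hp
      rw [smul_finset_eq, Finset.mem_image] at hp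
      obtain ⟨y, hy, rfl⟩ := hp
      show (h * x * h⁻¹) (h y) = h y
      simp only [Equiv.Perm.mul_apply]
      have : h⁻¹ (h y) = y := by simp
      rw [this, hx.2 y hy]
  · rintro ⟨h1, h2⟩
    refine ⟨h⁻¹ * g * h, ?_, ?_⟩
    · rw [mem_octFix]
      refine ⟨M24.mul_mem (M24.mul_mem (M24.inv_mem hh) h1) hh, ?_⟩
      intro p hp
      simp only [Equiv.Perm.mul_apply]
      rw [h2 (h p) (by rw [smul_finset_eq]; exact Finset.mem_image_of_mem _ hp)]
      simp
    · show h * (h⁻¹ * g * h) * h⁻¹ = g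
      group

/-- The pointwise stabiliser of an octad has order 16 and exponent 2. -/
theorem octFix_spec {o : Finset GolayPt} (ho : o ∈ octads) :
    Nat.card ↥(octFix o) = 16 ∧ ∀ g ∈ octFix o, g * g = 1 := by
  obtain ⟨h, hh, rfl⟩ := octad_trans O0_mem ho
  rw [← octFix_conj O0 hh]
  constructor
  · rw [← card_k0]
    exact (Nat.card_congr ((octFix O0).equivMapOfInjective _
      (MulAut.conj h).injective).toEquiv).symm
  · intro g hg
    rw [Subgroup.mem_map] at hg
    obtain ⟨x, hx, rfl⟩ := hg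
    rw [← map_mul, k0_mul_self hx, map_one]

end Cfsg.Agent.Helper7
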