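import Cfsg.Agent.Lib.Helper7.HS100

/-!
# The Higman-Sims configuration: rank 3 with subdegrees 1, 22, 77
-/

set_option autoImplicit false

namespace Cfsg.Agent.Helper7
open Cfsg Cfsg.Agent.Helper91

/-- the points at inner product 8 from `x` -/
def A22 (v w x : leechLattice) : Set leechLattice :=
  {y | y ∈ X100 v w ∧ dotInt x.1 y.1 = 8}

/-- the other points different from `x` -/
def A77 (v w x : leechLattice) : Set leechLattice :=
  {y | y ∈ X100 v w ∧ y ≠ x ∧ dotInt x.1 y.1 ≠ 8}

theorem A22_map (k : Equiv.Perm leechLattice) (hk : k ∈ Co0) (v w x y : leechLattice)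
    (hy : y ∈ A22 v w x) : k y ∈ A22 (k v) (k w) (k x) :=
  ⟨X100_map k hk v w y hy.1, by rw [co0_dot k hk]; exact hy.2⟩

theorem A77_map (k : Equiv.Perm leechLattice) (hk : k ∈ Co0) (v w x y : leechLattice)
    (hy : y ∈ A77 v w x) : k y ∈ A77 (k v) (k w) (k x) :=
  ⟨X100_map k hk v w y hy.1, fun h => hy.2.1 (k.injective h), by rw [co0_dot k hk]; exact hy.2.2⟩

theorem ncard_A22_map (k : Equiv.Perm leechLattice) (hk : k ∈ Co0) (v w x : leechLattice) :
    (A22 (k v) (k w) (k x)).ncard = (A22 v w x).ncard := by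
  symm
  apply Set.ncard_congr (fun y _ => k y)
  · intro y hy
    exact A22_map k hk v w x y hy
  · intro a b _ _ hab
    exact k.injective hab
  · intro y hy
    refine ⟨k⁻¹ y, ?_, by simp⟩
    have := A22_map k⁻¹ (Co0.inv_mem hk) (k v) (k w) (k x) y hy
    simpa using this

theorem ncard_A77_map (k : Equiv.Perm leechLattice) (hk : k ∈ Co0) (v w x : leechLattice) :
    (A77 (k v) (k w) (k x)).ncard = (A77 v w x).ncard := by
  symm
  apply Set.ncard_congr (fun y _ => k y)
  · intro y hy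
    exact A77_map k hk v w x y hy
  · intro a b _ _ hab
    exact k.injective hab
  · intro y hy
    refine ⟨k⁻¹ y, ?_, by simp⟩
    have := A77_map k⁻¹ (Co0.inv_mem hk) (k v) (k w) (k x) y hy
    simpa using this

/-! ### The base configuration -/

theorem x100_mem : x100 ∈ X100 u40 w40 :=
  ⟨by decide +kernel, by decide +kernel, by decide +kernel⟩

theorem sqNorm_x100 : sqNorm x100.1 = 32 := x100_mem.1

set_option maxRecDepth 1000000 in
theorem count22 : (out100.filter fun c => decide (dotC x100L c = 8)).length = 22 := by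
  decide +kernel

set_option maxRecDepth 1000000 in
theorem count77 : (out100.filter fun c =>
    !decide (c = codeV x100L) && !decide (dotC x100L c = 8)).length = 77 := by
  decide +kernel

theorem dot_enum100 {Y : ℕ → leechLattice} (hY : EnumOK [u40, w40] x100 (X100 u40 w40) out100 Y)
    (c : ℕ) (hc : c ∈ out100) : dotInt x100.1 (Y c).1 = dotC x100L c := by
  obtain ⟨v, hv, hvc⟩ := hY.code c hc
  have hn : sqNorm (Y c).1 < 1024 := by rw [(hY.mem c hc).1]; norm_num
  rw [dotInt_eq_dotC (w := x100) rfl hv hn, hvc]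

theorem eq_x100_iff {Y : ℕ → leechLattice}
    (hY : EnumOK [u40, w40] x100 (X100 u40 w40) out100 Y)
    (c : ℕ) (hc : c ∈ out100) : Y c = x100 ↔ c = codeV x100L := by
  constructor
  · intro h
    exact hY.code_eq c hc x100L (by rw [h]; rfl)
  · intro h
    obtain ⟨v, hv, hvc⟩ := hY.code c hc
    have hn : sqNorm (Y c).1 < 1024 := by rw [(hY.mem c hc).1]; norm_num
    have hn' : sqNorm x100.1 < 1024 := by rw [sqNorm_x100]; norm_num
    apply Subtype.ext
    rw [hv]
    exact vecOf_eq_of_codeV (bounded_of_norm hv hn) (bounded_of_norm (x := x100) rfl hn')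
      (hvc.trans h)

theorem ncard_A22_base : (A22 u40 w40 x100).ncard = 22 := by
  obtain ⟨Y, hY⟩ := enum100
  rw [← count22, ← hY.ncard_filter (fun y => dotInt x100.1 y.1 = 8)
    (fun c => decide (dotC x100L c = 8))]
  · rfl
  · intro c hc
    rw [dot_enum100 hY c hc, decide_eq_true_eq]

theorem ncard_A77_base : (A77 u40 w40 x100).ncard = 77 := by
  obtain ⟨Y, hY⟩ := enum100
  rw [← count77, ← hY.ncard_filter (fun y => y ≠ x100 ∧ dotInt x100.1 y.1 ≠ 8)
    (fun c => !decide (c = codeV x100L) && !decide (dotC x100L c = 8))]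
  · rfl
  · intro c hc
    rw [dot_enum100 hY c hc, Ne, eq_x100_iff hY c hc]
    simp

/-! ### Transitivity of the stabiliser of the base triple -/

theorem y22L_mem : vecOf y22L ∈ leechLattice := vecOf_mem y22L 1 13062145 (by decide +kernel)

theorem y77L_mem : vecOf y77L ∈ leechLattice := vecOf_mem y77L 1 8983587 (by decide +kernel)

/-- roots of the two orbits -/
def y22 : leechLattice := ⟨vecOf y22L, y22L_mem⟩
def y77 : leechLattice := ⟨vecOf y77L, y77L_mem⟩

/-- the codes of the two orbits -/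
def out22 : List ℕ := dfsN actsM22 (codeV y22L) cert22 [] [codeV y22L]
def out77 : List ℕ := dfsN actsM22 (codeV y77L) cert77 [] [codeV y77L]

set_option maxRecDepth 1000000 in
theorem len22 : out22.length = 22 := by decide +kernel

set_option maxRecDepth 1000000 in
theorem sort22 : nodupCheck out22 idx22 = true := by decide +kernel

set_option maxRecDepth 1000000 in
theorem len77 : out77.length = 77 := by decide +kernel

set_option maxRecDepth 1000000 in
theorem sort77 : nodupCheck out77 idx77 = true := by decide +kernel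

set_option maxRecDepth 1000000 in
theorem goodActsM22 : GoodActs ([u40L, w40L, x100L].map codeV) actsM22 := by
  intro a ha
  simp only [actsM22, List.mem_cons, List.not_mem_nil, or_false] at ha
  rcases ha with rfl | rfl
  · exact ⟨goodActN_word goodActsX _, by decide +kernel⟩
  · exact ⟨goodActN_word goodActsX _, by decide +kernel⟩

theorem baseOK3 : BaseOK [u40, w40, x100] [u40L, w40L, x100L] :=
  List.Forall₂.cons ⟨rfl, by rw [sqNorm_u40]; norm_num⟩
    (List.Forall₂.cons ⟨rfl, by rw [sqNorm_w40]; norm_num⟩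
      (List.Forall₂.cons ⟨rfl, by rw [sqNorm_x100]; norm_num⟩ List.Forall₂.nil))

theorem fix3 {g : Equiv.Perm leechLattice} (hgu : ∀ u ∈ [u40, w40, x100], g u = u) :
    g u40 = u40 ∧ g w40 = w40 ∧ g x100 = x100 :=
  ⟨hgu _ List.mem_cons_self, hgu _ (List.mem_cons_of_mem _ List.mem_cons_self),
    hgu _ (List.mem_cons_of_mem _ (List.mem_cons_of_mem _ List.mem_cons_self))⟩

theorem enum22 : ∃ Y : ℕ → leechLattice,
    EnumOK [u40, w40, x100] y22 (A22 u40 w40 x100) out22 Y := by
  apply orbit_enum baseOK3 goodActsM22 y22 _ y22L rfl cert22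
    (A22 u40 w40 x100) 22 (by norm_num) ncard_A22_base _ _ len22 idx22 sort22
  · have : sqNorm y22.1 = 32 := by decide +kernel
    rw [this]; norm_num
  · exact ⟨⟨by decide +kernel, by decide +kernel, by decide +kernel⟩, by decide +kernel⟩
  · intro g hg hgu y hy
    obtain ⟨h1, h2, h3⟩ := fix3 hgu
    have := A22_map g hg u40 w40 x100 y hy
    rwa [h1, h2, h3] at this

theorem enum77 : ∃ Y : ℕ → leechLattice,
    EnumOK [u40, w40, x100] y77 (A77 u40 w40 x100) out77 Y := by
  apply orbit_enum baseOK3 goodActsM22 y77 _ y77L rfl cert77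
    (A77 u40 w40 x100) 77 (by norm_num) ncard_A77_base _ _ len77 idx77 sort77
  · have : sqNorm y77.1 = 32 := by decide +kernel
    rw [this]; norm_num
  · refine ⟨⟨by decide +kernel, by decide +kernel, by decide +kernel⟩, ?_, by decide +kernel⟩
    intro h
    have h1 : dotInt x100.1 y77.1 = dotInt x100.1 x100.1 := by rw [h]
    have h2 : dotInt x100.1 y77.1 = 16 := by decide +kernel
    have h3 : dotInt x100.1 x100.1 = 32 := by decide +kernel
    omega
  · intro g hg hgu y hy
    obtain ⟨h1, h2, h3⟩ := fix3 hgu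
    have := A77_map g hg u40 w40 x100 y hy
    rwa [h1, h2, h3] at this

/-- The configuration has rank 3 with subdegrees 1, 22, 77. -/
theorem rank3_100 (v w x : leechLattice) (hv : sqNorm v.1 = 48) (hw : sqNorm w.1 = 48)
    (hvw : dotInt v.1 w.1 = -32) (hx : x ∈ X100 v w) :
    (A22 v w x).ncard = 22 ∧ (A77 v w x).ncard = 77 ∧
    (∀ y ∈ A22 v w x, ∀ y' ∈ A22 v w x, ∃ g : Equiv.Perm leechLattice, g ∈ Co0 ∧ g v = v ∧
      g w = w ∧ g x = x ∧ g y = y') ∧
    (∀ y ∈ A77 v w x, ∀ y' ∈ A77 v w x, ∃ g : Equiv.Perm leechLattice, g ∈ Co0 ∧ g v = v ∧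
      g w = w ∧ g x = x ∧ g y = y') := by
  obtain ⟨k0, hk0, hk0v, hk0w⟩ :=
    pair_trans48 u40 w40 v w sqNorm_u40 sqNorm_w40 dot_u40_w40 hv hw hvw
  have hk0x : k0 x100 ∈ X100 v w := by
    have := X100_map k0 hk0 u40 w40 x100 x100_mem
    rwa [hk0v, hk0w] at this
  obtain ⟨g0, hg0, hg0v, hg0w, hg0x⟩ := (trans100 v w hv hw hvw).2 _ hk0x x hx
  -- the automorphism carrying the base triple to the given one
  set k := g0 * k0 with hkdef
  have hk : k ∈ Co0 := Co0.mul_mem hg0 hk0
  have hkv : k u40 = v := by rw [hkdef, Equiv.Perm.mul_apply, hk0v, hg0v]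
  have hkw : k w40 = w := by rw [hkdef, Equiv.Perm.mul_apply, hk0w, hg0w]
  have hkx : k x100 = x := by rw [hkdef, Equiv.Perm.mul_apply, hg0x]
  have hkinv : k⁻¹ ∈ Co0 := Co0.inv_mem hk
  have e1 : k⁻¹ v = u40 := by rw [← hkv]; simp
  have e2 : k⁻¹ w = w40 := by rw [← hkw]; simp
  have e3 : k⁻¹ x = x100 := by rw [← hkx]; simp
  have conj : ∀ g : Equiv.Perm leechLattice, g ∈ Co0 → (∀ u ∈ [u40, w40, x100], g u = u) →
      ∀ y y' : leechLattice, g (k⁻¹ y) = k⁻¹ y' →
      ∃ g' : Equiv.Perm leechLattice, g' ∈ Co0 ∧ g' v = v ∧ g' w = w ∧ g' x = x ∧ g' y = y' := by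
    intro g hg hgu y y' hgy
    obtain ⟨h1, h2, h3⟩ := fix3 hgu
    refine ⟨k * g * k⁻¹, Co0.mul_mem (Co0.mul_mem hk hg) hkinv, ?_, ?_, ?_, ?_⟩
    · simp only [Equiv.Perm.mul_apply]; rw [e1, h1, hkv]
    · simp only [Equiv.Perm.mul_apply]; rw [e2, h2, hkw]
    · simp only [Equiv.Perm.mul_apply]; rw [e3, h3, hkx]
    · simp only [Equiv.Perm.mul_apply]; rw [hgy]; simp
  refine ⟨?_, ?_, ?_, ?_⟩
  · rw [← hkv, ← hkw, ← hkx, ncard_A22_map k hk, ncard_A22_base]
  · rw [← hkv, ← hkw, ← hkx, ncard_A77_map k hk, ncard_A77_base]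
  · intro y hy y' hy'
    have h1 := A22_map k⁻¹ hkinv v w x y hy
    have h2 := A22_map k⁻¹ hkinv v w x y' hy'
    rw [e1, e2, e3] at h1 h2
    obtain ⟨Y, hY⟩ := enum22
    obtain ⟨g, hg, hgu, hgy⟩ := hY.trans _ _ h1 h2
    exact conj g hg hgu y y' hgy
  · intro y hy y' hy'
    have h1 := A77_map k⁻¹ hkinv v w x y hy
    have h2 := A77_map k⁻¹ hkinv v w x y' hy'
    rw [e1, e2, e3] at h1 h2
    obtain ⟨Y, hY⟩ := enum77
    obtain ⟨g, hg, hgu, hgy⟩ := hY.trans _ _ h1 h2
    exact conj g hg hgu y y' hgy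

end Cfsg.Agent.Helper7
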