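import Cfsg.Agent.Lib.Helper7.OctStabData
import Cfsg.Agent.Lib.Helper7.K0
import Cfsg.Agent.Lib.Helper92.Monomial

/-!
# The stabiliser of the base octad: transitivity on the points of the octad and on pairs of
points outside it
-/

set_option autoImplicit false

namespace Cfsg.Agent.Helper7
open Cfsg
open scoped Pointwise

/-- the setwise stabiliser of the base octad in `M24` -/
def octStab : Subgroup (Equiv.Perm GolayPt) :=
  M24 ⊓ MulAction.stabilizer (Equiv.Perm GolayPt) O0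

theorem mem_octStab {g : Equiv.Perm GolayPt} : g ∈ octStab ↔ g ∈ M24 ∧ g • O0 = O0 := by
  unfold octStab
  exact ⟨fun h => ⟨h.1, MulAction.mem_stabilizer_iff.mp h.2⟩,
    fun h => ⟨h.1, MulAction.mem_stabilizer_iff.mpr h.2⟩⟩

theorem osTabs_sub : ∀ l ∈ osTabs, l ∈ slpTabs osProg m24InitTabs := by
  decide +kernel

theorem goodTabs_os_M24 : GoodTabs M24 osTabs :=
  (goodTabs_slp osProg _ (goodTabs_init M24 shift_mem projInv_mem cubeTwist_mem)).subset osTabs_sub

theorem osTabs_fix : ∀ l ∈ osTabs, permMask l baseOct = baseOct := by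
  decide +kernel

theorem goodTabs_os : GoodTabs octStab osTabs := by
  intro l hl
  obtain ⟨σ, hσ, ht, hlen⟩ := goodTabs_os_M24 l hl
  refine ⟨σ, mem_octStab.mpr ⟨hσ, ?_⟩, ht, hlen⟩
  rw [smul_ofMask ht, osTabs_fix l hl]

theorem wordPt_reach2 {H : Subgroup (Equiv.Perm GolayPt)} {tabs : List (List ℕ)}
    (hT : GoodTabs H tabs) (w : List ℕ) (r r' : ℕ) (hr : r < 24) (hr' : r' < 24) :
    ∃ g ∈ H, g (pt r) = pt (wordPt tabs w r) ∧ g (pt r') = pt (wordPt tabs w r') := by
  induction w generalizing r r' with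
  | nil => exact ⟨1, H.one_mem, rfl, rfl⟩
  | cons j w ih =>
    obtain ⟨σ, hσ, ht, _⟩ := hT.getD j
    obtain ⟨g, hg, hgr, hgr'⟩ := ih _ _ (ht.lt r hr) (ht.lt r' hr')
    refine ⟨g * σ, H.mul_mem hg hσ, ?_, ?_⟩
    · rw [Equiv.Perm.mul_apply, ht.apply r hr, hgr]; rfl
    · rw [Equiv.Perm.mul_apply, ht.apply r' hr', hgr']; rfl

theorem os_pairs : osWords.map (fun w => (wordPt osTabs w 4, wordPt osTabs w 6)) = osTargets := by
  decide +kernel

theorem os_targets_check : (List.range 24).all (fun p => (List.range 24).all (fun q =>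
    Nat.beq p q || baseOct.testBit p || baseOct.testBit q || osTargets.contains (p, q))) = true := by
  decide +kernel

theorem os_targets_all (p : ℕ) (hp : p < 24) (q : ℕ) (hq : q < 24) (hpq : p ≠ q)
    (h1 : baseOct.testBit p = false) (h2 : baseOct.testBit q = false) : (p, q) ∈ osTargets := by
  have h := os_targets_check
  rw [List.all_eq_true] at h
  have h' := h p (List.mem_range.mpr hp)
  rw [List.all_eq_true] at h'
  have h'' := h' q (List.mem_range.mpr hq)
  have hb : Nat.beq p q = false := by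
    rw [← Bool.not_eq_true, Nat.beq_eq]; exact hpq
  rw [hb, h1, h2] at h''
  simpa using h''

theorem os_points : osWords0.map (fun w => wordPt osTabs w 0) = osTargets0 := by
  decide +kernel

theorem os_targets0_all : ∀ p < 24, baseOct.testBit p = true → p ∈ osTargets0 := by
  decide +kernel

/-- the stabiliser of the base octad is doubly transitive on the outside points -/
theorem octStab_two_trans (p q : GolayPt) (hp : p ∉ O0) (hq : q ∉ O0) (hpq : p ≠ q) :
    ∃ g ∈ M24, g • O0 = O0 ∧ g (pt 4) = p ∧ g (pt 6) = q := by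
  rw [mem_ofMask] at hp hq
  have hne : idx p ≠ idx q := fun h => hpq (idx_injective h)
  have hmem := os_targets_all (idx p) (idx_lt p) (idx q) (idx_lt q) hne (by simpa using hp)
    (by simpa using hq)
  rw [← os_pairs, List.mem_map] at hmem
  obtain ⟨w, _, hw⟩ := hmem
  obtain ⟨g, hg, h1, h2⟩ := wordPt_reach2 goodTabs_os w 4 6 (by norm_num) (by norm_num)
  rw [mem_octStab] at hg
  have e1 : wordPt osTabs w 4 = idx p := congrArg Prod.fst hw
  have e2 : wordPt osTabs w 6 = idx q := congrArg Prod.snd hw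
  refine ⟨g, hg.1, hg.2, ?_, ?_⟩
  · rw [h1, e1, pt_idx]
  · rw [h2, e2, pt_idx]

/-- the stabiliser of the base octad is transitive on its points -/
theorem octStab_trans_in (p : GolayPt) (hp : p ∈ O0) :
    ∃ g ∈ M24, g • O0 = O0 ∧ g (pt 0) = p := by
  rw [mem_ofMask] at hp
  have hmem := os_targets0_all (idx p) (idx_lt p) hp
  rw [← os_points, List.mem_map] at hmem
  obtain ⟨w, _, hw⟩ := hmem
  obtain ⟨_, g, hg, h1⟩ := wordPt_reach goodTabs_os w 0 (by norm_num)
  rw [mem_octStab] at hg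
  refine ⟨g, hg.1, hg.2, ?_⟩
  rw [h1, hw, pt_idx]

/-- `M24` is transitive on octads with two marked outside points -/
theorem octad_two_trans {O : Finset GolayPt} (hO : O ∈ octads) (p q : GolayPt) (hp : p ∉ O)
    (hq : q ∉ O) (hpq : p ≠ q) :
    ∃ σ ∈ M24, σ • O0 = O ∧ σ (pt 4) = p ∧ σ (pt 6) = q := by
  obtain ⟨σ1, hσ1, hσ1O⟩ := octad_trans O0_mem hO
  have hmem : ∀ r, σ1.symm r ∈ O0 ↔ r ∈ O := by
    intro r
    rw [← hσ1O, Cfsg.Agent.Helper92.mem_smul_iff]
  obtain ⟨g, hg, hgO, hg4, hg6⟩ := octStab_two_trans (σ1.symm p) (σ1.symm q)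
    (fun h => hp ((hmem p).mp h)) (fun h => hq ((hmem q).mp h))
    (fun h => hpq (σ1.symm.injective h))
  refine ⟨σ1 * g, M24.mul_mem hσ1 hg, ?_, ?_, ?_⟩
  · rw [mul_smul, hgO, hσ1O]
  · rw [Equiv.Perm.mul_apply, hg4, Equiv.apply_symm_apply]
  · rw [Equiv.Perm.mul_apply, hg6, Equiv.apply_symm_apply]

/-- `M24` is transitive on octads with a marked point -/
theorem octad_flag_trans {O : Finset GolayPt} (hO : O ∈ octads) (p : GolayPt) (hp : p ∈ O) :
    ∃ σ ∈ M24, σ • O0 = O ∧ σ (pt 0) = p := by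
  obtain ⟨σ1, hσ1, hσ1O⟩ := octad_trans O0_mem hO
  have hmem : ∀ r, σ1.symm r ∈ O0 ↔ r ∈ O := by
    intro r
    rw [← hσ1O, Cfsg.Agent.Helper92.mem_smul_iff]
  obtain ⟨g, hg, hgO, hg0⟩ := octStab_trans_in (σ1.symm p) ((hmem p).mpr hp)
  refine ⟨σ1 * g, M24.mul_mem hσ1 hg, ?_, ?_⟩
  · rw [mul_smul, hgO, hσ1O]
  · rw [Equiv.Perm.mul_apply, hg0, Equiv.apply_symm_apply]

end Cfsg.Agent.Helper7
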