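import Mathlib

set_option autoImplicit false

/-!
# S3793 (Shult–Gross) piece (NT) for helper31: a Fermat-type number-theoretic lemma
-/

namespace Cfsg.Agent.Helper7.SG

/-- If `2 ^ b + 1 ∣ 2 ^ D - 1` with `1 ≤ D`, `1 ≤ b`, then `2 * b ∣ D`. -/
theorem sg_two_b_dvd {b D : ℕ} (hb : 1 ≤ b) (hD : 1 ≤ D) (h : 2 ^ b + 1 ∣ 2 ^ D - 1) :
    2 * b ∣ D := by
  -- work in `ZMod (2 ^ b + 1)`
  set m := 2 ^ b + 1 with hm
  have hm2 : 2 < m := by
    have : 2 ^ 1 ≤ 2 ^ b := Nat.pow_le_pow_right (by norm_num) hb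
    omega
  have : NeZero m := ⟨by omega⟩
  have : Fact (1 < m) := ⟨by omega⟩
  have hpowD : (2 : ZMod m) ^ D = 1 := by
    have h1 : ((2 ^ D - 1 : ℕ) : ZMod m) = 0 := (ZMod.natCast_eq_zero_iff _ _).mpr h
    have h2 : 1 ≤ 2 ^ D := Nat.one_le_two_pow
    rw [Nat.cast_sub h2] at h1
    push_cast at h1
    exact sub_eq_zero.mp h1
  have hpowb : (2 : ZMod m) ^ b = -1 := by
    have h1 : ((2 ^ b + 1 : ℕ) : ZMod m) = 0 := (ZMod.natCast_eq_zero_iff _ _).mpr dvd_rfl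
    push_cast at h1
    exact eq_neg_of_add_eq_zero_left h1
  have hpow2b : (2 : ZMod m) ^ (2 * b) = 1 := by
    rw [mul_comm, pow_mul, hpowb]; norm_num
  set e := orderOf (2 : ZMod m) with he
  have he2b : e ∣ 2 * b := orderOf_dvd_of_pow_eq_one hpow2b
  have heD : e ∣ D := orderOf_dvd_of_pow_eq_one hpowD
  have hepos : 0 < e := by
    apply orderOf_pos_iff.mpr
    exact isOfFinOrder_iff_pow_eq_one.mpr ⟨D, hD, hpowD⟩
  -- `e > b`: otherwise `m ∣ 2 ^ e - 1 < m`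
  have heb : b < e := by
    by_contra hle
    rw [not_lt] at hle
    have h1 : (2 : ZMod m) ^ e = 1 := pow_orderOf_eq_one _
    have h2 : ((2 ^ e - 1 : ℕ) : ZMod m) = 0 := by
      rw [Nat.cast_sub Nat.one_le_two_pow]; push_cast; rw [h1]; simp
    have h3 : m ∣ 2 ^ e - 1 := (ZMod.natCast_eq_zero_iff _ _).mp h2
    have h4 : 2 ^ e ≤ 2 ^ b := Nat.pow_le_pow_right (by norm_num) hle
    have h5 : 2 ≤ 2 ^ e := by
      calc 2 = 2 ^ 1 := by norm_num
        _ ≤ 2 ^ e := Nat.pow_le_pow_right (by norm_num) hepos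
    have h6 : 0 < 2 ^ e - 1 := by omega
    have h7 := Nat.le_of_dvd h6 h3
    omega
  -- a divisor of `2 b` exceeding `b` is `2 b`
  obtain ⟨c, hc⟩ := he2b
  have hc1 : c = 1 := by
    rcases c with _ | _ | c
    · simp at hc; omega
    · rfl
    · exfalso
      have : 2 * b = e * (c + 2) := hc
      nlinarith
  rw [hc1, mul_one] at hc
  rw [hc]; exact heD

/-- (NT) number theory: `p` odd, `p ^ n' = 2 ^ b + 1` (so the order of `2` mod `p ^ n'` is `2 b`),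
`p ^ N ∣ 2 ^ D - 1` with `N ≥ n'`, `D ≥ 1`; then `2 b p ^ (N - n') ∣ D`. -/
theorem sg_nt {p : ℕ} (hp : p.Prime) (hp2 : p ≠ 2) {n' b N D : ℕ}
    (hpb : p ^ n' = 2 ^ b + 1) (hN : n' ≤ N) (hD : 1 ≤ D) (hdvd : p ^ N ∣ 2 ^ D - 1) :
    2 * b * p ^ (N - n') ∣ D := by
  have : Fact p.Prime := ⟨hp⟩
  have hodd : Odd p := hp.odd_of_ne_two hp2
  have hp3 : 3 ≤ p := by
    have := hp.two_le
    omega
  -- `n' ≥ 1` and `b ≥ 1`
  have hn' : 1 ≤ n' := by
    rcases Nat.eq_zero_or_pos n' with h0 | h0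
    · exfalso
      rw [h0, pow_zero] at hpb
      have : 1 ≤ 2 ^ b := Nat.one_le_two_pow
      omega
    · exact h0
  have hb : 1 ≤ b := by
    rcases Nat.eq_zero_or_pos b with h0 | h0
    · exfalso
      rw [h0, pow_zero] at hpb
      have h2 : p ^ n' = 2 := by omega
      have h3 : p ∣ 2 := by
        rw [← h2]; exact dvd_pow_self p (by omega)
      have h4 := (Nat.prime_dvd_prime_iff_eq hp Nat.prime_two).mp h3
      exact hp2 h4
    · exact h0
  -- `2 b ∣ D`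
  have hmD : 2 ^ b + 1 ∣ 2 ^ D - 1 := by
    rw [← hpb]
    exact (pow_dvd_pow p hN).trans hdvd
  obtain ⟨k, hk⟩ := sg_two_b_dvd hb hD hmD
  have hk0 : k ≠ 0 := by
    rintro rfl
    simp at hk
    omega
  -- LTE
  have hx : (1 : ℕ) < 2 ^ (2 * b) := by
    calc (1 : ℕ) < 2 ^ 1 := by norm_num
      _ ≤ 2 ^ (2 * b) := Nat.pow_le_pow_right (by norm_num) (by omega)
  have hfac : 2 ^ (2 * b) - 1 = (2 ^ b - 1) * (2 ^ b + 1) := by
    have h1 : 1 ≤ 2 ^ b := Nat.one_le_two_pow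
    have : 2 ^ (2 * b) = 2 ^ b * 2 ^ b := by rw [two_mul, pow_add]
    rw [this]
    zify [h1, Nat.one_le_two_pow (n := b), Nat.mul_le_mul h1 h1]
    ring
  have hpdvd : p ∣ 2 ^ (2 * b) - 1 := by
    rw [hfac, ← hpb]
    exact Dvd.dvd.mul_left (dvd_pow_self p (by omega)) _
  have hpx : ¬ p ∣ 2 ^ (2 * b) := by
    intro h
    have := hp.dvd_of_dvd_pow h
    have h4 := (Nat.prime_dvd_prime_iff_eq hp Nat.prime_two).mp this
    exact hp2 h4
  have hLTE := padicValNat.pow_sub_pow (p := p) hodd (x := 2 ^ (2 * b)) (y := 1) hx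
    (by simpa using hpdvd) hpx hk0
  rw [one_pow, ← pow_mul, ← hk] at hLTE
  -- `v_p (2 ^ (2 b) - 1) = n'`
  have hcop : ¬ p ∣ 2 ^ b - 1 := by
    intro h
    have h1 : p ∣ 2 ^ b + 1 := by rw [← hpb]; exact dvd_pow_self p (by omega)
    have h2 : 2 ≤ 2 ^ b := by
      calc 2 = 2 ^ 1 := by norm_num
        _ ≤ 2 ^ b := Nat.pow_le_pow_right (by norm_num) hb
    have h3 : p ∣ (2 ^ b + 1) - (2 ^ b - 1) := Nat.dvd_sub h1 h
    have h4 : (2 ^ b + 1) - (2 ^ b - 1) = 2 := by omega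
    rw [h4] at h3
    have h5 := (Nat.prime_dvd_prime_iff_eq hp Nat.prime_two).mp h3
    exact hp2 h5
  have hv : padicValNat p (2 ^ (2 * b) - 1) = n' := by
    have h2 : 2 ≤ 2 ^ b := by
      calc 2 = 2 ^ 1 := by norm_num
        _ ≤ 2 ^ b := Nat.pow_le_pow_right (by norm_num) hb
    rw [hfac, padicValNat.mul (by omega) (by omega), ← hpb, padicValNat.prime_pow,
      padicValNat.eq_zero_of_not_dvd hcop, zero_add]
  rw [hv] at hLTE
  -- `N ≤ v_p (2 ^ D - 1)`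
  have hne : 2 ^ D - 1 ≠ 0 := by
    have : 2 ≤ 2 ^ D := by
      calc 2 = 2 ^ 1 := by norm_num
        _ ≤ 2 ^ D := Nat.pow_le_pow_right (by norm_num) hD
    omega
  have hNle : N ≤ padicValNat p (2 ^ D - 1) := (padicValNat_dvd_iff_le hne).mp hdvd
  rw [hLTE] at hNle
  have hkv : p ^ (N - n') ∣ k := by
    apply (padicValNat_dvd_iff_le hk0).mpr
    omega
  rw [hk]
  exact Nat.mul_dvd_mul_left _ hkv

end Cfsg.Agent.Helper7.SG
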