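import Mathlib
import Cfsg.Agent.S1017
import Cfsg.Agent.Lib.Helper17.PrimeTIApp

/-!
# O5760 (B3): `R` fixes only the base point of `G ⧸ N_G(⟨x⟩)`
-/

set_option autoImplicit false

namespace Cfsg.Agent.Helper7.O5760

open MulAction

universe u

/-- An element `y` of order 5 normalizing the group generated by an element `x'` of order 3 commutes
with it. -/
theorem commute_of_conj_mem_zpowers {G : Type u} [Group G] (y x' : G) (hy : y ^ 5 = 1)
    (hx' : orderOf x' = 3) (h : y * x' * y⁻¹ ∈ Subgroup.zpowers x') : Commute y x' := by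
  have hx3 : x' ^ 3 = 1 := by rw [← hx']; exact pow_orderOf_eq_one x'
  have hx1 : x' ≠ 1 := by
    intro h1
    rw [h1, orderOf_one] at hx'
    omega
  have hx2 : x' ^ 2 ≠ 1 := by
    intro h2
    have := orderOf_dvd_of_pow_eq_one h2
    rw [hx'] at this
    omega
  rw [Subgroup.mem_zpowers_iff] at h
  obtain ⟨k, hk⟩ := h
  -- reduce k mod 3
  have hk3 : x' ^ k = x' ^ (k % 3) := by
    have := zpow_mod_orderOf x' k
    rw [hx'] at this
    exact_mod_cast this.symm
  rw [hk3] at hk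
  have hmod : 0 ≤ k % 3 ∧ k % 3 < 3 := ⟨Int.emod_nonneg _ (by norm_num), Int.emod_lt_of_pos _ (by norm_num)⟩
  obtain ⟨j, hj⟩ : ∃ j : ℕ, k % 3 = j := ⟨(k % 3).toNat, (Int.toNat_of_nonneg hmod.1).symm⟩
  rw [hj, zpow_natCast] at hk
  have hj3 : j < 3 := by omega
  interval_cases j
  · -- y x' y⁻¹ = 1
    exfalso
    apply hx1
    have : y * x' * y⁻¹ = 1 := by simpa using hk.symm
    have h2 : x' = y⁻¹ * (y * x' * y⁻¹) * y := by group
    rw [h2, this]; group
  · -- commute
    have : y * x' * y⁻¹ = x' := by simpa using hk.symm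
    unfold Commute SemiconjBy
    calc y * x' = (y * x' * y⁻¹) * y := by group
      _ = x' * y := by rw [this]
  · -- y x' y⁻¹ = x'^2
    have h1 : y * x' * y⁻¹ = x' ^ 2 := hk.symm
    -- conj by y^n sends x' to x'^(2^n)
    have hpow : ∀ n : ℕ, y ^ n * x' * (y ^ n)⁻¹ = x' ^ (2 ^ n) := by
      intro n
      induction n with
      | zero => simp
      | succ n ih =>
        have : y ^ (n + 1) * x' * (y ^ (n + 1))⁻¹ = y * (y ^ n * x' * (y ^ n)⁻¹) * y⁻¹ := by
          rw [pow_succ']; group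
        rw [this, ih]
        have h3 : y * x' ^ (2 ^ n) * y⁻¹ = (y * x' * y⁻¹) ^ (2 ^ n) := by
          rw [conj_pow]
        rw [h3, h1, ← pow_mul, pow_succ, mul_comm]
    have h5 := hpow 5
    rw [hy] at h5
    simp only [one_mul, inv_one, mul_one] at h5
    -- x' = x'^32 = x'^2
    have h32 : x' ^ 32 = x' ^ 2 := by
      have : x' ^ 32 = (x' ^ 3) ^ 10 * x' ^ 2 := by rw [← pow_mul, ← pow_add]
      rw [this, hx3, one_pow, one_mul]
    rw [show (2 : ℕ) ^ 5 = 32 by norm_num, h32] at h5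
    exfalso
    apply hx1
    have : x' * x' = x' := by rw [← pow_two]; exact h5.symm
    exact mul_left_cancel (a := x') (by rw [this, mul_one])

theorem fix_R {G : Type u} [Group G] [Finite G] (R : Sylow 5 G) (hR : Nat.card (R : Subgroup G) = 5)
    (x : G) (hx : orderOf x = 3) (hxC : x ∈ Subgroup.centralizer ((R : Subgroup G) : Set G))
    (huniq : ∀ x' ∈ Subgroup.centralizer ((R : Subgroup G) : Set G), orderOf x' = 3 →
      x' ∈ Subgroup.zpowers x)
    (a : G ⧸ Subgroup.normalizer ((Subgroup.zpowers x : Subgroup G) : Set G))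
    (ha : ∀ r ∈ (R : Subgroup G), r • a = a) :
    a = ((1 : G) : G ⧸ Subgroup.normalizer ((Subgroup.zpowers x : Subgroup G) : Set G)) := by
  have hp5 : Fact (Nat.Prime 5) := ⟨by norm_num⟩
  obtain ⟨g, rfl⟩ := QuotientGroup.mk_surjective a
  -- generator of R
  obtain ⟨y, hyR, hy1⟩ := Cfsg.Agent.Helper17.PrimeTI.exists_ne_one_of_prime_card (R : Subgroup G) hR
  obtain ⟨hzy, hy5⟩ := Cfsg.Agent.S1017.zpowers_eq_of_card_prime (R : Subgroup G) hR y hyR hy1
  have hy5' : y ^ 5 = 1 := by rw [← hy5]; exact pow_orderOf_eq_one y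
  -- g⁻¹ y g ∈ M
  have hmem : g⁻¹ * y * g ∈ Subgroup.normalizer ((Subgroup.zpowers x : Subgroup G) : Set G) := by
    have h1 := ha y⁻¹ (inv_mem hyR)
    rw [MulAction.Quotient.smul_mk, QuotientGroup.eq] at h1
    have : (y⁻¹ • g)⁻¹ * g = g⁻¹ * y * g := by simp [smul_eq_mul, mul_assoc]
    rwa [this] at h1
  set x' := g * x * g⁻¹ with hx'def
  have hx'3 : orderOf x' = 3 := by
    rw [hx'def, ← hx, ← MulAut.conj_apply]
    exact (MulAut.conj g).orderOf_eq x
  -- y normalizes zpowers x'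
  have hyx' : y * x' * y⁻¹ ∈ Subgroup.zpowers x' := by
    rw [Subgroup.mem_normalizer_iff] at hmem
    have h1 := (hmem x).1 (Subgroup.mem_zpowers x)
    obtain ⟨k, hk⟩ := Subgroup.mem_zpowers_iff.1 h1
    rw [Subgroup.mem_zpowers_iff]
    refine ⟨k, ?_⟩
    rw [hx'def, conj_zpow, hk]; group
  have hcomm := commute_of_conj_mem_zpowers y x' hy5' hx'3 hyx'
  have hx'C : x' ∈ Subgroup.centralizer ((R : Subgroup G) : Set G) := by
    rw [Subgroup.mem_centralizer_iff]
    intro h hh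
    have hh' : h ∈ Subgroup.zpowers y := by rw [hzy]; exact hh
    obtain ⟨k, rfl⟩ := Subgroup.mem_zpowers_iff.1 hh'
    exact (hcomm.zpow_left k).eq
  have hx'z := huniq x' hx'C hx'3
  have hzz : Subgroup.zpowers x' = Subgroup.zpowers x := by
    apply Subgroup.eq_of_le_of_card_ge (Subgroup.zpowers_le.2 hx'z)
    rw [Nat.card_zpowers, Nat.card_zpowers, hx, hx'3]
  rw [QuotientGroup.eq]
  simp only [mul_one]
  apply inv_mem
  rw [Subgroup.mem_normalizer_iff]
  intro h
  constructor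
  · intro hh
    obtain ⟨k, rfl⟩ := Subgroup.mem_zpowers_iff.1 hh
    have : g * x ^ k * g⁻¹ ∈ Subgroup.zpowers x' := by
      rw [Subgroup.mem_zpowers_iff]
      exact ⟨k, by rw [hx'def, conj_zpow]⟩
    rw [hzz] at this
    exact this
  · intro hh
    have hh2 : g * h * g⁻¹ ∈ Subgroup.zpowers x' := by rw [hzz]; exact hh
    obtain ⟨k, hk⟩ := Subgroup.mem_zpowers_iff.1 hh2
    rw [hx'def, conj_zpow] at hk
    have : h = x ^ k := by
      have h3 : g⁻¹ * (g * x ^ k * g⁻¹) * g = g⁻¹ * (g * h * g⁻¹) * g := by rw [hk]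
      have e1 : g⁻¹ * (g * x ^ k * g⁻¹) * g = x ^ k := by group
      have e2 : g⁻¹ * (g * h * g⁻¹) * g = h := by group
      rw [e1, e2] at h3
      exact h3.symm
    rw [this]; exact Subgroup.zpow_mem_zpowers x k

end Cfsg.Agent.Helper7.O5760
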