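import Mathlib
import Cfsg.Agent.S1017
import Cfsg.Agent.Lib.Helper17.PrimeTIApp

/-!
# O5760 (B4): `x` fixes only the base point of `G ⧸ N_G(⟨x⟩)`
-/

set_option autoImplicit false

namespace Cfsg.Agent.Helper7.O5760

open MulAction

universe u

theorem fix_x {G : Type u} [Group G] [Finite G] [IsSimpleGroup G] (hG : Nat.card G = 5760)
    (R : Sylow 5 G) (hR : Nat.card (R : Subgroup G) = 5)
    (x : G) (hx : orderOf x = 3) (hxC : x ∈ Subgroup.centralizer ((R : Subgroup G) : Set G))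
    (hM : Nat.card (Subgroup.normalizer ((Subgroup.zpowers x : Subgroup G) : Set G)) = 360)
    (hfixR : ∀ a : G ⧸ Subgroup.normalizer ((Subgroup.zpowers x : Subgroup G) : Set G),
      (∀ r ∈ (R : Subgroup G), r • a = a) →
      a = ((1 : G) : G ⧸ Subgroup.normalizer ((Subgroup.zpowers x : Subgroup G) : Set G)))
    (a : G ⧸ Subgroup.normalizer ((Subgroup.zpowers x : Subgroup G) : Set G)) (ha : x • a = a) :
    a = ((1 : G) : G ⧸ Subgroup.normalizer ((Subgroup.zpowers x : Subgroup G) : Set G)) := by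
  have hp5 : Fact (Nat.Prime 5) := ⟨by norm_num⟩
  have hp3 : Fact (Nat.Prime 3) := ⟨by norm_num⟩
  revert a
  set M := Subgroup.normalizer ((Subgroup.zpowers x : Subgroup G) : Set G) with hMdef
  intro a ha
  -- |G ⧸ M| = 16
  have hidx : Nat.card (G ⧸ M) = 16 := by
    have h1 := Subgroup.card_mul_index M
    rw [hM, hG] at h1
    rw [← Subgroup.index_eq_card]
    omega
  have hMtop : M ≠ ⊤ := by
    intro h
    have : Nat.card M = Nat.card G := by rw [h]; exact Subgroup.card_top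
    rw [hM, hG] at this
    omega
  -- generator of R
  obtain ⟨y, hyR, hy1⟩ := Cfsg.Agent.Helper17.PrimeTI.exists_ne_one_of_prime_card (R : Subgroup G) hR
  obtain ⟨hzy, hy5⟩ := Cfsg.Agent.S1017.zpowers_eq_of_card_prime (R : Subgroup G) hR y hyR hy1
  have hcomm : Commute y x := by
    rw [Subgroup.mem_centralizer_iff] at hxC
    exact hxC y hyR
  have hxM : x ∈ M := Subgroup.le_normalizer (Subgroup.mem_zpowers x)
  have hyM : y ∈ M := by
    apply Subgroup.centralizer_le_normalizer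
    rw [Subgroup.mem_centralizer_iff]
    intro h hh
    obtain ⟨k, rfl⟩ := Subgroup.mem_zpowers_iff.1 hh
    exact (hcomm.zpow_right k).symm.eq
  have hbx : ((1 : G) : G ⧸ M) ∈ fixedBy (G ⧸ M) x := Cfsg.Agent.S1017.coset_fixed M x hxM
  have hby : ((1 : G) : G ⧸ M) ∈ fixedBy (G ⧸ M) y := Cfsg.Agent.S1017.coset_fixed M y hyM
  -- the intersection of the fixed point sets is the base point
  have hinter : fixedBy (G ⧸ M) x ∩ fixedBy (G ⧸ M) y = {((1 : G) : G ⧸ M)} := by
    ext c
    constructor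
    · rintro ⟨_, hcy⟩
      rw [Set.mem_singleton_iff]
      apply hfixR
      intro r hr
      rw [← hzy] at hr
      obtain ⟨k, rfl⟩ := Subgroup.mem_zpowers_iff.1 hr
      exact MulAction.mem_fixedBy_zpow hcy k
    · rintro hc
      rw [Set.mem_singleton_iff] at hc
      rw [hc]
      exact ⟨hbx, hby⟩
  -- the congruences
  have h5 := Cfsg.Agent.S1017.card_fixedBy_modEq_inter (α := G ⧸ M) y x hcomm hy5
  rw [hinter] at h5
  have hone : Nat.card ↥({((1 : G) : G ⧸ M)} : Set (G ⧸ M)) = 1 := by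
    rw [_root_.Nat.card_coe_set_eq, Set.ncard_singleton]
  rw [hone] at h5
  have h3 := Cfsg.Agent.S1017.card_modEq_card_fixedBy (α := G ⧸ M) x hx
  rw [hidx] at h3
  have hle := Cfsg.Agent.S1017.card_fixedBy_le (α := G ⧸ M) x
  rw [hidx] at hle
  have hx1 : x ≠ 1 := Cfsg.Agent.S1017.ne_one_of_orderOf_prime x hp3.out hx
  have hne := Cfsg.Agent.S1017.card_fixedBy_ne (α := G ⧸ M)
    (Cfsg.Agent.S1017.coset_action_nontrivial M hMtop) x hx1
  rw [hidx] at hne
  have hf1 : Nat.card (fixedBy (G ⧸ M) x) = 1 := by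
    unfold Nat.ModEq at h5 h3
    omega
  have hsub : Subsingleton ↥(fixedBy (G ⧸ M) x) := (Nat.card_eq_one_iff_unique.1 hf1).1
  have := Subsingleton.elim (⟨a, ha⟩ : ↥(fixedBy (G ⧸ M) x)) ⟨_, hbx⟩
  exact congrArg Subtype.val this
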