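import Mathlib
import Cfsg.Agent.Lib.Helper45.Design16
import Cfsg.Agent.Lib.Helper7.O5760Defs

/-!
# O5760 (helper7): from the line axioms to a subgroup of index at most 5, via `Helper45.Design16`
-/

set_option autoImplicit false

namespace Cfsg.Agent.Helper7.O5760

open MulAction

universe u v

/-- The design end-game: given the basic properties of `K3`/`line`, that two points of a line define the
same line, and that lines have four points, there is a proper subgroup of index at most 5. -/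
theorem exists_proper_subgroup_of_lines {G : Type u} [Group G] {X : Type v} [MulAction G X]
    (z : X → G) (h : Hyp G X z)
    (hbasic : (∀ (g : G) (a b : X) (k : G), k ∈ K3 G a b → g * k * g⁻¹ ∈ K3 G (g • a) (g • b)) ∧
      (∀ (g : G) (a b c : X), c ∈ line G a b → g • c ∈ line G (g • a) (g • b)) ∧
      (∀ a b c d : X, c ∈ line G a b → d ∈ line G a b → K3 G a b ≤ K3 G c d) ∧
      (∀ a b : X, a ∈ line G a b ∧ b ∈ line G a b))
    (hline : ∀ a b c d : X, a ≠ b → c ≠ d → c ∈ line G a b → d ∈ line G a b →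
      line G c d = line G a b)
    (hcard : ∀ a b : X, a ≠ b → Nat.card (line G a b) = 4) :
    ∃ W : Subgroup G, W ≠ ⊤ ∧ W.index ≤ 5 := by
  have hX : Finite X := Nat.finite_of_card_ne_zero (by rw [h.cardX]; norm_num)
  -- equivariance of lines as sets
  have himg : ∀ (g : G) (a b : X), (fun c => g • c) '' line G a b = line G (g • a) (g • b) := by
    intro g a b
    ext c'
    constructor
    · rintro ⟨c, hc, rfl⟩
      exact hbasic.2.1 g a b c hc
    · intro hc'
      refine ⟨g⁻¹ • c', ?_, by simp⟩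
      have := hbasic.2.1 g⁻¹ (g • a) (g • b) c' hc'
      rwa [inv_smul_smul, inv_smul_smul] at this
  let L : Set (Set X) := {l | ∃ a b : X, a ≠ b ∧ l = line G a b}
  have hL4 : ∀ l ∈ L, l.ncard = 4 := by
    rintro l ⟨a, b, hab, rfl⟩
    rw [← _root_.Nat.card_coe_set_eq]
    exact hcard a b hab
  have hinv : ∀ (g : G), ∀ l ∈ L, (fun a => g • a) '' l ∈ L := by
    rintro g l ⟨a, b, hab, rfl⟩
    exact ⟨g • a, g • b, fun hh => hab (MulAction.injective g hh), himg g a b⟩
  have huniq : ∀ a b : X, a ≠ b → ∃! l, l ∈ L ∧ a ∈ l ∧ b ∈ l := by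
    intro a b hab
    refine ⟨line G a b, ⟨⟨a, b, hab, rfl⟩, (hbasic.2.2.2 a b).1, (hbasic.2.2.2 a b).2⟩, ?_⟩
    rintro l ⟨⟨c, d, hcd, rfl⟩, ha, hb⟩
    exact (hline c d a b hcd hab ha hb).symm
  -- two distinct points
  have hX1 : 1 < Nat.card X := by rw [h.cardX]; norm_num
  obtain ⟨a0, b0, hab0⟩ := Finite.one_lt_card_iff_nontrivial.mp hX1 |>.exists_pair_ne
  obtain ⟨K, hK0, hK5, hKmem⟩ := Cfsg.Agent.Helper45.Design16.exists_subgroup_index_le_five_set
    (G := G) h.cardX L hL4 hinv huniq (line G a0 b0) ⟨a0, b0, hab0, rfl⟩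
  refine ⟨K, ?_, hK5⟩
  -- a point off the line
  have hex : ∃ c : X, c ∉ line G a0 b0 := by
    by_contra hcon
    push Not at hcon
    have huniv : line G a0 b0 = Set.univ := Set.eq_univ_of_forall hcon
    have h4 := hcard a0 b0 hab0
    rw [huniv, Nat.card_congr (Equiv.Set.univ X), h.cardX] at h4
    norm_num at h4
  obtain ⟨c, hc⟩ := hex
  have hca : a0 ≠ c := fun hh => hc (hh ▸ (hbasic.2.2.2 a0 b0).1)
  obtain ⟨g, hga, hgb⟩ := h.twoTrans a0 b0 a0 c hab0 hca
  intro htop
  have hg : g ∈ K := by rw [htop]; exact Subgroup.mem_top g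
  rw [hKmem, himg, hga, hgb] at hg
  rcases hg with hg | hg
  · apply hc
    rw [← hg]
    exact (hbasic.2.2.2 a0 c).2
  · exact Set.disjoint_left.1 hg (hbasic.2.2.2 a0 c).1 (hbasic.2.2.2 a0 b0).1

end Cfsg.Agent.Helper7.O5760
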