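import Mathlib
import Cfsg.Agent.S1017
import Cfsg.Agent.Lib.Helper85.O4320BASE2

/-!
# O5760 (OVER): the order of a subgroup containing the normalizer of a Sylow 5-subgroup of order 5
-/

set_option autoImplicit false

namespace Cfsg.Agent.Helper7.O5760

universe u

theorem card_overgroup {G : Type u} [Group G] [Finite G] (R : Sylow 5 G)
    (hR : Nat.card (R : Subgroup G) = 5) (Y : Subgroup G)
    (hNY : Subgroup.normalizer ((R : Subgroup G) : Set G) ≤ Y) :
    ∃ a : ℕ, a % 5 = 1 ∧
      Nat.card Y = a * Nat.card (Subgroup.normalizer ((R : Subgroup G) : Set G)) := by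
  have hp5 : Fact (Nat.Prime 5) := ⟨by norm_num⟩
  have hRY : (R : Subgroup G) ≤ Y := Subgroup.le_normalizer.trans hNY
  have h1 := Cfsg.Agent.S1017.card_eq_card_mul Y R hRY
  have h2 := Cfsg.Agent.Helper85.O4320.card_sylow_le_mod 5 R hR Y hRY
  refine ⟨Nat.card {Q : Sylow 5 G // (Q : Subgroup G) ≤ Y}, ?_, ?_⟩
  · have := h2
    unfold Nat.ModEq at this
    simpa using this
  · rw [h1, inf_of_le_left hNY]
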