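import Mathlib
import Cfsg.Agent.S1017
import Cfsg.Agent.Lib.Helper7.O5760Defs
import Cfsg.Agent.Lib.Helper7.O5760Des
import Cfsg.Agent.Lib.Helper48.O5760IDX
import Cfsg.Agent.Lib.Helper7.O5760OVER
import Cfsg.Agent.Lib.Helper94.O5760B1
import Cfsg.Agent.Lib.Helper7.O5760B3
import Cfsg.Agent.Lib.Helper7.O5760B4
import Cfsg.Agent.Lib.Helper42.O5760B5
import Cfsg.Agent.Lib.Helper94.O5760D1
import Cfsg.Agent.Lib.Helper94.O5760D2
import Cfsg.Agent.Lib.Helper5.O5760D3
import Cfsg.Agent.Lib.Helper38.O5760D4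
import Cfsg.Agent.Lib.Helper38.O5760D5
import Cfsg.Agent.Lib.Helper77.O5760D6
import Cfsg.Agent.Lib.Helper47.O5760GEN2T
import Cfsg.Agent.Lib.Helper94.O5760B2
import Cfsg.Agent.Lib.Helper26.O5760B6

/-!
# O5760 (helper7): the case `n_5 = 96` of S0980
-/

set_option autoImplicit false

namespace Cfsg.Agent.Helper7.O5760

open Cfsg MulAction

universe u

/-- The design part: the hypotheses `Hyp` are contradictory in a simple group of order 5760. -/
theorem false_of_hyp {G : Type u} [Group G] [Finite G] [IsSimpleGroup G] {X : Type u} [MulAction G X]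
    (z : X → G) (h : Hyp G X z) : False := by
  have hb := Cfsg.Agent.Helper94.O5760.K3_basic (G := G) (X := X)
  have hl := fun a b c d hab hcd hc hd => Cfsg.Agent.Helper94.O5760.line_eq_of_mem z h hb a b c d hab hcd hc hd
  have hl2 : ∀ a b c d : X, a ≠ b → c ≠ d → c ∈ line G a b → d ∈ line G a b →
      line G c d = line G a b := fun a b c d hab hcd hc hd => (hl a b c d hab hcd hc hd).2
  have hp := fun a b hab => Cfsg.Agent.Helper5.O5760.K3_props z h hb a b hab
  have hlb := fun a b hab => Cfsg.Agent.Helper38.O5760.line_basic z h hp a b hab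
  have hc4 : ∀ a b : X, a ≠ b → Nat.card (line G a b) = 4 := by
    intro a b hab
    have h1 := hlb a b hab
    have h2 := Cfsg.Agent.Helper38.O5760.card_normalizer_K3 z h hb hl hp
      (fun N _ _ F _ _ hF h2 m hm => Cfsg.Agent.Helper47.O5760.card_of_two_transitive hF h2 m hm) a b hab (by omega)
    exact Cfsg.Agent.Helper77.O5760.card_line h.cardG a b h1 h2
  obtain ⟨W, hW, hi⟩ := exists_proper_subgroup_of_lines z h hb hl2 hc4
  have := Cfsg.Agent.Helper48.O5760.index_ge_ten h.cardG W hW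
  omega

/-- **Case `n_5 = 96`.** -/
theorem false_of_ninetysix {G : Type u} [Group G] [Finite G] [IsSimpleGroup G]
    (hG : Nat.card G = 5760) (h96 : Nat.card (Sylow 5 G) = 96) : False := by
  obtain ⟨R⟩ : Nonempty (Sylow 5 G) := inferInstance
  have hp5 : Fact (Nat.Prime 5) := ⟨by norm_num⟩
  have hR : Nat.card (R : Subgroup G) = 5 := by
    have := Cfsg.Agent.S1017.sylow_card_eq R 1 1152 (by rw [hG]; norm_num) (by norm_num)
    simpa using this
  have hN : Nat.card (Subgroup.normalizer ((R : Subgroup G) : Set G)) = 60 := by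
    have := Cfsg.Agent.S1017.card_sylow_mul_card_normalizer R
    rw [h96, hG] at this
    omega
  have hC : Nat.card (Subgroup.centralizer ((R : Subgroup G) : Set G)) = 15 ∨
      Nat.card (Subgroup.centralizer ((R : Subgroup G) : Set G)) = 30 := by
    obtain ⟨k, c, hk, hk1, hCc, hNc⟩ := Cfsg.Agent.S1017.normalizer_structure R hR (by rw [hG]; norm_num)
    rw [hN] at hNc
    rw [hCc]
    have hk4 : k ∣ 4 := hk
    have hk_le : k ≤ 4 := Nat.le_of_dvd (by norm_num) hk4
    interval_cases k <;> omega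
  have hidx := Cfsg.Agent.Helper48.O5760.index_ge_ten hG
  have hover := Cfsg.Agent.Helper7.O5760.card_overgroup R hR
  obtain ⟨x, hx, hxC, hxN, huniq⟩ := Cfsg.Agent.Helper94.O5760.exists_x R hR hC
  have hM := Cfsg.Agent.Helper94.O5760.card_M hG R hR hN hidx hover x hx hxN
  have hfR := Cfsg.Agent.Helper7.O5760.fix_R R hR x hx hxC huniq
  have hfx := Cfsg.Agent.Helper7.O5760.fix_x hG R hR x hx hxC hM hfR
  have htr := Cfsg.Agent.Helper42.O5760.trans_M hG R hR x hx hxN hM hfR hfx
  obtain ⟨z, hz⟩ := Cfsg.Agent.Helper26.O5760.hyp_of_ninetysix hG x hx hM hfx htr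
    (fun F _ _ hF h2 m hm => Cfsg.Agent.Helper47.O5760.card_of_two_transitive hF h2 m hm)
  exact false_of_hyp z hz

end Cfsg.Agent.Helper7.O5760
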