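import Mathlib
import Cfsg.Agent.Lib.Helper7.CWDefs
import Cfsg.Agent.Lib.Helper26.CWF3a
import Cfsg.Agent.Lib.Helper26.CWF3b
import Cfsg.Agent.Lib.Helper26.CWN4b
import Cfsg.Agent.Lib.Helper31.CWN4d
import Cfsg.Agent.Lib.Helper33.CWN4a
import Cfsg.Agent.Lib.Helper44.CWSC
import Cfsg.Agent.Lib.Helper56.CWF2
import Cfsg.Agent.Lib.Helper69.CWEV
import Cfsg.Agent.Lib.Helper69.CWON
import Cfsg.Agent.Lib.Helper70.CWA8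
import Cfsg.Agent.Lib.Helper70.CWDL
import Cfsg.Agent.Lib.Helper74.CWID
import Cfsg.Agent.Lib.Helper75.CWCS
import Cfsg.Agent.Lib.Helper75.CWD
import Cfsg.Agent.Lib.Helper75.CWK
import Cfsg.Agent.Lib.Helper75.CWN4e
import Cfsg.Agent.Lib.Helper86.CWI
import Cfsg.Agent.Lib.Helper86.CWO
import Cfsg.Agent.Lib.Helper86.CWW1
import Cfsg.Agent.Lib.Helper86.CWW2
import Cfsg.Agent.Lib.Helper96.CWF1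

/-!
# CW glue: the delivered pieces of the helper7 lemma server "CW" (S0406), restated in one namespace.
-/

set_option autoImplicit false
open Matrix

namespace Cfsg.Agent.Helper7.CWG
open Cfsg Cfsg.Agent.Helper7.CW

variable {Λ : AddSubgroup V}

theorem D_le (h : CL Λ) (y : V) (h4 : ∀ i, (4 : ℤ) ∣ y i) (h8 : (8 : ℤ) ∣ ∑ i, y i) : y ∈ Λ :=
  Cfsg.Agent.Helper75.CW.D_le h y h4 h8

theorem integral (h : CL Λ) (y z : V) (hy : y ∈ Λ) (hz : z ∈ Λ) : (8 : ℤ) ∣ ∑ i, y i * z i :=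
  Cfsg.Agent.Helper86.CW.integral h y z hy hz

theorem ker_sum (h : CL Λ)
    (hD : ∀ y : V, (∀ i, (4 : ℤ) ∣ y i) → (8 : ℤ) ∣ ∑ i, y i → y ∈ Λ)
    (a : V) (ha : dbl a ∈ Λ) (hev : ∀ i, (2 : ℤ) ∣ a i) : (4 : ℤ) ∣ ∑ i, a i :=
  Cfsg.Agent.Helper75.CW.ker_sum h hD a ha hev

theorem normal_form (h : CL Λ)
    (hD : ∀ y : V, (∀ i, (4 : ℤ) ∣ y i) → (8 : ℤ) ∣ ∑ i, y i → y ∈ Λ)
    (a : V) (ha : dbl a ∈ Λ) (hodd : ∃ i, Odd (a i)) :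
    ∃ b : V, dbl b ∈ Λ ∧ ∀ i, (Odd (a i) → (b i = 1 ∨ b i = -1)) ∧ (Even (a i) → b i = 0) :=
  Cfsg.Agent.Helper86.CW.normal_form h hD a ha hodd

theorem weight (h : CL Λ)
    (hW1 : ∀ a : V, dbl a ∈ Λ → (∃ i, Odd (a i)) →
      ∃ b : V, dbl b ∈ Λ ∧ ∀ i, (Odd (a i) → (b i = 1 ∨ b i = -1)) ∧ (Even (a i) → b i = 0))
    (w : Fin 24 → ZMod 2) (hw : w ∈ code Λ) (hw0 : w ≠ 0) :
    8 ≤ hammingNorm w ∧ 4 ∣ hammingNorm w :=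
  Cfsg.Agent.Helper86.CW.weight h hW1 w hw hw0

theorem orth (h : CL Λ)
    (hI : ∀ y ∈ Λ, ∀ z ∈ Λ, (8 : ℤ) ∣ ∑ i, y i * z i)
    (hW1 : ∀ a : V, dbl a ∈ Λ → (∃ i, Odd (a i)) →
      ∃ b : V, dbl b ∈ Λ ∧ ∀ i, (Odd (a i) → (b i = 1 ∨ b i = -1)) ∧ (Even (a i) → b i = 0))
    (v w : Fin 24 → ZMod 2) (hv : v ∈ code Λ) (hw : w ∈ code Λ) : ∑ i, v i * w i = 0 :=
  Cfsg.Agent.Helper86.CW.orth h hI hW1 v w hv hw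

theorem finrank_le (C : Submodule (ZMod 2) (Fin 24 → ZMod 2))
    (hO : ∀ v ∈ C, ∀ w ∈ C, ∑ i, v i * w i = 0) : Module.finrank (ZMod 2) C ≤ 12 :=
  Cfsg.Agent.Helper70.CW.finrank_le C hO

theorem octads_le (C : Submodule (ZMod 2) (Fin 24 → ZMod 2))
    (hW : ∀ w ∈ C, w ≠ 0 → 8 ≤ hammingNorm w) :
    {w : Fin 24 → ZMod 2 | w ∈ C ∧ hammingNorm w = 8}.ncard ≤ 759 :=
  Cfsg.Agent.Helper70.CW.octads_le C hW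

theorem count_D :
    {y : V | (∀ i, (4 : ℤ) ∣ y i) ∧ ∑ i, y i ^ 2 = 32}.ncard ≤ 1104 :=
  Cfsg.Agent.Helper33.CW.count_D

theorem count_oct (h : CL Λ)
    (hK : ∀ a : V, dbl a ∈ Λ → (∀ i, (2 : ℤ) ∣ a i) → (4 : ℤ) ∣ ∑ i, a i)
    (w : Fin 24 → ZMod 2) (hw : hammingNorm w = 8) :
    {a : V | dbl a ∈ Λ ∧ redV a = w ∧ ∑ i, a i ^ 2 = 8}.ncard ≤ 128 :=
  Cfsg.Agent.Helper26.CW.count_oct h hK w hw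

theorem count_even (h : CL Λ)
    (hW2 : ∀ w ∈ code Λ, w ≠ 0 → 8 ≤ hammingNorm w ∧ 4 ∣ hammingNorm w)
    (hA : {y : V | (∀ i, (4 : ℤ) ∣ y i) ∧ ∑ i, y i ^ 2 = 32}.ncard ≤ 1104)
    (hB : ∀ w : Fin 24 → ZMod 2, hammingNorm w = 8 →
      {a : V | dbl a ∈ Λ ∧ redV a = w ∧ ∑ i, a i ^ 2 = 8}.ncard ≤ 128) :
    {a : V | dbl a ∈ Λ ∧ ∑ i, a i ^ 2 = 8}.ncard ≤
      1104 + 128 * {w : Fin 24 → ZMod 2 | w ∈ code Λ ∧ hammingNorm w = 8}.ncard :=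
  Cfsg.Agent.Helper75.CW.count_even h hW2 hA hB

theorem count_odd (h : CL Λ) :
    {y : V | y ∈ Λ ∧ (∃ i, Odd (y i)) ∧ ∑ i, y i ^ 2 = 32}.ncard ≤ 24 * Nat.card (code Λ) :=
  Cfsg.Agent.Helper31.CW.count_odd h

theorem count_split (h : CL Λ) :
    {y : V | y ∈ Λ ∧ ∑ i, y i ^ 2 = 32}.ncard ≤
      {a : V | dbl a ∈ Λ ∧ ∑ i, a i ^ 2 = 8}.ncard +
      {y : V | y ∈ Λ ∧ (∃ i, Odd (y i)) ∧ ∑ i, y i ^ 2 = 32}.ncard :=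
  Cfsg.Agent.Helper75.CW.count_split h

theorem CL_sign (h : CL Λ) (ε : V) (hε : ∀ i, ε i = 1 ∨ ε i = -1) :
    CL (Λ.map (AddMonoidHom.mulLeft ε)) ∧ code (Λ.map (AddMonoidHom.mulLeft ε)) = code Λ :=
  Cfsg.Agent.Helper44.CW.CL_sign h ε hε

theorem odd_normalize (h : CL Λ) (y : V) (hy : y ∈ Λ) (hodd : ∃ i, Odd (y i))
    (h32 : ∑ i, y i ^ 2 = 32) :
    ∃ (ε : V) (k : Fin 24), (∀ i, ε i = 1 ∨ ε i = -1) ∧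
      uvec k ∈ Λ.map (AddMonoidHom.mulLeft ε) :=
  Cfsg.Agent.Helper69.CW.odd_normalize h y hy hodd h32

theorem even_char (h : CL Λ)
    (hD : ∀ y : V, (∀ i, (4 : ℤ) ∣ y i) → (8 : ℤ) ∣ ∑ i, y i → y ∈ Λ)
    (hI : ∀ y ∈ Λ, ∀ z ∈ Λ, (8 : ℤ) ∣ ∑ i, y i * z i)
    (k : Fin 24) (hu : uvec k ∈ Λ) (a : V) :
    dbl a ∈ Λ ↔ (redV a ∈ code Λ ∧ (4 : ℤ) ∣ ∑ i, a i) :=
  Cfsg.Agent.Helper69.CW.even_char h hD hI k hu a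

theorem ident (h : CL Λ) (k : Fin 24) (hu : uvec k ∈ Λ)
    (hEV : ∀ a : V, dbl a ∈ Λ ↔ (redV a ∈ code Λ ∧ (4 : ℤ) ∣ ∑ i, a i))
    (e : Fin 24 ≃ Cfsg.GolayPt)
    (he : ∀ w : Cfsg.GolayPt → ZMod 2,
      w ∈ Cfsg.golayCode ↔ (fun i => w (e i)) ∈ code Λ) (y : V) :
    y ∈ Λ ↔ (fun p => y (e.symm p)) ∈ Cfsg.leechLattice :=
  Cfsg.Agent.Helper74.CW.ident h k hu hEV e he y

theorem frame_exists (B : Matrix (Fin 24) (Fin 24) ℤ) (hsymm : B.IsSymm)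
    (hpos : ∀ x : Fin 24 → ℤ, x ≠ 0 → 0 < x ⬝ᵥ (B *ᵥ x))
    (heven : ∀ x : Fin 24 → ℤ, (2 : ℤ) ∣ x ⬝ᵥ (B *ᵥ x))
    (h2 : ∀ x : Fin 24 → ℤ, x ⬝ᵥ (B *ᵥ x) ≠ 2)
    (h4 : {x : Fin 24 → ℤ | x ⬝ᵥ (B *ᵥ x) = 4}.ncard = 196560)
    (h6 : {x : Fin 24 → ℤ | x ⬝ᵥ (B *ᵥ x) = 6}.ncard = 16773120)
    (h8 : {x : Fin 24 → ℤ | x ⬝ᵥ (B *ᵥ x) = 8}.ncard = 398034000) :
    ∃ v : Fin 24 → V, (∀ i, (v i) ⬝ᵥ (B *ᵥ (v i)) = 8) ∧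
      (∀ i j, i ≠ j → (v i) ⬝ᵥ (B *ᵥ (v j)) = 0) ∧
      (∀ i j k, (2 : ℤ) ∣ (v i - v j) k) :=
  Cfsg.Agent.Helper96.CW.frame_exists B hsymm hpos heven h2 h4 h6 h8

theorem parseval (B : Matrix (Fin 24) (Fin 24) ℤ) (hsymm : B.IsSymm) (v : Fin 24 → V)
    (hv8 : ∀ i, (v i) ⬝ᵥ (B *ᵥ (v i)) = 8)
    (hv0 : ∀ i j, i ≠ j → (v i) ⬝ᵥ (B *ᵥ (v j)) = 0) (x : V) :
    ∑ i, (coord B v x i) ^ 2 = 8 * (x ⬝ᵥ (B *ᵥ x)) :=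
  Cfsg.Agent.Helper56.CW.parseval B hsymm v hv8 hv0 x

theorem frame_pair (B : Matrix (Fin 24) (Fin 24) ℤ) (hsymm : B.IsSymm) (v : Fin 24 → V)
    (hv8 : ∀ i, (v i) ⬝ᵥ (B *ᵥ (v i)) = 8)
    (hv0 : ∀ i j, i ≠ j → (v i) ⬝ᵥ (B *ᵥ (v j)) = 0)
    (hv2 : ∀ i j k, (2 : ℤ) ∣ (v i - v j) k) :
    (∀ i j : Fin 24, i ≠ j →
      ((Pi.single i 4 + Pi.single j 4 : V) ∈ (coord B v).range ∧
        (Pi.single i 4 - Pi.single j 4 : V) ∈ (coord B v).range)) ∧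
    (∀ y ∈ (coord B v).range, ∀ i j : Fin 24, (2 : ℤ) ∣ y i - y j) :=
  Cfsg.Agent.Helper26.CW.frame_pair B hsymm v hv8 hv0 hv2

theorem frame_CL (B : Matrix (Fin 24) (Fin 24) ℤ)
    (hpos : ∀ x : Fin 24 → ℤ, x ≠ 0 → 0 < x ⬝ᵥ (B *ᵥ x))
    (heven : ∀ x : Fin 24 → ℤ, (2 : ℤ) ∣ x ⬝ᵥ (B *ᵥ x))
    (h2 : ∀ x : Fin 24 → ℤ, x ⬝ᵥ (B *ᵥ x) ≠ 2)
    (h4 : {x : Fin 24 → ℤ | x ⬝ᵥ (B *ᵥ x) = 4}.ncard = 196560)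
    (v : Fin 24 → V)
    (hP : ∀ x : V, ∑ i, (coord B v x i) ^ 2 = 8 * (x ⬝ᵥ (B *ᵥ x)))
    (hpair : ∀ i j : Fin 24, i ≠ j →
      ((Pi.single i 4 + Pi.single j 4 : V) ∈ (coord B v).range ∧
        (Pi.single i 4 - Pi.single j 4 : V) ∈ (coord B v).range))
    (hpar : ∀ y ∈ (coord B v).range, ∀ i j : Fin 24, (2 : ℤ) ∣ y i - y j) :
    CL (coord B v).range ∧ Function.Injective (coord B v) :=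
  Cfsg.Agent.Helper26.CW.frame_CL B hpos heven h2 h4 v hP hpair hpar

end Cfsg.Agent.Helper7.CWG
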