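import Mathlib
import Cfsg.Agent.Lib.Helper7.CWGlue
import Cfsg.Agent.S0375

/-!
# CW main: assembly of Conway's characterisation of the rank-24 lattice (S0406)
-/

set_option autoImplicit false
open Matrix

namespace Cfsg.Agent.Helper7.CWM
open Cfsg Cfsg.Agent.Helper7.CW Cfsg.Agent.Helper7.CWG

variable {Λ : AddSubgroup V}

/-- The code of a Conway lattice is self-orthogonal, doubly even, of minimum weight 8. -/
theorem code_facts (h : CL Λ) :
    (∀ v ∈ code Λ, ∀ w ∈ code Λ, ∑ i, v i * w i = 0) ∧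
    (∀ w ∈ code Λ, w ≠ 0 → 8 ≤ hammingNorm w ∧ 4 ∣ hammingNorm w) := by
  have hD := D_le h
  have hI : ∀ y ∈ Λ, ∀ z ∈ Λ, (8 : ℤ) ∣ ∑ i, y i * z i := fun y hy z hz => integral h y z hy hz
  have hW1 := normal_form h hD
  exact ⟨fun v hv w hw => orth h hI hW1 v w hv hw, fun w hw hw0 => weight h hW1 w hw hw0⟩

/-- The count of minimal vectors by shapes. -/
theorem count_le (h : CL Λ) :
    196560 ≤ 1104 + 128 * {w : Fin 24 → ZMod 2 | w ∈ code Λ ∧ hammingNorm w = 8}.ncard +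
      {y : V | y ∈ Λ ∧ (∃ i, Odd (y i)) ∧ ∑ i, y i ^ 2 = 32}.ncard := by
  have hD := D_le h
  have hK := ker_sum h hD
  have hW2 := (code_facts h).2
  have h1 := count_split h
  have h2 := count_even h hW2 count_D (fun w hw => count_oct h hK w hw)
  rw [h.cnt] at h1
  omega

/-- The code has dimension 12 and there is an odd minimal vector. -/
theorem dim_and_odd (h : CL Λ) :
    Module.finrank (ZMod 2) (code Λ) = 12 ∧
      ∃ y ∈ Λ, (∃ i, Odd (y i)) ∧ ∑ i, y i ^ 2 = 32 := by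
  obtain ⟨hO, hW2⟩ := code_facts h
  have hdl := finrank_le (code Λ) hO
  have hA8 := octads_le (code Λ) (fun w hw h0 => (hW2 w hw h0).1)
  have hc := count_le h
  have hodd := count_odd h
  have hcard : Nat.card (code Λ) = 2 ^ Module.finrank (ZMod 2) (code Λ) := by
    rw [Module.natCard_eq_pow_finrank (K := ZMod 2), Nat.card_zmod]
  rw [hcard] at hodd
  generalize Module.finrank (ZMod 2) (code Λ) = r at *
  generalize {w : Fin 24 → ZMod 2 | w ∈ code Λ ∧ hammingNorm w = 8}.ncard = A at *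
  have hO1 : 98304 ≤ {y : V | y ∈ Λ ∧ (∃ i, Odd (y i)) ∧ ∑ i, y i ^ 2 = 32}.ncard := by omega
  constructor
  · have h4096 : 4096 ≤ 2 ^ r := by omega
    by_contra hne
    have hlt : r ≤ 11 := by omega
    have : 2 ^ r ≤ 2 ^ 11 := Nat.pow_le_pow_right (by norm_num) hlt
    omega
  · have hne : {y : V | y ∈ Λ ∧ (∃ i, Odd (y i)) ∧ ∑ i, y i ^ 2 = 32}.ncard ≠ 0 := by omega
    obtain ⟨y, hy⟩ := Set.nonempty_of_ncard_ne_zero hne
    exact ⟨y, hy.1, hy.2.1, hy.2.2⟩

/-- A Conway lattice is the rank-24 lattice up to a signed permutation of the coordinates. -/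
theorem abstract_main (h : CL Λ) :
    ∃ (ε : V) (e : Fin 24 ≃ GolayPt), (∀ i, ε i = 1 ∨ ε i = -1) ∧
      ∀ y : V, y ∈ Λ ↔ (fun p => (ε * y) (e.symm p)) ∈ leechLattice := by
  obtain ⟨hdim, y, hy, hodd, h32⟩ := dim_and_odd h
  obtain ⟨ε, k, hε, hu⟩ := odd_normalize h y hy hodd h32
  obtain ⟨h', hcode⟩ := CL_sign h ε hε
  obtain ⟨hO, hW2⟩ := code_facts h'
  have hdim' : Module.finrank (ZMod 2) (code (Λ.map (AddMonoidHom.mulLeft ε))) = 12 := by
    rw [hcode]; exact hdim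
  obtain ⟨e, he⟩ := Cfsg.Agent.S0375.result (code (Λ.map (AddMonoidHom.mulLeft ε))) hdim' hO
    (fun w hw => by
      by_cases h0 : w = 0
      · simp [h0]
      · exact (hW2 w hw h0).2)
    (fun w hw => by
      by_cases h0 : w = 0
      · simp [h0]
      · have := (hW2 w hw h0).1
        omega)
  have hD := D_le h'
  have hI : ∀ y ∈ Λ.map (AddMonoidHom.mulLeft ε), ∀ z ∈ Λ.map (AddMonoidHom.mulLeft ε),
      (8 : ℤ) ∣ ∑ i, y i * z i := fun y hy z hz => integral h' y z hy hz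
  have hEV := even_char h' hD hI k hu
  refine ⟨ε, e, hε, fun y => ?_⟩
  rw [← ident h' k hu hEV e he (ε * y)]
  constructor
  · intro hy
    exact ⟨y, hy, rfl⟩
  · rintro ⟨z, hz, hzy⟩
    have hzy' : z = y := by
      funext i
      have := congrFun hzy i
      simp only [AddMonoidHom.coe_mulLeft, Pi.mul_apply] at this
      rcases hε i with h1 | h1 <;> rw [h1] at this <;> linarith
    rw [← hzy']
    exact hz

/-- Conway's characterisation. -/
theorem main (B : Matrix (Fin 24) (Fin 24) ℤ) (hsymm : B.IsSymm)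
    (hpos : ∀ x : Fin 24 → ℤ, x ≠ 0 → 0 < x ⬝ᵥ (B *ᵥ x))
    (heven : ∀ x : Fin 24 → ℤ, (2 : ℤ) ∣ x ⬝ᵥ (B *ᵥ x))
    (h2 : ∀ x : Fin 24 → ℤ, x ⬝ᵥ (B *ᵥ x) ≠ 2)
    (h4 : {x : Fin 24 → ℤ | x ⬝ᵥ (B *ᵥ x) = 4}.ncard = 196560)
    (h6 : {x : Fin 24 → ℤ | x ⬝ᵥ (B *ᵥ x) = 6}.ncard = 16773120)
    (h8 : {x : Fin 24 → ℤ | x ⬝ᵥ (B *ᵥ x) = 8}.ncard = 398034000) :
    ∃ f : (Fin 24 → ℤ) ≃+ leechLattice, ∀ x : Fin 24 → ℤ,
      sqNorm ((f x : leechLattice) : GolayPt → ℤ) = 8 * (x ⬝ᵥ (B *ᵥ x)) := by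
  obtain ⟨v, hv8, hv0, hv2⟩ := frame_exists B hsymm hpos heven h2 h4 h6 h8
  have hP := parseval B hsymm v hv8 hv0
  obtain ⟨hpair, hpar⟩ := frame_pair B hsymm v hv8 hv0 hv2
  obtain ⟨hCL, hinj⟩ := frame_CL B hpos heven h2 h4 v hP hpair hpar
  obtain ⟨ε, e, hε, hmem⟩ := abstract_main hCL
  have hεsq : ∀ i, ε i * ε i = 1 := fun i => by rcases hε i with h1 | h1 <;> rw [h1] <;> norm_num
  let g : V →+ (GolayPt → ℤ) :=
    { toFun := fun x p => (ε * coord B v x) (e.symm p)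
      map_zero' := by funext p; simp
      map_add' := fun x y => by funext p; simp [mul_add] }
  have hg : ∀ x, g x ∈ leechLattice := fun x => (hmem (coord B v x)).mp ⟨x, rfl⟩
  have hbij : Function.Bijective (g.codRestrict leechLattice hg) := by
    constructor
    · intro x y hxy
      have h1 : g x = g y := congrArg Subtype.val hxy
      apply hinj
      funext i
      have h2 := congrFun h1 (e i)
      simp only [g, AddMonoidHom.coe_mk, ZeroHom.coe_mk, Pi.mul_apply, Equiv.symm_apply_apply] at h2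
      have h3 : ε i * (ε i * coord B v x i) = ε i * (ε i * coord B v y i) := by rw [h2]
      rw [← mul_assoc, ← mul_assoc, hεsq i, one_mul, one_mul] at h3
      exact h3
    · rintro ⟨z, hz⟩
      have hz' : (fun p => (ε * (ε * fun i => z (e i))) (e.symm p)) ∈ leechLattice := by
        have : (fun p => (ε * (ε * fun i => z (e i))) (e.symm p)) = z := by
          funext p
          simp only [Pi.mul_apply, Equiv.apply_symm_apply]
          rw [← mul_assoc, hεsq, one_mul]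
        rw [this]; exact hz
      obtain ⟨x, hx⟩ := (hmem (ε * fun i => z (e i))).mpr hz'
      refine ⟨x, Subtype.ext ?_⟩
      funext p
      show (ε * coord B v x) (e.symm p) = z p
      rw [hx]
      simp only [Pi.mul_apply, Equiv.apply_symm_apply]
      rw [← mul_assoc, hεsq, one_mul]
  refine ⟨AddEquiv.ofBijective (g.codRestrict leechLattice hg) hbij, fun x => ?_⟩
  show sqNorm (g x) = _
  rw [← hP x]
  unfold sqNorm
  rw [← Equiv.sum_comp e]
  refine Finset.sum_congr rfl fun i _ => ?_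
  simp only [g, AddMonoidHom.coe_mk, ZeroHom.coe_mk, Pi.mul_apply, Equiv.symm_apply_apply]
  rw [mul_pow, sq (ε i), hεsq i, one_mul]

end Cfsg.Agent.Helper7.CWM
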