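import Mathlib

set_option autoImplicit false

namespace Cfsg.Agent.Helper7

variable {α : Type*}

/-- The point stabiliser inside a permutation group, as a subgroup of the symmetric group. -/
abbrev stabIn (H : Subgroup (Equiv.Perm α)) (b : α) : Subgroup (Equiv.Perm α) :=
  H ⊓ MulAction.stabilizer (Equiv.Perm α) b

theorem mem_stabIn {H : Subgroup (Equiv.Perm α)} {b : α} {g : Equiv.Perm α} :
    g ∈ stabIn H b ↔ g ∈ H ∧ g b = b := by
  rw [stabIn, Subgroup.mem_inf, MulAction.mem_stabilizer_iff]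
  rfl

/-- The stabiliser of `b` in the group `H` is the same as `H ⊓ stabilizer b`. -/
def stabEquiv (H : Subgroup (Equiv.Perm α)) (b : α) :
    MulAction.stabilizer H b ≃ ↥(stabIn H b) where
  toFun g := ⟨g.1.1, mem_stabIn.mpr ⟨g.1.2, g.2⟩⟩
  invFun g := ⟨⟨g.1, (mem_stabIn.mp g.2).1⟩, (mem_stabIn.mp g.2).2⟩
  left_inv _ := rfl
  right_inv _ := rfl

/-- Orbit-stabiliser for subgroups of the symmetric group. -/
theorem card_eq_orbit_mul (H : Subgroup (Equiv.Perm α)) (b : α) :
    Nat.card H = Nat.card (MulAction.orbit H b) * Nat.card ↥(stabIn H b) := by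
  rw [← Nat.card_congr (MulAction.orbitProdStabilizerEquivGroup H b), Nat.card_prod,
    Nat.card_congr (stabEquiv H b)]

theorem mem_orbit_iff' (H : Subgroup (Equiv.Perm α)) (b q : α) :
    q ∈ MulAction.orbit H b ↔ ∃ g ∈ H, g b = q := by
  constructor
  · rintro ⟨g, rfl⟩
    exact ⟨g.1, g.2, rfl⟩
  · rintro ⟨g, hg, rfl⟩
    exact ⟨⟨g, hg⟩, rfl⟩

theorem card_orbit_le (H : Subgroup (Equiv.Perm α)) (b : α) (S : Finset α)
    (h : ∀ g ∈ H, g b ∈ S) : Nat.card (MulAction.orbit H b) ≤ S.card := by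
  rw [Nat.card_coe_set_eq, ← Set.ncard_coe_finset S]
  apply Set.ncard_le_ncard _ S.finite_toSet
  intro q hq
  obtain ⟨g, hg, rfl⟩ := (mem_orbit_iff' H b q).mp hq
  exact h g hg

theorem le_card_orbit [Finite α] (H : Subgroup (Equiv.Perm α)) (b : α) (T : Finset α)
    (h : ∀ q ∈ T, ∃ g ∈ H, g b = q) : T.card ≤ Nat.card (MulAction.orbit H b) := by
  rw [Nat.card_coe_set_eq, ← Set.ncard_coe_finset T]
  apply Set.ncard_le_ncard _ (Set.toFinite _)
  intro q hq
  exact (mem_orbit_iff' H b q).mpr (h q hq)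

theorem card_le_mul (H : Subgroup (Equiv.Perm α)) (b : α) (S : Finset α)
    (h : ∀ g ∈ H, g b ∈ S) : Nat.card H ≤ S.card * Nat.card ↥(stabIn H b) := by
  rw [card_eq_orbit_mul H b]
  exact Nat.mul_le_mul_right _ (card_orbit_le H b S h)

theorem mul_le_card [Finite α] (H : Subgroup (Equiv.Perm α)) (b : α) (T : Finset α)
    (h : ∀ q ∈ T, ∃ g ∈ H, g b = q) : T.card * Nat.card ↥(stabIn H b) ≤ Nat.card H := by
  rw [card_eq_orbit_mul H b]
  exact Nat.mul_le_mul_right _ (le_card_orbit H b T h)

end Cfsg.Agent.Helper7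

namespace Cfsg.Agent.Helper7

variable {α : Type*}

/-- Iterated point stabiliser. -/
def stabL (H : Subgroup (Equiv.Perm α)) : List α → Subgroup (Equiv.Perm α)
  | [] => H
  | b :: bs => stabL (stabIn H b) bs

theorem mem_stabL {H : Subgroup (Equiv.Perm α)} {bs : List α} {g : Equiv.Perm α} :
    g ∈ stabL H bs ↔ g ∈ H ∧ ∀ b ∈ bs, g b = b := by
  induction bs generalizing H with
  | nil => simp [stabL]
  | cons b bs ih =>
    rw [stabL, ih, mem_stabIn]
    constructor
    · rintro ⟨⟨h1, h2⟩, h3⟩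
      refine ⟨h1, ?_⟩
      intro x hx
      rcases List.mem_cons.mp hx with rfl | hx
      · exact h2
      · exact h3 x hx
    · rintro ⟨h1, h2⟩
      exact ⟨⟨h1, h2 b List.mem_cons_self⟩, fun x hx => h2 x (List.mem_cons_of_mem _ hx)⟩

theorem stabL_append (H : Subgroup (Equiv.Perm α)) (bs : List α) (b : α) :
    stabL H (bs ++ [b]) = stabIn (stabL H bs) b := by
  ext g
  rw [mem_stabL, mem_stabIn, mem_stabL]
  constructor
  · rintro ⟨h1, h2⟩
    exact ⟨⟨h1, fun x hx => h2 x (List.mem_append_left _ hx)⟩,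
      h2 b (List.mem_append_right _ List.mem_cons_self)⟩
  · rintro ⟨⟨h1, h2⟩, h3⟩
    refine ⟨h1, ?_⟩
    intro x hx
    rcases List.mem_append.mp hx with hx | hx
    · exact h2 x hx
    · rw [List.mem_singleton.mp hx]; exact h3

theorem stabL_mono {H K : Subgroup (Equiv.Perm α)} (h : H ≤ K) (bs : List α) :
    stabL H bs ≤ stabL K bs := by
  intro g hg
  rw [mem_stabL] at hg ⊢
  exact ⟨h hg.1, hg.2⟩

end Cfsg.Agent.Helper7

namespace Cfsg.Agent.Helper7

variable {α : Type*}

/-- The group is transitive along the base `bs`: the stabiliser of the first `i` base points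
moves the next base point to every point outside those `i` points. -/
def ChainTrans (G : Subgroup (Equiv.Perm α)) (bs : List α) : Prop :=
  ∀ i (hi : i < bs.length), ∀ q, q ∉ bs.take i → ∃ g ∈ stabL G (bs.take i), g (bs[i]) = q

/-- Multiple transitivity from transitivity along a base. -/
theorem ChainTrans.exists_map {G : Subgroup (Equiv.Perm α)} {bs : List α} (h : ChainTrans G bs)
    (xs : List α) (hx : xs.Nodup) (hlen : xs.length ≤ bs.length) :
    ∃ g ∈ G, (bs.take xs.length).map g = xs := by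
  induction xs using List.reverseRecOn with
  | nil => exact ⟨1, G.one_mem, by simp⟩
  | append_singleton ys x ih =>
    rw [List.length_append, List.length_singleton] at hlen ⊢
    have hy : ys.Nodup := (List.nodup_append.mp hx).1
    have hxy : x ∉ ys := by
      intro hmem
      have := (List.nodup_append.mp hx).2.2
      exact this x hmem x (List.mem_singleton_self x) rfl
    obtain ⟨g, hg, hgy⟩ := ih hy (by omega)
    have hi : ys.length < bs.length := by omega
    have hq : g⁻¹ x ∉ bs.take ys.length := by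
      intro hmem
      apply hxy
      rw [← hgy, List.mem_map]
      exact ⟨g⁻¹ x, hmem, by simp⟩
    obtain ⟨k, hk, hkq⟩ := h ys.length hi _ hq
    rw [mem_stabL] at hk
    refine ⟨g * k, G.mul_mem hg hk.1, ?_⟩
    rw [List.take_succ_eq_append_getElem hi, List.map_append, List.map_singleton]
    congr 1
    · refine Eq.trans ?_ hgy
      apply List.map_congr_left
      intro b hb
      rw [Equiv.Perm.mul_apply, hk.2 b hb]
    · rw [Equiv.Perm.mul_apply, hkq]
      simp

/-- Transitivity on injective tuples of the length of the base. -/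
theorem ChainTrans.exists_map_map {G : Subgroup (Equiv.Perm α)} {bs : List α} (h : ChainTrans G bs)
    (xs ys : List α) (hx : xs.Nodup) (hy : ys.Nodup) (hxl : xs.length = ys.length)
    (hlen : xs.length ≤ bs.length) : ∃ g ∈ G, xs.map g = ys := by
  obtain ⟨g1, hg1, h1⟩ := h.exists_map xs hx hlen
  obtain ⟨g2, hg2, h2⟩ := h.exists_map ys hy (hxl ▸ hlen)
  refine ⟨g2 * g1⁻¹, G.mul_mem hg2 (G.inv_mem hg1), ?_⟩
  rw [← h1, List.map_map, ← h2, hxl]
  apply List.map_congr_left
  intro b _
  simp

end Cfsg.Agent.Helper7
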