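import Cfsg.Agent.Lib.Helper7.LeechMono
import Cfsg.Agent.Lib.Helper91.LeechMod2

/-!
# The centre of `Co0` is `{1, -1}`
-/

set_option autoImplicit false

namespace Cfsg.Agent.Helper7
open Cfsg Cfsg.Agent.Helper91 Cfsg.Agent.Helper92
open scoped Pointwise

/-- the code separates points: kernel check on bit masks -/
theorem code_sep_check : ∀ a < 24, ∀ b < 24, a ≠ b →
    codeList.any (fun m => m.testBit a && !m.testBit b) = true := by
  decide +kernel

/-- Two distinct points are separated by a code word. -/
theorem code_separates (i j : GolayPt) (hij : i ≠ j) : ∃ c ∈ Code, i ∈ c ∧ j ∉ c := by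
  have h := code_sep_check (idx i) (idx_lt i) (idx j) (idx_lt j) (fun h => hij (idx_injective h))
  rw [List.any_eq_true] at h
  obtain ⟨m, hm, hb⟩ := h
  rw [Bool.and_eq_true, Bool.not_eq_true'] at hb
  refine ⟨ofMask m, (mem_supports_iff_codeList _).mpr ⟨m, hm, rfl⟩, ?_, ?_⟩
  · rw [mem_ofMask]; exact hb.1
  · rw [mem_ofMask, hb.2]; simp

/-- negation as a permutation of the lattice -/
def negPerm : Equiv.Perm leechLattice := Equiv.neg leechLattice

theorem negPerm_apply (x : leechLattice) : negPerm x = -x := rfl

theorem negPerm_mem : negPerm ∈ Co0 :=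
  ⟨fun v w => by simp only [negPerm_apply, neg_add], fun v => by
    rw [negPerm_apply, AddSubgroup.coe_neg, sqNorm_neg]⟩

theorem co0_map_neg (g : Equiv.Perm leechLattice) (hg : g ∈ Co0) (x : leechLattice) :
    g (-x) = -g x := (co0Hom g hg).map_neg x

theorem negPerm_comm (g : Equiv.Perm leechLattice) (hg : g ∈ Co0) : g * negPerm = negPerm * g := by
  ext x : 1
  simp only [Equiv.Perm.mul_apply, negPerm_apply, co0_map_neg g hg]

theorem frameVec_ne_zero (i : GolayPt) : frameVec i ≠ 0 := by
  intro h
  have := congrArg (fun v : leechLattice => v.1 i) h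
  simp [frameVec_val] at this

theorem negPerm_ne_one : negPerm ≠ 1 := by
  intro h
  have := congrArg (fun g : Equiv.Perm leechLattice => (g (frameVec none)).1 none) h
  simp [negPerm_apply, frameVec_val] at this

theorem monoPerm_one_frame (c : Finset GolayPt) (hc : c ∈ Code) (i : GolayPt) :
    monoPerm 1 c M24.one_mem hc (frameVec i) = if i ∈ c then -frameVec i else frameVec i := by
  apply Subtype.ext
  rw [monoPerm_val, frameVec_val, signedPerm_single]
  have e : (1 : Equiv.Perm GolayPt) i = i := rfl
  rw [e]
  by_cases h : i ∈ c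
  · rw [if_pos h, if_pos h, AddSubgroup.coe_neg, frameVec_val, Pi.single_neg]
  · rw [if_neg h, if_neg h, frameVec_val]

theorem monoPerm_empty_frame (σ : Equiv.Perm GolayPt) (hσ : σ ∈ M24) (i : GolayPt) :
    monoPerm σ ∅ hσ empty_mem (frameVec i) = frameVec (σ i) := by
  apply Subtype.ext
  rw [monoPerm_val, frameVec_val, signedPerm_single]
  simp [frameVec_val]

/-- A central element maps every frame vector to a multiple of itself. -/
theorem central_frame (z : Equiv.Perm leechLattice) (hz : z ∈ Co0)
    (hcomm : ∀ g ∈ Co0, g * z = z * g) (i : GolayPt) :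
    ((z (frameVec i) : leechLattice) : GolayPt → ℤ) = Pi.single i 8 ∨
      ((z (frameVec i) : leechLattice) : GolayPt → ℤ) = Pi.single i (-8) := by
  set w := z (frameVec i) with hw
  have hzero : ∀ j, j ≠ i → w.1 j = 0 := by
    intro j hji
    obtain ⟨c, hc, hic, hjc⟩ := code_separates i j (Ne.symm hji)
    have h1 := congrArg (fun g : Equiv.Perm leechLattice => g (frameVec i))
      (hcomm _ (monoPerm_mem 1 c M24.one_mem hc))
    simp only [Equiv.Perm.mul_apply] at h1
    rw [monoPerm_one_frame, if_pos hic, co0_map_neg z hz, ← hw] at h1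
    have h2 := congrArg (fun v : leechLattice => v.1 j) h1
    simp only [monoPerm_val, signedPerm_apply, if_neg hjc,
      AddSubgroup.coe_neg, Pi.neg_apply] at h2
    have : (Equiv.symm (1 : Equiv.Perm GolayPt)) j = j := rfl
    rw [this] at h2
    omega
  have hsingle : w.1 = Pi.single i (w.1 i) := by
    funext j
    by_cases hj : j = i
    · subst hj; rw [Pi.single_eq_same]
    · rw [Pi.single_eq_of_ne hj, hzero j hj]
  have hnorm : sqNorm w.1 = 64 := by
    rw [hw, hz.2 (frameVec i), frameVec_val]
    unfold sqNorm
    rw [Finset.sum_eq_single i]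
    · simp
    · intro j _ hj; rw [Pi.single_eq_of_ne hj]; ring
    · intro h; exact absurd (Finset.mem_univ i) h
  have hsq : (w.1 i) ^ 2 = 64 := by
    rw [hsingle] at hnorm
    unfold sqNorm at hnorm
    rw [Finset.sum_eq_single i] at hnorm
    · simpa using hnorm
    · intro j _ hj; rw [Pi.single_eq_of_ne hj]; ring
    · intro h; exact absurd (Finset.mem_univ i) h
  have h8 : w.1 i = 8 ∨ w.1 i = -8 := by
    have : (w.1 i - 8) * (w.1 i + 8) = 0 := by ring_nf; omega
    rcases mul_eq_zero.mp this with h | h
    · left; omega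
    · right; omega
  rcases h8 with h | h
  · left; rw [hsingle, h]
  · right; rw [hsingle, h]

/-- the sign is the same for all frame vectors -/
theorem central_frame_const (z : Equiv.Perm leechLattice) (hz : z ∈ Co0)
    (hcomm : ∀ g ∈ Co0, g * z = z * g) (s : ℤ) (i j : GolayPt)
    (hi : ((z (frameVec i) : leechLattice) : GolayPt → ℤ) = Pi.single i s) :
    ((z (frameVec j) : leechLattice) : GolayPt → ℤ) = Pi.single j s := by
  obtain ⟨σ, hσ, hmap⟩ := m24_five_trans [i] [j] (List.nodup_singleton _) (List.nodup_singleton _)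
    rfl (by simp)
  have hσij : σ i = j := by simpa using hmap
  have h1 := congrArg (fun g : Equiv.Perm leechLattice => g (frameVec i))
    (hcomm _ (monoPerm_mem σ ∅ hσ empty_mem))
  simp only [Equiv.Perm.mul_apply] at h1
  rw [monoPerm_empty_frame, hσij] at h1
  rw [← h1, monoPerm_val, hi, signedPerm_single, hσij]
  simp

theorem central_cases (z : Equiv.Perm leechLattice) (hz : z ∈ Co0)
    (hcomm : ∀ g ∈ Co0, g * z = z * g) : z = 1 ∨ z = negPerm := by
  rcases central_frame z hz hcomm none with h | h
  · left
    have key : co0Hom z hz = AddMonoidHom.id _ := by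
      apply addHom_ext_frame
      intro i
      apply Subtype.ext
      rw [co0Hom_apply, central_frame_const z hz hcomm 8 none i h]
      rfl
    ext x : 1
    have := DFunLike.congr_fun key x
    rw [co0Hom_apply] at this
    rw [this]; rfl
  · right
    have key : co0Hom z hz = -AddMonoidHom.id _ := by
      apply addHom_ext_frame
      intro i
      apply Subtype.ext
      rw [co0Hom_apply, central_frame_const z hz hcomm (-8) none i h]
      simp only [AddMonoidHom.neg_apply, AddMonoidHom.id_apply, AddSubgroup.coe_neg, frameVec_val,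
        Pi.single_neg]
    ext x : 1
    have := DFunLike.congr_fun key x
    rw [co0Hom_apply] at this
    rw [this]; rfl

theorem card_center_Co0 : Nat.card (Subgroup.center Co0) = 2 := by
  rw [Nat.card_eq_two_iff]
  have hneg : (⟨negPerm, negPerm_mem⟩ : Co0) ∈ Subgroup.center Co0 := by
    rw [Subgroup.mem_center_iff]
    intro g
    apply Subtype.ext
    exact negPerm_comm g.1 g.2
  refine ⟨1, ⟨⟨negPerm, negPerm_mem⟩, hneg⟩, ?_, ?_⟩
  · intro h
    have := congrArg (fun t : Subgroup.center Co0 => (t.1.1 : Equiv.Perm leechLattice)) h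
    exact negPerm_ne_one this.symm
  · ext t
    simp only [Set.mem_insert_iff, Set.mem_singleton_iff, Set.mem_univ, iff_true]
    have ht := t.2
    rw [Subgroup.mem_center_iff] at ht
    have hcomm : ∀ g ∈ Co0, g * t.1.1 = t.1.1 * g := by
      intro g hg
      have := congrArg (fun u : Co0 => (u.1 : Equiv.Perm leechLattice)) (ht ⟨g, hg⟩)
      exact this
    rcases central_cases t.1.1 t.1.2 hcomm with h | h
    · left
      apply Subtype.ext
      apply Subtype.ext
      exact h
    · right
      apply Subtype.ext
      apply Subtype.ext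
      exact h

end Cfsg.Agent.Helper7
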