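import Cfsg.Agent.Lib.Helper7.LeechXi
import Cfsg.Agent.Lib.Helper7.Co0Center
import Cfsg.Agent.Lib.Helper7.K0
import Cfsg.Agent.Lib.Helper7.LeechShapes
import Cfsg.Agent.Lib.Helper7.Weights
import Cfsg.Agent.Lib.Helper92.LeechIndex

/-!
# Orbits of the automorphism group of the Leech lattice: general tools
-/

set_option autoImplicit false

namespace Cfsg.Agent.Helper7
open Cfsg Cfsg.Agent.Helper91 Cfsg.Agent.Helper92
open scoped Pointwise

/-- two lattice vectors are in the same orbit of the automorphism group -/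
def Orb (v w : leechLattice) : Prop := ∃ g : Equiv.Perm leechLattice, g ∈ Co0 ∧ g v = w

theorem Orb.refl (v : leechLattice) : Orb v v := ⟨1, Co0.one_mem, rfl⟩

theorem Orb.symm {v w : leechLattice} (h : Orb v w) : Orb w v := by
  obtain ⟨g, hg, rfl⟩ := h
  exact ⟨g⁻¹, Co0.inv_mem hg, by simp⟩

theorem Orb.trans {u v w : leechLattice} (h : Orb u v) (h' : Orb v w) : Orb u w := by
  obtain ⟨g, hg, rfl⟩ := h
  obtain ⟨g', hg', rfl⟩ := h'
  exact ⟨g' * g, Co0.mul_mem hg' hg, rfl⟩

theorem Orb.smul {v w : leechLattice} (h : Orb v w) : ∃ g : Co0, g • v = w := by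
  obtain ⟨g, hg, rfl⟩ := h
  exact ⟨⟨g, hg⟩, rfl⟩

theorem orb_xi (v : leechLattice) : Orb v (xiPerm v) := ⟨xiPerm, xiPerm_mem, rfl⟩

/-- reaching a vector by a monomial automorphism -/
theorem orb_of_signedPerm {v w : leechLattice} (σ : Equiv.Perm GolayPt) (c : Finset GolayPt)
    (hσ : σ ∈ M24) (hc : c ∈ Code)
    (h : ∀ i, w.1 i = if i ∈ c then -v.1 (σ.symm i) else v.1 (σ.symm i)) : Orb v w := by
  refine ⟨monoPerm σ c hσ hc, monoPerm_mem σ c hσ hc, ?_⟩
  apply Subtype.ext
  rw [monoPerm_val]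
  funext i
  rw [signedPerm_apply, h i]

/-! ### Explicit lattice vectors -/

/-- the integer vector given by a list of 24 coordinates -/
def vecOf (l : List ℤ) : GolayPt → ℤ := fun p => l.getD (idx p) 0

/-- certificate check for membership of an explicit vector in the lattice -/
def latOK (l : List ℤ) (e : ℕ) (s : ℕ) : Bool :=
  decide (e < 2) && Nat.beq (encMask s) s && decide (s < 2 ^ 24) &&
  (List.range 24).all (fun i =>
    decide (l.getD i 0 % 4 = if s.testBit i then (e : ℤ) + 2 else (e : ℤ))) &&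
  decide (((List.range 24).map (fun i => l.getD i 0)).sum % 8 = 4 * (e : ℤ))

theorem sum_allPts {M : Type*} [AddCommMonoid M] (f : GolayPt → M) :
    ∑ p, f p = (allPts.map f).sum := by
  rw [← List.sum_toFinset f allPts_nodup]
  congr 1
  ext p
  simp [mem_allPts]

theorem sum_vecOf (l : List ℤ) :
    ∑ p, vecOf l p = ((List.range 24).map (fun i => l.getD i 0)).sum := by
  rw [sum_allPts]
  unfold allPts
  rw [List.map_map]
  rfl

theorem sqNorm_nonneg' (x : GolayPt → ℤ) : 0 ≤ sqNorm x := by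
  unfold sqNorm
  exact Finset.sum_nonneg (fun i _ => sq_nonneg (x i))

theorem vecOf_mem (l : List ℤ) (e s : ℕ) (h : latOK l e s = true) : vecOf l ∈ leechLattice := by
  unfold latOK at h
  simp only [Bool.and_eq_true, decide_eq_true_eq, Nat.beq_eq, List.all_eq_true, List.mem_range] at h
  obtain ⟨⟨⟨⟨he, hs⟩, hlt⟩, hall⟩, hsum⟩ := h
  have hmem : vecOf l ∈ {x : GolayPt → ℤ | x ∈ leechLattice ∧ sqNorm x = ((sqNorm (vecOf l)).toNat : ℕ) ∧
      ∀ i, (fun _ : ℤ => true) (x i) = true} := by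
    rw [leech_decomp (fun _ : ℤ => true) (sqNorm (vecOf l)).toNat]
    simp only [Set.mem_iUnion, Finset.mem_coe, exists_prop]
    refine ⟨(e, ofMask s), (mem_fibKeys _).mpr ⟨he, (ofMask_mem_iff s hlt).mpr hs⟩, ?_, ?_, ?_,
      fun _ => rfl⟩
    · intro p
      have := hall (idx p) (idx_lt p)
      simp only [mem_ofMask]
      exact this
    · rw [sum_vecOf]; exact hsum
    · exact (Int.toNat_of_nonneg (sqNorm_nonneg' _)).symm
  exact hmem.1

/-! ### The histogram of absolute values -/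

/-- the number of coordinates of absolute value `k` -/
def cnt (x : GolayPt → ℤ) (k : ℕ) : ℕ := (Finset.univ.filter (fun i => (x i).natAbs = k)).card

theorem hist_gen (x : GolayPt → ℤ) (hB : ∀ i, (x i).natAbs < 7) (f : ℕ → ℤ) :
    ∑ i, f (x i).natAbs = ∑ k ∈ Finset.range 7, (cnt x k : ℤ) * f k := by
  rw [← Finset.sum_fiberwise_of_maps_to (s := Finset.univ) (t := Finset.range 7)
    (g := fun i => (x i).natAbs) (fun i _ => Finset.mem_range.mpr (hB i))]
  apply Finset.sum_congr rfl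
  intro k _
  rw [Finset.sum_congr rfl (fun i hi => by rw [(Finset.mem_filter.mp hi).2]), Finset.sum_const,
    nsmul_eq_mul]
  rfl

theorem natAbs_lt_seven (x : GolayPt → ℤ) (n : ℤ) (hn : sqNorm x = n) (h48 : n ≤ 48)
    (i : GolayPt) : (x i).natAbs < 7 := by
  have h1 : x i ^ 2 ≤ sqNorm x := by
    unfold sqNorm
    exact Finset.single_le_sum (f := fun j => x j ^ 2) (fun j _ => sq_nonneg (x j))
      (Finset.mem_univ i)
  have h2 : x i ^ 2 ≤ 48 := by omega
  have h3 : ((x i).natAbs : ℤ) ^ 2 ≤ 48 := by rw [Int.natAbs_sq]; exact h2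
  by_contra hc
  have : (7 : ℤ) ≤ (x i).natAbs := by omega
  nlinarith

/-- the histogram identities -/
theorem hist (x : GolayPt → ℤ) (n : ℤ) (hn : sqNorm x = n) (h48 : n ≤ 48) :
    cnt x 0 + cnt x 1 + cnt x 2 + cnt x 3 + cnt x 4 + cnt x 5 + cnt x 6 = 24 ∧
    (n : ℤ) = cnt x 1 + 4 * cnt x 2 + 9 * cnt x 3 + 16 * cnt x 4 + 25 * cnt x 5 + 36 * cnt x 6 := by
  have hB := natAbs_lt_seven x n hn h48
  constructor
  · have h := hist_gen x hB (fun _ => 1)
    simp only [Finset.sum_const, Finset.card_univ, nsmul_eq_mul, mul_one,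
      Finset.sum_range_succ, Finset.sum_range_zero, zero_add] at h
    have hc : Fintype.card GolayPt = 24 := by decide
    rw [hc] at h
    exact_mod_cast h.symm
  · have h := hist_gen x hB (fun k => (k : ℤ) ^ 2)
    simp only [Int.natAbs_sq, Finset.sum_range_succ, Finset.sum_range_zero, zero_add] at h
    unfold sqNorm at hn
    rw [hn] at h
    rw [h]
    push_cast
    ring

theorem cnt_eq_zero (x : GolayPt → ℤ) (k : ℕ) (h : ∀ i, (x i).natAbs ≠ k) : cnt x k = 0 := by
  unfold cnt
  rw [Finset.card_eq_zero, Finset.filter_eq_empty_iff]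
  intro i _
  exact h i

/-- a lattice vector has a parity witness -/
theorem isLeech_of_mem {x : GolayPt → ℤ} (hx : x ∈ leechLattice) : ∃ m, IsLeech m x := by
  have hS : x ∈ leechSet := by rw [← leechLattice_coe]; exact hx
  exact hS

theorem resSet_mem {x : GolayPt → ℤ} (hx : x ∈ leechLattice) (k : ℤ) : resSet x k ∈ Code := by
  obtain ⟨m, -, -, h⟩ := isLeech_of_mem hx
  exact h k

theorem sum_mod_eight {x : GolayPt → ℤ} (hx : x ∈ leechLattice) (i : GolayPt) :
    (∑ j, x j) % 8 = 4 * (x i % 2) := by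
  obtain ⟨m, h1, h2, -⟩ := isLeech_of_mem hx
  have := h1 i
  unfold Int.ModEq at this h2
  omega

/-! ### Realising sign changes on a set by code words -/

/-- every even subset of `X` is cut out on `X` by a code word -/
def Real (X : Finset GolayPt) : Prop := ∀ E ⊆ X, Even E.card → ∃ c ∈ Code, c ∩ X = E

theorem real_of_pairs (X : Finset GolayPt)
    (hp : ∀ i ∈ X, ∀ j ∈ X, i ≠ j → ∃ c ∈ Code, c ∩ X = {i, j}) : Real X := by
  intro E
  induction' hn : E.card using Nat.strong_induction_on with n ih generalizing E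
  intro hE hev
  by_cases h0 : E = ∅
  · exact ⟨∅, Helper92.empty_mem, by rw [h0]; simp⟩
  obtain ⟨i, hi⟩ := Finset.nonempty_iff_ne_empty.mpr h0
  have hc1 : 1 ≤ E.card := Finset.card_pos.mpr ⟨i, hi⟩
  have hc2 : 2 ≤ E.card := by
    obtain ⟨r, hr⟩ := hev
    omega
  have hne : (E.erase i).Nonempty := by
    rw [← Finset.card_pos, Finset.card_erase_of_mem hi]
    omega
  obtain ⟨j, hj⟩ := hne
  have hji : j ≠ i := Finset.ne_of_mem_erase hj
  have hjE : j ∈ E := Finset.mem_of_mem_erase hj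
  set E' := (E.erase i).erase j with hE'
  have hcard : E'.card = E.card - 2 := by
    rw [hE', Finset.card_erase_of_mem hj, Finset.card_erase_of_mem hi]
    omega
  have hE'sub : E' ⊆ X := fun k hk => hE (Finset.mem_of_mem_erase (Finset.mem_of_mem_erase hk))
  have hev' : Even E'.card := by
    rw [hcard]
    obtain ⟨r, hr⟩ := hev
    exact ⟨r - 1, by omega⟩
  obtain ⟨c', hc', hcE'⟩ := ih E'.card (by rw [hcard]; omega) E' rfl hE'sub hev'
  obtain ⟨cij, hcij, hcijE⟩ := hp i (hE hi) j (hE hjE) (Ne.symm hji)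
  refine ⟨symmDiff c' cij, symmDiff_mem hc' hcij, ?_⟩
  ext k
  have h1 : k ∈ c' ∩ X ↔ k ∈ E' := by rw [hcE']
  have h2 : k ∈ cij ∩ X ↔ k ∈ ({i, j} : Finset GolayPt) := by rw [hcijE]
  simp only [Finset.mem_inter, Finset.mem_insert, Finset.mem_singleton, hE', Finset.mem_erase] at h1 h2
  simp only [Finset.mem_inter, Finset.mem_symmDiff]
  constructor
  · rintro ⟨hk, hkX⟩
    rcases hk with ⟨hk1, hk2⟩ | ⟨hk1, hk2⟩
    · exact (h1.mp ⟨hk1, hkX⟩).2.2
    · rcases h2.mp ⟨hk1, hkX⟩ with rfl | rfl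
      · exact hi
      · exact hjE
  · intro hk
    have hkX := hE hk
    refine ⟨?_, hkX⟩
    by_cases hki : k = i
    · right
      refine ⟨(h2.mpr (Or.inl hki)).1, fun hc => ?_⟩
      exact (h1.mp ⟨hc, hkX⟩).2.1 hki
    · by_cases hkj : k = j
      · right
        refine ⟨(h2.mpr (Or.inr hkj)).1, fun hc => ?_⟩
        exact (h1.mp ⟨hc, hkX⟩).1 hkj
      · left
        refine ⟨(h1.mpr ⟨hkj, hki, hk⟩).1, fun hc => ?_⟩
        rcases h2.mp ⟨hc, hkX⟩ with h | h
        · exact hki h
        · exact hkj h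

/-- the check that all pairs in a set given by a mask are cut out by code words -/
def pairOK (m : ℕ) : Bool :=
  (List.range 24).all fun i => (List.range 24).all fun j =>
    !(m.testBit i && m.testBit j && !(Nat.beq i j)) ||
      codeList.any (fun c => Nat.beq (Nat.land c m) (Nat.lor (Nat.shiftLeft 1 i) (Nat.shiftLeft 1 j)))

theorem real_of_check (m : ℕ) (h : pairOK m = true) : Real (ofMask m) := by
  apply real_of_pairs
  intro i hi j hj hij
  unfold pairOK at h
  rw [List.all_eq_true] at h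
  have h1 := h (idx i) (List.mem_range.mpr (idx_lt i))
  rw [List.all_eq_true] at h1
  have h2 := h1 (idx j) (List.mem_range.mpr (idx_lt j))
  rw [mem_ofMask] at hi hj
  have hne : idx i ≠ idx j := fun h => hij (idx_injective h)
  have hb : Nat.beq (idx i) (idx j) = false := by
    rw [← Bool.not_eq_true, Nat.beq_eq]; exact hne
  rw [hi, hj, hb] at h2
  simp only [Bool.and_self, Bool.not_false, Bool.not_true, Bool.false_or, List.any_eq_true,
    Nat.beq_eq] at h2
  obtain ⟨c, hc, hcm⟩ := h2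
  refine ⟨ofMask c, (ofMask_mem_iff c (codeList_lt hc)).mpr (codeList_enc hc), ?_⟩
  rw [← ofMask_land, hcm, ofMask_lor, ofMask_single _ (idx_lt i), ofMask_single _ (idx_lt j),
    pt_idx, pt_idx]
  rfl

/-! ### Reaching vectors in the standard shapes -/

/-- odd vectors: matching absolute values under a code automorphism suffice -/
theorem orb_odd {b x : leechLattice} (hb : ∀ i, b.1 i % 4 = 1) (hx : ∀ i, x.1 i % 2 = 1)
    (σ : Equiv.Perm GolayPt) (hσ : σ ∈ M24)
    (h : ∀ i, (x.1 i).natAbs = (b.1 (σ.symm i)).natAbs) : Orb b x := by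
  apply orb_of_signedPerm σ (resSet x.1 3) hσ (resSet_mem x.2 3)
  intro i
  have h1 := h i
  have h2 := hb (σ.symm i)
  have h3 := hx i
  have hm := mem_resSet x.1 3 i
  unfold Int.ModEq at hm
  by_cases hi : i ∈ resSet x.1 3
  · rw [if_pos hi]
    have := hm.mp hi
    omega
  · rw [if_neg hi]
    have : ¬ (x.1 i % 4 = 3 % 4) := fun hc => hi (hm.mpr hc)
    omega

theorem orb_twoInd {X' : Finset GolayPt} (hX' : X' ∈ Code) (hR : Real X') (x : leechLattice)
    (hx : ∀ i, x.1 i = 0 ∨ x.1 i = 2 ∨ x.1 i = -2) (σ : Equiv.Perm GolayPt) (hσ : σ ∈ M24)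
    (hsupp : ∀ i, x.1 i ≠ 0 ↔ σ.symm i ∈ X') : Orb ⟨twoInd X', twoInd_mem hX'⟩ x := by
  classical
  set E' : Finset GolayPt := Finset.univ.filter (fun k => x.1 (σ k) = -2) with hE'
  have hsub : E' ⊆ X' := by
    intro k hk
    rw [hE', Finset.mem_filter] at hk
    have := (hsupp (σ k)).mp (by rw [hk.2]; norm_num)
    rwa [σ.symm_apply_apply] at this
  have hpt : ∀ k, x.1 (σ k) = (if k ∈ X' then 2 else 0) - (if k ∈ E' then 4 else 0) := by
    intro k
    have h1 := hsupp (σ k)
    rw [σ.symm_apply_apply] at h1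
    have h2 : k ∈ E' ↔ x.1 (σ k) = -2 := by rw [hE', Finset.mem_filter]; simp
    rcases hx (σ k) with h | h | h
    · have : k ∉ X' := fun hc => (h1.mpr hc) h
      have h3 : k ∉ E' := fun hc => this (hsub hc)
      rw [if_neg this, if_neg h3, h]; norm_num
    · have : k ∈ X' := h1.mp (by rw [h]; norm_num)
      have h3 : k ∉ E' := fun hc => by rw [h2, h] at hc; norm_num at hc
      rw [if_pos this, if_neg h3, h]; norm_num
    · have : k ∈ X' := h1.mp (by rw [h]; norm_num)
      have h3 : k ∈ E' := h2.mpr h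
      rw [if_pos this, if_pos h3, h]; norm_num
  have hsum : ∑ i, x.1 i = 2 * (X'.card : ℤ) - 4 * (E'.card : ℤ) := by
    rw [← Equiv.sum_comp σ, Finset.sum_congr rfl (fun k _ => hpt k), Finset.sum_sub_distrib,
      Finset.sum_ite_mem, Finset.sum_ite_mem, Finset.univ_inter, Finset.univ_inter,
      Finset.sum_const, Finset.sum_const]
    simp only [nsmul_eq_mul]
    ring
  have hev : Even E'.card := by
    have h8 := sum_mod_eight x.2 none
    have h2 : x.1 none % 2 = 0 := by rcases hx none with h | h | h <;> rw [h] <;> norm_num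
    obtain ⟨r, hr⟩ := four_dvd_card hX'
    rw [hsum, h2, hr] at h8
    push_cast at h8
    rw [Nat.even_iff]
    omega
  obtain ⟨c', hc', hcE⟩ := hR E' hsub hev
  apply orb_of_signedPerm σ (σ • c') hσ (smul_mem hσ hc')
  intro i
  show x.1 i = if i ∈ σ • c' then -twoInd X' (σ.symm i) else twoInd X' (σ.symm i)
  have hk := hpt (σ.symm i)
  rw [σ.apply_symm_apply] at hk
  have hmem : σ.symm i ∈ c' ∩ X' ↔ σ.symm i ∈ E' := by rw [hcE]
  rw [Finset.mem_inter] at hmem
  have hsm := mem_smul_iff σ c' i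
  rw [hk]
  unfold twoInd
  by_cases h1 : σ.symm i ∈ X'
  · by_cases h2 : σ.symm i ∈ c'
    · rw [if_pos h1, if_pos (hmem.mp ⟨h2, h1⟩), if_pos (hsm.mpr h2)]; norm_num
    · rw [if_pos h1, if_neg (fun hc => h2 (hmem.mpr hc).1), if_neg (fun hc => h2 (hsm.mp hc))]
      norm_num
  · have h3 : σ.symm i ∉ E' := fun hc => h1 (hsub hc)
    rw [if_neg h1, if_neg h3]
    split_ifs <;> norm_num

/-- counting coordinates by a property of their absolute values -/
theorem card_filter_natAbs (x : GolayPt → ℤ) (hB : ∀ i, (x i).natAbs < 7) (P : ℕ → Prop)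
    [DecidablePred P] :
    ((Finset.univ.filter (fun i => P (x i).natAbs)).card : ℤ) =
      ∑ k ∈ Finset.range 7, (cnt x k : ℤ) * (if P k then 1 else 0) := by
  rw [← hist_gen x hB (fun k => if P k then 1 else 0), Finset.sum_boole]

theorem cnt_pos_of (x : GolayPt → ℤ) (k : ℕ) (i : GolayPt) (h : (x i).natAbs = k) :
    0 < cnt x k := by
  unfold cnt
  rw [Finset.card_pos]
  exact ⟨i, Finset.mem_filter.mpr ⟨Finset.mem_univ _, h⟩⟩

theorem ne_of_cnt_zero (x : GolayPt → ℤ) (k : ℕ) (h : cnt x k = 0) (i : GolayPt) :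
    (x i).natAbs ≠ k := by
  intro hc
  have := cnt_pos_of x k i hc
  omega

/-- code words separating two points in any prescribed way -/
theorem sign_fix2 (i j : GolayPt) (hij : i ≠ j) (P Q : Prop) :
    ∃ c ∈ Code, (i ∈ c ↔ P) ∧ (j ∈ c ↔ Q) := by
  by_cases hP : P <;> by_cases hQ : Q
  · exact ⟨Finset.univ, Helper92.univ_mem, by simp [hP], by simp [hQ]⟩
  · obtain ⟨c, hc, h1, h2⟩ := code_separates i j hij
    exact ⟨c, hc, by simp [hP, h1], by simp [hQ, h2]⟩
  · obtain ⟨c, hc, h1, h2⟩ := code_separates j i hij.symm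
    exact ⟨c, hc, by simp [hP, h2], by simp [hQ, h1]⟩
  · exact ⟨∅, Helper92.empty_mem, by simp [hP], by simp [hQ]⟩

end Cfsg.Agent.Helper7
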