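import Cfsg.Agent.Lib.Helper7.Co0Orb

/-!
# Orbits of the automorphism group of the Leech lattice: sign changes
-/

set_option autoImplicit false

namespace Cfsg.Agent.Helper7
open Cfsg Cfsg.Agent.Helper91 Cfsg.Agent.Helper92
open scoped Pointwise

theorem real_smul {σ : Equiv.Perm GolayPt} (hσ : σ ∈ M24) {X : Finset GolayPt} (hR : Real X) :
    Real (σ • X) := by
  intro E hE hev
  have hsub : σ⁻¹ • E ⊆ X := by
    intro k hk
    rw [mem_smul_iff] at hk
    have := hE hk
    rw [mem_smul_iff] at this
    have e : (σ⁻¹).symm k = σ k := rfl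
    rw [e, σ.symm_apply_apply] at this
    exact this
  obtain ⟨c', hc', hcE⟩ := hR (σ⁻¹ • E) hsub (by rwa [Finset.card_smul_finset])
  refine ⟨σ • c', smul_mem hσ hc', ?_⟩
  rw [← Finset.smul_finset_inter, hcE, smul_inv_smul]

theorem baseOct_real : Real O0 := real_of_check baseOct (by decide +kernel)

theorem real_octad {O : Finset GolayPt} (hO : O ∈ octads) : Real O := by
  obtain ⟨g, hg, hgO⟩ := octad_trans O0_mem hO
  rw [← hgO]
  exact real_smul hg baseOct_real

/-- a sign change relating two lattice vectors -/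
theorem orb_sign {x y : leechLattice} (habs : ∀ i, (x.1 i).natAbs = (y.1 i).natAbs)
    (c : Finset GolayPt) (hc : c ∈ Code) (h : ∀ i, y.1 i ≠ 0 → (i ∈ c ↔ x.1 i ≠ y.1 i)) :
    Orb y x := by
  apply orb_of_signedPerm 1 c M24.one_mem hc
  intro i
  show x.1 i = if i ∈ c then -y.1 i else y.1 i
  have h1 := habs i
  by_cases h0 : y.1 i = 0
  · rw [h0] at h1 ⊢
    have : x.1 i = 0 := by omega
    rw [this]
    split_ifs <;> norm_num
  · have h2 := h i h0
    by_cases hi : i ∈ c
    · rw [if_pos hi]
      have := h2.mp hi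
      omega
    · rw [if_neg hi]
      have : ¬ (x.1 i ≠ y.1 i) := fun hh => hi (h2.mpr hh)
      omega

/-- two even lattice vectors with the same absolute values differ in an even number of the
coordinates that are 2 modulo 4 -/
theorem even_diff_card {x y : leechLattice} (hx : ∀ i, x.1 i % 2 = 0)
    (habs : ∀ i, (x.1 i).natAbs = (y.1 i).natAbs) :
    Even (Finset.univ.filter (fun i => x.1 i ≠ y.1 i ∧ y.1 i % 4 = 2)).card := by
  have hsx := sum_mod_eight x.2 none
  have hsy := sum_mod_eight y.2 none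
  have hy0 : y.1 none % 2 = 0 := by
    have := habs none
    have := hx none
    omega
  rw [hx none] at hsx
  rw [hy0] at hsy
  have hd : (8 : ℤ) ∣ ∑ i, ((x.1 i - y.1 i) - 4 * (if (x.1 i ≠ y.1 i ∧ y.1 i % 4 = 2) then 1 else 0)) := by
    apply Finset.dvd_sum
    intro i _
    have h1 := habs i
    have h2 := hx i
    split_ifs with hc
    · obtain ⟨hc1, hc2⟩ := hc
      have : x.1 i = - y.1 i := by omega
      omega
    · by_cases hc1 : x.1 i = y.1 i
      · rw [hc1]; norm_num
      · have hc2 : ¬ (y.1 i % 4 = 2) := fun hh => hc ⟨hc1, hh⟩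
        have : x.1 i = - y.1 i := by omega
        omega
  rw [Finset.sum_sub_distrib, Finset.sum_sub_distrib, ← Finset.mul_sum, Finset.sum_boole] at hd
  rw [Nat.even_iff]
  omega

end Cfsg.Agent.Helper7
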