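import Cfsg.Agent.Lib.Helper7.LeechMod2Count

/-!
# Vectors of norm 64 are sums of two orthogonal minimal vectors
-/

set_option autoImplicit false

namespace Cfsg.Agent.Helper7
open Cfsg Cfsg.Agent.Helper91

theorem sqNorm_add (v w : GolayPt → ℤ) :
    sqNorm (v + w) = sqNorm v + sqNorm w + 2 * dotInt v w := by
  unfold sqNorm dotInt
  rw [Finset.mul_sum, ← Finset.sum_add_distrib, ← Finset.sum_add_distrib]
  apply Finset.sum_congr rfl
  intro i _
  simp only [Pi.add_apply]
  ring

theorem sqNorm_sub (v w : GolayPt → ℤ) :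
    sqNorm (v - w) = sqNorm v + sqNorm w - 2 * dotInt v w := by
  unfold sqNorm dotInt
  rw [Finset.mul_sum, ← Finset.sum_add_distrib, ← Finset.sum_sub_distrib]
  apply Finset.sum_congr rfl
  intro i _
  simp only [Pi.sub_apply]
  ring

/-- inner products of lattice vectors are divisible by 8 -/
theorem eight_dvd_dot {v w : GolayPt → ℤ} (hv : v ∈ leechLattice) (hw : w ∈ leechLattice) :
    (8 : ℤ) ∣ dotInt v w := by
  have h1 := sixteen_dvd_sqNorm (v + w) (leechLattice.add_mem hv hw)
  have h2 := sixteen_dvd_sqNorm v hv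
  have h3 := sixteen_dvd_sqNorm w hw
  rw [sqNorm_add] at h1
  omega

/-- a vector of norm 64 is the sum of two orthogonal minimal vectors -/
theorem decomp64 (w : leechLattice) (hw : sqNorm w.1 = 64) :
    ∃ v z : leechLattice, sqNorm v.1 = 32 ∧ sqNorm z.1 = 32 ∧ w = v + z ∧ dotInt v.1 z.1 = 0 := by
  classical
  have hcard := fiber_eq_48 w hw
  set F := (shortSet 64 (by norm_num)).filter (fun y => piQ y = piQ w) with hF
  have hlt : ({w, -w} : Finset leechLattice).card < F.card := by
    rw [hcard]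
    exact lt_of_le_of_lt Finset.card_le_two (by norm_num)
  obtain ⟨w', hw'F, hw'n⟩ := Finset.exists_mem_notMem_of_card_lt_card hlt
  rw [Finset.mem_insert, Finset.mem_singleton, not_or] at hw'n
  rw [hF, Finset.mem_filter, mem_shortSet] at hw'F
  obtain ⟨hw'64, hq⟩ := hw'F
  have hc : Cong2 w.1 w'.1 := (piQ_eq_iff w w').mp hq.symm
  have h1 : w'.1 ≠ w.1 := fun h => hw'n.1 (Subtype.ext h)
  have h2 : w'.1 ≠ -w.1 := fun h => hw'n.2 (Subtype.ext h)
  have hsc := short_classes_of_min leech_min_norm w.1 w'.1 w.2 w'.2 (by rw [hw])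
    (by rw [hw'64]; norm_num) hc h1 h2
  obtain ⟨-, -, hplus, hminus⟩ := hsc
  obtain ⟨z, hz, hzw⟩ := hc
  -- the second half
  have hv : z + w'.1 ∈ leechLattice := leechLattice.add_mem hz w'.2
  have hvw : w.1 + w'.1 = 2 • (z + w'.1) := by
    have : w.1 = 2 • z + w'.1 := by rw [← hzw]; abel
    rw [this]
    simp only [two_nsmul]
    abel
  have hnz : sqNorm z = 32 := by
    have := sqNorm_two_smul z
    rw [← hzw, hminus] at this
    omega
  have hnv : sqNorm (z + w'.1) = 32 := by
    have := sqNorm_two_smul (z + w'.1)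
    rw [← hvw, hplus] at this
    omega
  refine ⟨⟨z + w'.1, hv⟩, ⟨z, hz⟩, hnv, hnz, ?_, ?_⟩
  · apply Subtype.ext
    show w.1 = (z + w'.1) + z
    have : w.1 = 2 • z + w'.1 := by rw [← hzw]; abel
    rw [this, two_nsmul]
    abel
  · show dotInt (z + w'.1) z = 0
    have hw64 : sqNorm (w.1) = 64 := hw
    have e : w.1 = (z + w'.1) + z := by
      have : w.1 = 2 • z + w'.1 := by rw [← hzw]; abel
      rw [this, two_nsmul]
      abel
    rw [e, sqNorm_add, hnv, hnz] at hw64
    omega

end Cfsg.Agent.Helper7
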