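import Cfsg.Agent.Lib.Helper7.Co0Trans48
import Cfsg.Agent.Lib.Helper7.Co0Trans32
import Cfsg.Agent.Lib.Helper7.OctStab
import Cfsg.Agent.Lib.Helper7.Leech64

/-!
# Transitivity of the automorphism group on the vectors of norm 64
-/

set_option autoImplicit false

namespace Cfsg.Agent.Helper7
open Cfsg Cfsg.Agent.Helper91 Cfsg.Agent.Helper92
open scoped Pointwise

/-! ### The histogram for norm 64 -/

theorem hist_genN (x : GolayPt → ℤ) (N : ℕ) (hB : ∀ i, (x i).natAbs < N) (f : ℕ → ℤ) :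
    ∑ i, f (x i).natAbs = ∑ k ∈ Finset.range N, (cnt x k : ℤ) * f k := by
  rw [← Finset.sum_fiberwise_of_maps_to (s := Finset.univ) (t := Finset.range N)
    (g := fun i => (x i).natAbs) (fun i _ => Finset.mem_range.mpr (hB i))]
  apply Finset.sum_congr rfl
  intro k _
  rw [Finset.sum_congr rfl (fun i hi => by rw [(Finset.mem_filter.mp hi).2]), Finset.sum_const,
    nsmul_eq_mul]
  rfl

theorem natAbs_lt_nine (x : GolayPt → ℤ) (hn : sqNorm x = 64) (i : GolayPt) :
    (x i).natAbs < 9 := by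
  have h1 : x i ^ 2 ≤ sqNorm x := by
    unfold sqNorm
    exact Finset.single_le_sum (f := fun j => x j ^ 2) (fun j _ => sq_nonneg (x j))
      (Finset.mem_univ i)
  have h3 : ((x i).natAbs : ℤ) ^ 2 ≤ 64 := by rw [Int.natAbs_sq]; omega
  by_contra hc
  have : (9 : ℤ) ≤ (x i).natAbs := by omega
  nlinarith

theorem hist64 (x : GolayPt → ℤ) (hn : sqNorm x = 64) :
    cnt x 0 + cnt x 1 + cnt x 2 + cnt x 3 + cnt x 4 + cnt x 5 + cnt x 6 + cnt x 7 + cnt x 8 = 24 ∧
    (64 : ℤ) = cnt x 1 + 4 * cnt x 2 + 9 * cnt x 3 + 16 * cnt x 4 + 25 * cnt x 5 + 36 * cnt x 6 +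
      49 * cnt x 7 + 64 * cnt x 8 := by
  have hB := natAbs_lt_nine x hn
  constructor
  · have h := hist_genN x 9 hB (fun _ => 1)
    simp only [Finset.sum_const, Finset.card_univ, nsmul_eq_mul, mul_one,
      Finset.sum_range_succ, Finset.sum_range_zero, zero_add] at h
    have hc : Fintype.card GolayPt = 24 := by decide
    rw [hc] at h
    exact_mod_cast h.symm
  · have h := hist_genN x 9 hB (fun k => (k : ℤ) ^ 2)
    simp only [Int.natAbs_sq, Finset.sum_range_succ, Finset.sum_range_zero, zero_add] at h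
    unfold sqNorm at hn
    rw [hn] at h
    push_cast at h
    linarith

theorem card_filter_natAbs9 (x : GolayPt → ℤ) (hB : ∀ i, (x i).natAbs < 9) (P : ℕ → Prop)
    [DecidablePred P] :
    ((Finset.univ.filter (fun i => P (x i).natAbs)).card : ℤ) =
      ∑ k ∈ Finset.range 9, (cnt x k : ℤ) * (if P k then 1 else 0) := by
  rw [← hist_genN x 9 hB (fun k => if P k then 1 else 0), Finset.sum_boole]

/-! ### A general principle for even vectors -/

/-- the vector obtained by permuting coordinates -/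
theorem orb_perm (b : leechLattice) (σ : Equiv.Perm GolayPt) (hσ : σ ∈ M24) :
    ∃ y : leechLattice, Orb b y ∧ ∀ i, y.1 i = b.1 (σ.symm i) := by
  refine ⟨monoPerm σ ∅ hσ Helper92.empty_mem b, ⟨_, monoPerm_mem σ ∅ hσ Helper92.empty_mem, rfl⟩,
    fun i => ?_⟩
  rw [monoPerm_val, signedPerm_apply]
  simp

/-- Even vectors: if the absolute values match after a code automorphism and every admissible
set of sign changes on the support of `x` is cut out by a code word, then `x` is in the orbit. -/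
theorem orb_even_gen (b x : leechLattice) (hx : ∀ i, x.1 i % 2 = 0) (σ : Equiv.Perm GolayPt)
    (hσ : σ ∈ M24) (habs : ∀ i, (x.1 i).natAbs = (b.1 (σ.symm i)).natAbs)
    (hreal : ∀ D : Finset GolayPt, (∀ i ∈ D, x.1 i ≠ 0) →
      Even (D.filter (fun i => x.1 i % 4 = 2)).card →
      ∃ c ∈ Code, ∀ i, x.1 i ≠ 0 → (i ∈ c ↔ i ∈ D)) : Orb b x := by
  classical
  obtain ⟨y, hby, hy⟩ := orb_perm b σ hσ
  refine hby.trans ?_
  have habs' : ∀ i, (x.1 i).natAbs = (y.1 i).natAbs := by
    intro i; rw [hy, habs]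
  set D : Finset GolayPt := Finset.univ.filter (fun i => x.1 i ≠ y.1 i) with hD
  have hDnz : ∀ i ∈ D, x.1 i ≠ 0 := by
    intro i hi h0
    rw [hD, Finset.mem_filter] at hi
    apply hi.2
    have := habs' i
    rw [h0] at this ⊢
    omega
  have hev := even_diff_card (x := x) (y := y) hx habs'
  have hfe : D.filter (fun i => x.1 i % 4 = 2) =
      Finset.univ.filter (fun i => x.1 i ≠ y.1 i ∧ y.1 i % 4 = 2) := by
    ext i
    rw [hD, Finset.mem_filter, Finset.mem_filter, Finset.mem_filter]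
    have := habs' i
    have := hx i
    constructor
    · rintro ⟨⟨_, h1⟩, h2⟩
      exact ⟨Finset.mem_univ _, h1, by omega⟩
    · rintro ⟨_, h1, h2⟩
      exact ⟨⟨Finset.mem_univ _, h1⟩, by omega⟩
  obtain ⟨c, hc, hcD⟩ := hreal D hDnz (by rw [hfe]; exact hev)
  apply orb_sign habs' c hc
  intro i hi
  have hxi : x.1 i ≠ 0 := by
    intro h0
    apply hi
    have := habs' i
    rw [h0] at this
    omega
  rw [hcD i hxi, hD, Finset.mem_filter]
  simp

/-! ### Cutting out arbitrary subsets of a small set -/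

/-- every subset of `X` is cut out on `X` by a code word -/
def RealAll (X : Finset GolayPt) : Prop := ∀ E ⊆ X, ∃ c ∈ Code, c ∩ X = E

theorem realAll_of_singles (X : Finset GolayPt)
    (hp : ∀ i ∈ X, ∃ c ∈ Code, c ∩ X = {i}) : RealAll X := by
  classical
  intro E
  induction E using Finset.induction_on with
  | empty => intro _; exact ⟨∅, Helper92.empty_mem, by simp⟩
  | insert a s ha ih =>
    intro hsub
    obtain ⟨c', hc', hcE'⟩ := ih (fun k hk => hsub (Finset.mem_insert_of_mem hk))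
    obtain ⟨ca, hca, hcaE⟩ := hp a (hsub (Finset.mem_insert_self a s))
    refine ⟨symmDiff c' ca, symmDiff_mem hc' hca, ?_⟩
    ext k
    have h1 : k ∈ c' ∩ X ↔ k ∈ s := by rw [hcE']
    have h2 : k ∈ ca ∩ X ↔ k ∈ ({a} : Finset GolayPt) := by rw [hcaE]
    simp only [Finset.mem_inter, Finset.mem_singleton] at h1 h2
    simp only [Finset.mem_inter, Finset.mem_symmDiff, Finset.mem_insert]
    constructor
    · rintro ⟨hk, hkX⟩
      rcases hk with ⟨hk1, hk2⟩ | ⟨hk1, hk2⟩
      · exact Or.inr (h1.mp ⟨hk1, hkX⟩)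
      · exact Or.inl (h2.mp ⟨hk1, hkX⟩)
    · intro hk
      have hkX : k ∈ X := hsub (Finset.mem_insert.mpr hk)
      refine ⟨?_, hkX⟩
      rcases hk with hk | hk
      · right
        refine ⟨(h2.mpr hk).1, fun hc => ?_⟩
        have := h1.mp ⟨hc, hkX⟩
        rw [hk] at this
        exact ha this
      · left
        refine ⟨(h1.mpr hk).1, fun hc => ?_⟩
        have := h2.mp ⟨hc, hkX⟩
        rw [this] at hk
        exact ha hk

theorem realAll_smul {σ : Equiv.Perm GolayPt} (hσ : σ ∈ M24) {X : Finset GolayPt}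
    (hR : RealAll X) : RealAll (σ • X) := by
  intro E hE
  have hsub : σ⁻¹ • E ⊆ X := by
    intro k hk
    rw [mem_smul_iff] at hk
    have := hE hk
    rw [mem_smul_iff] at this
    have e : (σ⁻¹).symm k = σ k := rfl
    rw [e, σ.symm_apply_apply] at this
    exact this
  obtain ⟨c', hc', hcE⟩ := hR (σ⁻¹ • E) hsub
  refine ⟨σ • c', smul_mem hσ hc', ?_⟩
  rw [← Finset.smul_finset_inter, hcE, smul_inv_smul]

/-- the check that all points of a set given by a mask are cut out by code words -/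
def singleOK (m : ℕ) : Bool :=
  (List.range 24).all fun i =>
    !(m.testBit i) || codeList.any (fun c => Nat.beq (Nat.land c m) (Nat.shiftLeft 1 i))

theorem realAll_of_check (m : ℕ) (h : singleOK m = true) : RealAll (ofMask m) := by
  apply realAll_of_singles
  intro i hi
  unfold singleOK at h
  rw [List.all_eq_true] at h
  have h1 := h (idx i) (List.mem_range.mpr (idx_lt i))
  rw [mem_ofMask] at hi
  rw [hi] at h1
  simp only [Bool.not_true, Bool.false_or, List.any_eq_true, Nat.beq_eq] at h1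
  obtain ⟨c, hc, hcm⟩ := h1
  refine ⟨ofMask c, (ofMask_mem_iff c (codeList_lt hc)).mpr (codeList_enc hc), ?_⟩
  rw [← ofMask_land, hcm, ofMask_single _ (idx_lt i), pt_idx]

/-! ### The shape `(5, 3, 3, 1, ..., 1)` -/

def l64d : List ℤ := [5, -3, -3, 1, 1, 1, 1, 1, 1, 1, 1, 1, 1, 1, 1, 1, 1, 1, 1, 1, 1, 1, 1, 1]

theorem l64d_mem : vecOf l64d ∈ leechLattice := vecOf_mem l64d 1 0 (by decide +kernel)

def b64d : leechLattice := ⟨vecOf l64d, l64d_mem⟩

theorem l64d_apply : ∀ q, vecOf l64d q =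
    if q = pt 0 then 5 else if q = pt 1 ∨ q = pt 2 then -3 else 1 := by decide +kernel

theorem orb64_H4 (x : leechLattice) (hn : sqNorm x.1 = 64) (h : ∀ i, x.1 i % 2 = 1)
    (h5 : ∃ i, (x.1 i).natAbs = 5) : Orb b64d x := by
  obtain ⟨i5, hi5⟩ := h5
  have hpos := cnt_pos_of x.1 5 i5 hi5
  have hz : ∀ k, k % 2 = 0 → cnt x.1 k = 0 := by
    intro k hk
    apply cnt_eq_zero
    intro i
    have := h i
    omega
  obtain ⟨h24, hsq⟩ := hist64 x.1 hn
  rw [hz 0 (by norm_num), hz 2 (by norm_num), hz 4 (by norm_num), hz 6 (by norm_num),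
    hz 8 (by norm_num)] at h24
  rw [hz 2 (by norm_num), hz 4 (by norm_num), hz 6 (by norm_num), hz 8 (by norm_num)] at hsq
  have hc5 : cnt x.1 5 = 1 := by omega
  have hc3 : cnt x.1 3 = 2 := by omega
  have hc7 : cnt x.1 7 = 0 := by omega
  have hB := natAbs_lt_nine x.1 hn
  unfold cnt at hc5 hc3
  obtain ⟨p, hT5⟩ := Finset.card_eq_one.mp hc5
  obtain ⟨q, r, hqr, hT3⟩ := Finset.card_eq_two.mp hc3
  have hm5 : ∀ k, (x.1 k).natAbs = 5 ↔ k = p := by
    intro k
    have : k ∈ Finset.univ.filter (fun i => (x.1 i).natAbs = 5) ↔ k ∈ ({p} : Finset GolayPt) := by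
      rw [hT5]
    simpa using this
  have hm3 : ∀ k, (x.1 k).natAbs = 3 ↔ k = q ∨ k = r := by
    intro k
    have : k ∈ Finset.univ.filter (fun i => (x.1 i).natAbs = 3) ↔
        k ∈ ({q, r} : Finset GolayPt) := by rw [hT3]
    simpa using this
  have hpq : p ≠ q := by
    rintro rfl
    have := (hm5 p).mpr rfl
    have := (hm3 p).mpr (Or.inl rfl)
    omega
  have hpr : p ≠ r := by
    rintro rfl
    have := (hm5 p).mpr rfl
    have := (hm3 p).mpr (Or.inr rfl)
    omega
  obtain ⟨σ, hσ, hmap⟩ := m24_five_trans [pt 0, pt 1, pt 2] [p, q, r] (by decide)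
    (by simp [hpq, hpr, hqr]) rfl (by norm_num)
  simp only [List.map_cons, List.map_nil, List.cons.injEq, and_true] at hmap
  obtain ⟨hσ0, hσ1, hσ2⟩ := hmap
  apply orb_odd (b := b64d) _ h σ hσ
  · intro i
    show (x.1 i).natAbs = (vecOf l64d (σ.symm i)).natAbs
    rw [l64d_apply]
    have e0 : σ.symm i = pt 0 ↔ i = p := by rw [Equiv.symm_apply_eq, hσ0]
    have e1 : σ.symm i = pt 1 ↔ i = q := by rw [Equiv.symm_apply_eq, hσ1]
    have e2 : σ.symm i = pt 2 ↔ i = r := by rw [Equiv.symm_apply_eq, hσ2]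
    by_cases hi : i = p
    · rw [if_pos (e0.mpr hi), (hm5 i).mpr hi]
      rfl
    · rw [if_neg (fun hh => hi (e0.mp hh))]
      by_cases hi' : i = q ∨ i = r
      · rw [if_pos (by rw [e1, e2]; exact hi'), (hm3 i).mpr hi']
        rfl
      · rw [if_neg (by rw [e1, e2]; exact hi')]
        have h1 : (x.1 i).natAbs ≠ 3 := fun hh => hi' ((hm3 i).mp hh)
        have h2 : (x.1 i).natAbs ≠ 5 := fun hh => hi ((hm5 i).mp hh)
        have h3 := ne_of_cnt_zero x.1 7 hc7 i
        have h4 := hB i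
        have h6 := h i
        show (x.1 i).natAbs = 1
        omega
  · intro i
    show vecOf l64d i % 4 = 1
    rw [l64d_apply]
    split_ifs <;> norm_num

/-! ### The shape `(4, 4, 4, 4, 0, ..., 0)` -/

def tet0Mask : ℕ := 8388615

theorem tet0_real : RealAll (ofMask tet0Mask) := realAll_of_check tet0Mask (by decide +kernel)

def l64a : List ℤ := [4, 4, 4, 0, 0, 0, 0, 0, 0, 0, 0, 0, 0, 0, 0, 0, 0, 0, 0, 0, 0, 0, 0, 4]

theorem l64a_mem : vecOf l64a ∈ leechLattice := vecOf_mem l64a 0 0 (by decide +kernel)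

def b64a : leechLattice := ⟨vecOf l64a, l64a_mem⟩

theorem l64a_apply : ∀ q, vecOf l64a q = if q ∈ ofMask tet0Mask then 4 else 0 := by
  decide +kernel

theorem tet0_list : ∀ q, q ∈ ofMask tet0Mask ↔ q ∈ [pt 0, pt 1, pt 2, none] := by decide +kernel

theorem orb64_H1 (x : leechLattice) (hn : sqNorm x.1 = 64)
    (h : ∀ i, x.1 i = 0 ∨ x.1 i = 4 ∨ x.1 i = -4) : Orb b64a x := by
  classical
  have hz : ∀ k, k ≠ 0 → k ≠ 4 → cnt x.1 k = 0 := by
    intro k h0 h4
    apply cnt_eq_zero
    intro i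
    rcases h i with e | e | e <;> rw [e] <;> simp <;> omega
  obtain ⟨h24, hsq⟩ := hist64 x.1 hn
  rw [hz 1 (by norm_num) (by norm_num), hz 2 (by norm_num) (by norm_num),
    hz 3 (by norm_num) (by norm_num), hz 5 (by norm_num) (by norm_num),
    hz 6 (by norm_num) (by norm_num), hz 7 (by norm_num) (by norm_num),
    hz 8 (by norm_num) (by norm_num)] at hsq
  have h4 : cnt x.1 4 = 4 := by omega
  unfold cnt at h4
  set T : Finset GolayPt := Finset.univ.filter (fun i => (x.1 i).natAbs = 4) with hT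
  have hmemT : ∀ k, k ∈ T ↔ (x.1 k).natAbs = 4 := by
    intro k; rw [hT, Finset.mem_filter]; simp
  obtain ⟨σ, hσ, hmap⟩ := m24_five_trans [pt 0, pt 1, pt 2, none] T.toList (by decide)
    (Finset.nodup_toList T) (by rw [Finset.length_toList, h4]; rfl) (by norm_num)
  have hσT : ∀ i, σ.symm i ∈ ofMask tet0Mask ↔ i ∈ T := by
    intro i
    rw [tet0_list, ← Finset.mem_toList, ← hmap, List.mem_map]
    constructor
    · intro hi
      exact ⟨σ.symm i, hi, σ.apply_symm_apply i⟩
    · rintro ⟨a, ha, rfl⟩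
      rwa [σ.symm_apply_apply]
  have hsmul : σ • ofMask tet0Mask = T := by
    ext i
    rw [mem_smul_iff, hσT]
  apply orb_even_gen b64a x _ σ hσ
  · intro i
    show (x.1 i).natAbs = (vecOf l64a (σ.symm i)).natAbs
    rw [l64a_apply]
    by_cases hi : i ∈ T
    · rw [if_pos ((hσT i).mpr hi), (hmemT i).mp hi]; rfl
    · rw [if_neg (fun hh => hi ((hσT i).mp hh))]
      have : (x.1 i).natAbs ≠ 4 := fun hh => hi ((hmemT i).mpr hh)
      rcases h i with e | e | e
      · rw [e]
      · exfalso; apply this; rw [e]; rfl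
      · exfalso; apply this; rw [e]; rfl
  · intro D hD _
    have hDT : D ⊆ T := by
      intro i hi
      rw [hmemT]
      have := hD i hi
      rcases h i with e | e | e
      · exact absurd e this
      · rw [e]; rfl
      · rw [e]; rfl
    have hR : RealAll T := by
      rw [← hsmul]
      exact realAll_smul hσ tet0_real
    obtain ⟨c, hc, hcD⟩ := hR D hDT
    refine ⟨c, hc, fun i hi => ?_⟩
    have hiT : i ∈ T := by
      rw [hmemT]
      rcases h i with e | e | e
      · exact absurd e hi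
      · rw [e]; rfl
      · rw [e]; rfl
    have : i ∈ c ∩ T ↔ i ∈ D := by rw [hcD]
    rw [Finset.mem_inter] at this
    constructor
    · intro hh; exact this.mp ⟨hh, hiT⟩
    · intro hh; exact (this.mpr hh).1
  · intro i
    rcases h i with e | e | e <;> rw [e] <;> norm_num

/-! ### Even vectors of norm 64 -/

theorem even64 (x : leechLattice) (hn : sqNorm x.1 = 64) (hev : ∀ i, x.1 i % 2 = 0) :
    (cnt x.1 2 : ℤ) + 4 * cnt x.1 4 + 9 * cnt x.1 6 + 16 * cnt x.1 8 = 16 ∧
    (resSet x.1 2).card = cnt x.1 2 + cnt x.1 6 := by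
  have hz : ∀ k, k % 2 = 1 → cnt x.1 k = 0 := by
    intro k hk
    apply cnt_eq_zero
    intro i
    have := hev i
    omega
  have hB := natAbs_lt_nine x.1 hn
  obtain ⟨h24, hsq⟩ := hist64 x.1 hn
  rw [hz 1 (by norm_num), hz 3 (by norm_num), hz 5 (by norm_num), hz 7 (by norm_num)] at hsq
  have hS : resSet x.1 2 = Finset.univ.filter (fun i => (x.1 i).natAbs % 4 = 2) := by
    ext i
    rw [mem_resSet, Finset.mem_filter]
    unfold Int.ModEq
    simp only [Finset.mem_univ, true_and]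
    omega
  have hcard := card_filter_natAbs9 x.1 hB (fun k => k % 4 = 2)
  rw [← hS] at hcard
  simp only [Finset.sum_range_succ, Finset.sum_range_zero, zero_add] at hcard
  norm_num at hcard
  constructor
  · push_cast at hsq; omega
  · exact_mod_cast hcard

/-! ### The shape `(6, 2, ..., 2, 0, ..., 0)` -/

def l64b : List ℤ := [6, -2, 2, 2, 0, 2, 0, 0, 0, 0, 0, 0, 0, 0, 2, 0, 0, 2, 0, 0, 0, 0, 0, 2]

theorem l64b_mem : vecOf l64b ∈ leechLattice := vecOf_mem l64b 0 baseOct (by decide +kernel)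

def b64b : leechLattice := ⟨vecOf l64b, l64b_mem⟩

theorem l64b_apply : ∀ q, vecOf l64b q =
    if q = pt 0 then 6 else if q = pt 1 then -2 else if q ∈ O0 then 2 else 0 := by
  decide +kernel

theorem orb64_H2 (x : leechLattice) (hn : sqNorm x.1 = 64) (hev : ∀ i, x.1 i % 2 = 0)
    (h6 : ∃ i, (x.1 i).natAbs = 6) : Orb b64b x := by
  classical
  obtain ⟨i6, hi6⟩ := h6
  have hpos := cnt_pos_of x.1 6 i6 hi6
  obtain ⟨hsum, hcardS⟩ := even64 x hn hev
  have hw := weight_cases _ (resSet_mem x.2 2)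
  have hc6 : cnt x.1 6 = 1 := by omega
  have hc8 : cnt x.1 8 = 0 := by omega
  have hc4 : cnt x.1 4 = 0 := by omega
  have hc2 : cnt x.1 2 = 7 := by omega
  have hB := natAbs_lt_nine x.1 hn
  have hO : resSet x.1 2 ∈ octads := by
    rw [mem_octads_iff]
    exact ⟨resSet_mem x.2 2, by omega⟩
  have hmemO : ∀ k, k ∈ resSet x.1 2 ↔ (x.1 k).natAbs = 2 ∨ (x.1 k).natAbs = 6 := by
    intro k
    rw [mem_resSet]
    unfold Int.ModEq
    have := hB k
    omega
  have hout : ∀ k, k ∉ resSet x.1 2 → x.1 k = 0 := by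
    intro k hk
    rw [hmemO] at hk
    have a1 := ne_of_cnt_zero x.1 4 hc4 k
    have a2 := ne_of_cnt_zero x.1 8 hc8 k
    have a3 := hB k
    have a4 := hev k
    omega
  unfold cnt at hc6
  obtain ⟨p, hT⟩ := Finset.card_eq_one.mp hc6
  have hm6 : ∀ k, (x.1 k).natAbs = 6 ↔ k = p := by
    intro k
    have : k ∈ Finset.univ.filter (fun i => (x.1 i).natAbs = 6) ↔ k ∈ ({p} : Finset GolayPt) := by
      rw [hT]
    simpa using this
  have hpO : p ∈ resSet x.1 2 := (hmemO p).mpr (Or.inr ((hm6 p).mpr rfl))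
  obtain ⟨σ, hσ, hσO, hσ0⟩ := octad_flag_trans hO p hpO
  have hσmem : ∀ i, σ.symm i ∈ O0 ↔ i ∈ resSet x.1 2 := by
    intro i
    rw [← hσO, mem_smul_iff]
  have e0 : ∀ i, σ.symm i = pt 0 ↔ i = p := by
    intro i
    rw [Equiv.symm_apply_eq, hσ0]
  apply orb_even_gen b64b x hev σ hσ
  · intro i
    show (x.1 i).natAbs = (vecOf l64b (σ.symm i)).natAbs
    rw [l64b_apply]
    by_cases hi : i = p
    · rw [if_pos ((e0 i).mpr hi), (hm6 i).mpr hi]; rfl
    · rw [if_neg (fun hh => hi ((e0 i).mp hh))]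
      by_cases hiO : i ∈ resSet x.1 2
      · have h2 : (x.1 i).natAbs = 2 := by
          rcases (hmemO i).mp hiO with h' | h'
          · exact h'
          · exact absurd ((hm6 i).mp h') hi
        rw [h2]
        by_cases h1 : σ.symm i = pt 1
        · rw [if_pos h1]; rfl
        · rw [if_neg h1, if_pos ((hσmem i).mpr hiO)]; rfl
      · have h1 : σ.symm i ≠ pt 1 := by
          intro hh
          apply hiO
          rw [← hσmem, hh]
          decide +kernel
        rw [if_neg h1, if_neg (fun hh => hiO ((hσmem i).mp hh)), hout i hiO]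
  · intro D hD hDev
    have hDO : D ⊆ resSet x.1 2 := by
      intro i hi
      by_contra hc
      exact hD i hi (hout i hc)
    have hfil : D.filter (fun i => x.1 i % 4 = 2) = D := by
      apply Finset.filter_true_of_mem
      intro i hi
      have := hDO hi
      rw [mem_resSet] at this
      exact this
    rw [hfil] at hDev
    obtain ⟨c, hc, hcD⟩ := real_octad hO D hDO hDev
    refine ⟨c, hc, fun i hi => ?_⟩
    have hiO : i ∈ resSet x.1 2 := by
      by_contra hc'
      exact hi (hout i hc')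
    have : i ∈ c ∩ resSet x.1 2 ↔ i ∈ D := by rw [hcD]
    rw [Finset.mem_inter] at this
    constructor
    · intro hh; exact this.mp ⟨hh, hiO⟩
    · intro hh; exact (this.mpr hh).1

/-! ### The shape `(4, 4, 2, ..., 2, 0, ..., 0)` -/

/-- adjusting the membership of two points by two code words -/
theorem adjust2 (c0 A1 A2 : Finset GolayPt) (hc0 : c0 ∈ Code) (hA1 : A1 ∈ Code) (hA2 : A2 ∈ Code)
    (p1 p2 : GolayPt) (h11 : p1 ∈ A1) (h12 : p2 ∉ A1) (h21 : p1 ∉ A2) (h22 : p2 ∈ A2)
    (P1 P2 : Prop) :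
    ∃ c ∈ Code, (p1 ∈ c ↔ P1) ∧ (p2 ∈ c ↔ P2) ∧ ∀ i, i ∉ A1 → i ∉ A2 → (i ∈ c ↔ i ∈ c0) := by
  classical
  by_cases h1 : (p1 ∈ c0 ↔ P1) <;> by_cases h2 : (p2 ∈ c0 ↔ P2)
  · exact ⟨c0, hc0, h1, h2, fun _ _ _ => Iff.rfl⟩
  · refine ⟨symmDiff c0 A2, symmDiff_mem hc0 hA2, ?_, ?_, ?_⟩
    · rw [Finset.mem_symmDiff]; tauto
    · rw [Finset.mem_symmDiff]; tauto
    · intro i _ hi2; rw [Finset.mem_symmDiff]; tauto
  · refine ⟨symmDiff c0 A1, symmDiff_mem hc0 hA1, ?_, ?_, ?_⟩
    · rw [Finset.mem_symmDiff]; tauto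
    · rw [Finset.mem_symmDiff]; tauto
    · intro i hi1 _; rw [Finset.mem_symmDiff]; tauto
  · refine ⟨symmDiff (symmDiff c0 A1) A2, symmDiff_mem (symmDiff_mem hc0 hA1) hA2, ?_, ?_, ?_⟩
    · rw [Finset.mem_symmDiff, Finset.mem_symmDiff]; tauto
    · rw [Finset.mem_symmDiff, Finset.mem_symmDiff]; tauto
    · intro i hi1 hi2; rw [Finset.mem_symmDiff, Finset.mem_symmDiff]; tauto

def sepOct : ℕ := 5350928

theorem sepOct_code : ofMask sepOct ∈ Code :=
  (ofMask_mem_iff sepOct (by decide)).mpr (by decide +kernel)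

theorem sepOct_props : (∀ q, q ∈ ofMask sepOct → q ∉ O0) ∧ pt 4 ∈ ofMask sepOct ∧
    pt 6 ∉ ofMask sepOct := by decide +kernel

def l64c : List ℤ := [2, 2, 2, 2, 4, 2, 4, 0, 0, 0, 0, 0, 0, 0, 2, 0, 0, 2, 0, 0, 0, 0, 0, 2]

theorem l64c_mem : vecOf l64c ∈ leechLattice := vecOf_mem l64c 0 baseOct (by decide +kernel)

def b64c : leechLattice := ⟨vecOf l64c, l64c_mem⟩

theorem l64c_apply : ∀ q, vecOf l64c q =
    if q = pt 4 ∨ q = pt 6 then 4 else if q ∈ O0 then 2 else 0 := by
  decide +kernel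

theorem orb64_H3 (x : leechLattice) (hn : sqNorm x.1 = 64) (hev : ∀ i, x.1 i % 2 = 0)
    (h4 : cnt x.1 4 = 2) : Orb b64c x := by
  classical
  obtain ⟨hsum, hcardS⟩ := even64 x hn hev
  rw [h4] at hsum
  have hc6 : cnt x.1 6 = 0 := by omega
  have hc8 : cnt x.1 8 = 0 := by omega
  have hc2 : cnt x.1 2 = 8 := by omega
  have hB := natAbs_lt_nine x.1 hn
  have hO : resSet x.1 2 ∈ octads := by
    rw [mem_octads_iff]
    exact ⟨resSet_mem x.2 2, by omega⟩
  have hmemO : ∀ k, k ∈ resSet x.1 2 ↔ (x.1 k).natAbs = 2 := by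
    intro k
    rw [mem_resSet]
    unfold Int.ModEq
    have := hB k
    have := ne_of_cnt_zero x.1 6 hc6 k
    omega
  unfold cnt at h4
  obtain ⟨p1, p2, hp12, hT⟩ := Finset.card_eq_two.mp h4
  have hm4 : ∀ k, (x.1 k).natAbs = 4 ↔ k = p1 ∨ k = p2 := by
    intro k
    have : k ∈ Finset.univ.filter (fun i => (x.1 i).natAbs = 4) ↔
        k ∈ ({p1, p2} : Finset GolayPt) := by rw [hT]
    simpa using this
  have hout : ∀ k, k ∉ resSet x.1 2 → k ≠ p1 → k ≠ p2 → x.1 k = 0 := by
    intro k hk h1 h2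
    rw [hmemO] at hk
    have a1 : (x.1 k).natAbs ≠ 4 := fun hh => by
      rcases (hm4 k).mp hh with h' | h'
      · exact h1 h'
      · exact h2 h'
    have a2 := ne_of_cnt_zero x.1 8 hc8 k
    have a5 := ne_of_cnt_zero x.1 6 hc6 k
    have a3 := hB k
    have a4 := hev k
    omega
  have hp1O : p1 ∉ resSet x.1 2 := by
    rw [hmemO]
    have := (hm4 p1).mpr (Or.inl rfl)
    omega
  have hp2O : p2 ∉ resSet x.1 2 := by
    rw [hmemO]
    have := (hm4 p2).mpr (Or.inr rfl)
    omega
  obtain ⟨σ, hσ, hσO, hσ4, hσ6⟩ := octad_two_trans hO p1 p2 hp1O hp2O hp12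
  have hσmem : ∀ i, σ.symm i ∈ O0 ↔ i ∈ resSet x.1 2 := by
    intro i
    rw [← hσO, mem_smul_iff]
  have e4 : ∀ i, σ.symm i = pt 4 ↔ i = p1 := by
    intro i
    rw [Equiv.symm_apply_eq, hσ4]
  have e6 : ∀ i, σ.symm i = pt 6 ↔ i = p2 := by
    intro i
    rw [Equiv.symm_apply_eq, hσ6]
  apply orb_even_gen b64c x hev σ hσ
  · intro i
    show (x.1 i).natAbs = (vecOf l64c (σ.symm i)).natAbs
    rw [l64c_apply]
    by_cases hi : i = p1 ∨ i = p2
    · rw [if_pos (by rw [e4, e6]; exact hi), (hm4 i).mpr hi]; rfl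
    · rw [if_neg (by rw [e4, e6]; exact hi)]
      by_cases hiO : i ∈ resSet x.1 2
      · rw [if_pos ((hσmem i).mpr hiO), (hmemO i).mp hiO]; rfl
      · rw [not_or] at hi
        rw [if_neg (fun hh => hiO ((hσmem i).mp hh)), hout i hiO hi.1 hi.2]
  · intro D hD hDev
    -- the part of D inside the octad
    set E : Finset GolayPt := D.filter (fun i => x.1 i % 4 = 2) with hE
    have hEO : E ⊆ resSet x.1 2 := by
      intro i hi
      rw [hE, Finset.mem_filter] at hi
      rw [mem_resSet]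
      exact hi.2
    obtain ⟨c0, hc0, hc0E⟩ := real_octad hO E hEO hDev
    -- the separating code words
    have hA1 : σ • ofMask sepOct ∈ Code := smul_mem hσ sepOct_code
    have hA2 : symmDiff (σ • ofMask sepOct) (resSet x.1 2)ᶜ ∈ Code :=
      symmDiff_mem hA1 (Helper92.compl_mem (resSet_mem x.2 2))
    have hA1O : ∀ i, i ∈ σ • ofMask sepOct → i ∉ resSet x.1 2 := by
      intro i hi hiO
      rw [mem_smul_iff] at hi
      exact sepOct_props.1 _ hi ((hσmem i).mpr hiO)
    have h11 : p1 ∈ σ • ofMask sepOct := by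
      rw [mem_smul_iff, (e4 p1).mpr rfl]
      exact sepOct_props.2.1
    have h12 : p2 ∉ σ • ofMask sepOct := by
      rw [mem_smul_iff, (e6 p2).mpr rfl]
      exact sepOct_props.2.2
    have h21 : p1 ∉ symmDiff (σ • ofMask sepOct) (resSet x.1 2)ᶜ := by
      rw [Finset.mem_symmDiff]
      rintro (⟨_, h⟩ | ⟨_, h⟩)
      · exact h (Finset.mem_compl.mpr hp1O)
      · exact h h11
    have h22 : p2 ∈ symmDiff (σ • ofMask sepOct) (resSet x.1 2)ᶜ := by
      rw [Finset.mem_symmDiff]
      exact Or.inr ⟨Finset.mem_compl.mpr hp2O, h12⟩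
    obtain ⟨c, hc, hcp1, hcp2, hcrest⟩ := adjust2 c0 _ _ hc0 hA1 hA2 p1 p2 h11 h12 h21 h22
      (p1 ∈ D) (p2 ∈ D)
    refine ⟨c, hc, fun i hi => ?_⟩
    by_cases hi1 : i = p1
    · rw [hi1]; exact hcp1
    by_cases hi2 : i = p2
    · rw [hi2]; exact hcp2
    have hiO : i ∈ resSet x.1 2 := by
      by_contra hc'
      exact hi (hout i hc' hi1 hi2)
    have hn1 : i ∉ σ • ofMask sepOct := fun hh => hA1O i hh hiO
    have hn2 : i ∉ symmDiff (σ • ofMask sepOct) (resSet x.1 2)ᶜ := by
      rw [Finset.mem_symmDiff]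
      rintro (⟨h, _⟩ | ⟨h, _⟩)
      · exact hn1 h
      · exact (Finset.mem_compl.mp h) hiO
    rw [hcrest i hn1 hn2]
    have : i ∈ c0 ∩ resSet x.1 2 ↔ i ∈ E := by rw [hc0E]
    rw [Finset.mem_inter, hE, Finset.mem_filter] at this
    have hi2' : x.1 i % 4 = 2 := by
      rw [mem_resSet] at hiO
      exact hiO
    constructor
    · intro hh; exact (this.mp ⟨hh, hiO⟩).1
    · intro hh; exact (this.mpr ⟨hh, hi2'⟩).1

/-! ### The frame vectors and the links -/

/-- a vector of norm 64 with a coordinate `±8` is in the orbit of the first frame vector -/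
theorem orb_frame (x : leechLattice) (hn : sqNorm x.1 = 64) (k : GolayPt)
    (hk : (x.1 k).natAbs = 8) : Orb (frameVec none) x := by
  have hz : ∀ i, i ≠ k → x.1 i = 0 := by
    intro i hik
    have key : ∀ t : GolayPt, (if t = k then (64 : ℤ) else 0) + (if t = i then x.1 i ^ 2 else 0) ≤
        x.1 t ^ 2 := by
      intro t
      by_cases h1 : t = k
      · subst h1
        rw [if_pos rfl, if_neg (Ne.symm hik)]
        have : x.1 t ^ 2 = ((x.1 t).natAbs : ℤ) ^ 2 := (Int.natAbs_sq _).symm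
        rw [this, hk]; norm_num
      · by_cases h2 : t = i
        · subst h2; rw [if_neg h1, if_pos rfl]; norm_num
        · rw [if_neg h1, if_neg h2]; positivity
    have hsum := Finset.sum_le_sum (s := Finset.univ) (fun t _ => key t)
    simp only [Finset.sum_add_distrib, Finset.sum_ite_eq', Finset.mem_univ, if_true] at hsum
    unfold sqNorm at hn
    have : x.1 i ^ 2 ≤ 0 := by omega
    have h0 := sq_nonneg (x.1 i)
    exact pow_eq_zero_iff (by norm_num) |>.mp (le_antisymm this h0)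
  obtain ⟨σ, hσ, hmap⟩ := m24_five_trans [none] [k] (by decide) (by simp) rfl (by norm_num)
  simp only [List.map_cons, List.map_nil, List.cons.injEq, and_true] at hmap
  have hc : (if x.1 k = -8 then (Finset.univ : Finset GolayPt) else ∅) ∈ Code := by
    split_ifs
    · exact Helper92.univ_mem
    · exact Helper92.empty_mem
  apply orb_of_signedPerm σ _ hσ hc
  intro i
  show x.1 i = if i ∈ _ then -(Pi.single none 8 : GolayPt → ℤ) (σ.symm i) else
    (Pi.single none 8 : GolayPt → ℤ) (σ.symm i)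
  by_cases hi : i = k
  · have e : σ.symm i = none := by rw [Equiv.symm_apply_eq, hmap, hi]
    rw [e, Pi.single_eq_same, hi]
    by_cases h8 : x.1 k = -8
    · rw [if_pos h8, if_pos (Finset.mem_univ _), h8]
    · rw [if_neg h8, if_neg (Finset.notMem_empty _)]
      omega
  · have e : σ.symm i ≠ none := by
      rw [Ne, Equiv.symm_apply_eq, hmap]; exact hi
    rw [Pi.single_eq_of_ne e, hz i hi]
    split_ifs <;> norm_num

def l64x1 : List ℤ := [0, 0, 0, 2, 0, 2, 0, 0, 0, 6, 2, 0, 0, 0, -2, 2, 0, 2, 0, 0, 2, 0, 0, 0]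
def l64x2 : List ℤ := [0, 0, 0, 0, 0, 0, 2, -2, -2, 0, 0, -2, -2, -4, 0, 0, 4, 0, 2, -2, 0, -2, 0, 0]
def l64x3 : List ℤ := [1, -1, 1, 1, 1, -1, -5, -1, -1, -1, -1, -1, -1, 1, 1, 1, -1, 1, 1, 3, -1, -3, 1, 1]
def l64x4 : List ℤ := [0, 0, 0, 0, 0, 0, 0, 0, 4, 0, 0, 4, 4, 0, 0, 0, 0, 0, -4, 0, 0, 0, 0, 0]

theorem l64x1_mem : vecOf l64x1 ∈ leechLattice := vecOf_mem l64x1 0 1230376 (by decide +kernel)
theorem l64x2_mem : vecOf l64x2 ∈ leechLattice := vecOf_mem l64x2 0 2890176 (by decide +kernel)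
theorem l64x3_mem : vecOf l64x3 ∈ leechLattice := vecOf_mem l64x3 1 1646562 (by decide +kernel)
theorem l64x4_mem : vecOf l64x4 ∈ leechLattice := vecOf_mem l64x4 0 0 (by decide +kernel)

def x64a : leechLattice := ⟨vecOf l64x1, l64x1_mem⟩
def x64b : leechLattice := ⟨vecOf l64x2, l64x2_mem⟩
def x64c : leechLattice := ⟨vecOf l64x3, l64x3_mem⟩
def x64d : leechLattice := ⟨vecOf l64x4, l64x4_mem⟩

theorem x64a_norm : sqNorm x64a.1 = 64 := by decide +kernel
theorem x64b_norm : sqNorm x64b.1 = 64 := by decide +kernel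
theorem x64c_norm : sqNorm x64c.1 = 64 := by decide +kernel
theorem x64d_norm : sqNorm x64d.1 = 64 := by decide +kernel

theorem link64_a : Orb (frameVec none) b64a := by
  have h1 : Orb b64a x64d := orb64_H1 x64d x64d_norm (by decide +kernel)
  have h2 : Orb (frameVec none) (xiPerm x64d) := by
    apply orb_frame (xiPerm x64d) (by rw [xiPerm_mem.2, x64d_norm]) (pt 18)
    rw [xiPerm_val]
    decide +kernel
  exact h2.trans ((orb_xi x64d).symm.trans h1.symm)

theorem link64_b : Orb (frameVec none) b64b := by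
  have h1 : Orb b64b x64a := orb64_H2 x64a x64a_norm (by decide +kernel) ⟨pt 9, by decide +kernel⟩
  have h2 : Orb b64a (xiPerm x64a) := by
    apply orb64_H1 (xiPerm x64a) (by rw [xiPerm_mem.2, x64a_norm])
    rw [xiPerm_val]
    decide +kernel
  exact link64_a.trans (h2.trans ((orb_xi x64a).symm.trans h1.symm))

theorem link64_c : Orb (frameVec none) b64c := by
  have h1 : Orb b64c x64b := orb64_H3 x64b x64b_norm (by decide +kernel) (by decide +kernel)
  have h2 : Orb b64a (xiPerm x64b) := by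
    apply orb64_H1 (xiPerm x64b) (by rw [xiPerm_mem.2, x64b_norm])
    rw [xiPerm_val]
    decide +kernel
  exact link64_a.trans (h2.trans ((orb_xi x64b).symm.trans h1.symm))

theorem link64_d : Orb (frameVec none) b64d := by
  have h1 : Orb b64d x64c := orb64_H4 x64c x64c_norm (by decide +kernel) ⟨pt 6, by decide +kernel⟩
  have h2 : Orb b64b (xiPerm x64c) := by
    apply orb64_H2 (xiPerm x64c) (by rw [xiPerm_mem.2, x64c_norm])
    · rw [xiPerm_val]
      decide +kernel
    · rw [xiPerm_val]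
      exact ⟨pt 19, by decide +kernel⟩
  exact link64_b.trans (h2.trans ((orb_xi x64c).symm.trans h1.symm))

/-! ### The reduction to the sum of two orthogonal minimal vectors -/

theorem dotInt_b32a (z : GolayPt → ℤ) : dotInt b32a.1 z = 4 * z (pt 3) + 4 * z (pt 4) := by
  unfold dotInt
  have h1 : ∀ i, b32a.1 i * z i = (if i = pt 3 then 4 * z i else 0) +
      (if i = pt 4 then 4 * z i else 0) := by
    intro i
    show vecOf l32a i * z i = _
    rw [l32a_apply]
    by_cases h3 : i = pt 3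
    · have h4 : i ≠ pt 4 := by rw [h3]; decide
      rw [if_pos (Or.inl h3), if_pos h3, if_neg h4]; ring
    · by_cases h4 : i = pt 4
      · rw [if_pos (Or.inr h4), if_neg h3, if_pos h4]; ring
      · rw [if_neg (by tauto), if_neg h3, if_neg h4]; ring
  rw [Finset.sum_congr rfl (fun i _ => h1 i), Finset.sum_add_distrib, Finset.sum_ite_eq',
    Finset.sum_ite_eq']
  simp

/-- vectors `b32a + z` of norm 64 with `z` minimal -/
theorem orb64_aux (z : leechLattice) (hz : sqNorm z.1 = 32)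
    (hn : sqNorm (b32a + z : leechLattice).1 = 64) : Orb (frameVec none) (b32a + z) := by
  classical
  set w : leechLattice := b32a + z with hw
  have hwv : ∀ i, w.1 i = (if i = pt 3 ∨ i = pt 4 then 4 else 0) + z.1 i := by
    intro i
    show vecOf l32a i + z.1 i = _
    rw [l32a_apply]
  have hdot : z.1 (pt 3) + z.1 (pt 4) = 0 := by
    have h1 : sqNorm (b32a.1 + z.1) = 64 := hn
    rw [sqNorm_add, sqNorm_b32a, hz, dotInt_b32a] at h1
    omega
  have hwa : w.1 (pt 3) = 4 + z.1 (pt 3) := by rw [hwv, if_pos (Or.inl rfl)]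
  have hwb : w.1 (pt 4) = 4 - z.1 (pt 3) := by
    rw [hwv, if_pos (Or.inr rfl)]; omega
  have hwo : ∀ i, i ≠ pt 3 → i ≠ pt 4 → w.1 i = z.1 i := by
    intro i h3 h4
    rw [hwv, if_neg (by tauto)]; ring
  have hB := natAbs_lt_nine w.1 hn
  rcases shapes32 z hz with hodd | h2 | h4
  · -- odd
    have hwodd : ∀ i, w.1 i % 2 = 1 := by
      intro i
      rw [hwv]
      have := hodd i
      split_ifs <;> omega
    have hzc : ∀ k, k % 2 = 0 → cnt w.1 k = 0 := by
      intro k hk
      apply cnt_eq_zero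
      intro i
      have := hwodd i
      omega
    obtain ⟨h24, hsq⟩ := hist64 w.1 hn
    rw [hzc 0 (by norm_num), hzc 2 (by norm_num), hzc 4 (by norm_num), hzc 6 (by norm_num),
      hzc 8 (by norm_num)] at h24
    rw [hzc 2 (by norm_num), hzc 4 (by norm_num), hzc 6 (by norm_num), hzc 8 (by norm_num)] at hsq
    have hc7 : cnt w.1 7 = 0 := by omega
    have h7a := ne_of_cnt_zero w.1 7 hc7 (pt 3)
    have h7b := ne_of_cnt_zero w.1 7 hc7 (pt 4)
    have h9a := hB (pt 3)
    have h9b := hB (pt 4)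
    have ho := hodd (pt 3)
    refine link64_d.trans (orb64_H4 w hn hwodd ?_)
    by_cases h5 : (w.1 (pt 3)).natAbs = 5
    · exact ⟨pt 3, h5⟩
    · exact ⟨pt 4, by omega⟩
  · -- coordinates 0, ±2
    have hwev : ∀ i, w.1 i % 2 = 0 := by
      intro i
      rw [hwv]
      rcases h2 i with e | e | e <;> rw [e] <;> split_ifs <;> norm_num
    by_cases ht : z.1 (pt 3) = 0
    · -- the shape (4, 4, 2^8)
      refine link64_c.trans (orb64_H3 w hn hwev ?_)
      have hfil : Finset.univ.filter (fun i => (w.1 i).natAbs = 4) = {pt 3, pt 4} := by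
        ext i
        rw [Finset.mem_filter, Finset.mem_insert, Finset.mem_singleton]
        simp only [Finset.mem_univ, true_and]
        constructor
        · intro hi
          by_contra hcon
          rw [not_or] at hcon
          rw [hwo i hcon.1 hcon.2] at hi
          rcases h2 i with e | e | e <;> rw [e] at hi <;> norm_num at hi
        · rintro (rfl | rfl)
          · rw [hwa, ht]; rfl
          · rw [hwb, ht]; rfl
      unfold cnt
      rw [hfil]
      decide
    · -- the shape (6, 2^7)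
      refine link64_b.trans (orb64_H2 w hn hwev ?_)
      rcases h2 (pt 3) with e | e | e
      · exact absurd e ht
      · exact ⟨pt 3, by rw [hwa, e]; rfl⟩
      · exact ⟨pt 4, by rw [hwb, e]; rfl⟩
  · -- coordinates 0, ±4
    by_cases ht : z.1 (pt 3) = 0
    · refine link64_a.trans (orb64_H1 w hn ?_)
      intro i
      by_cases h3 : i = pt 3
      · right; left; rw [h3, hwa, ht]; norm_num
      · by_cases h4' : i = pt 4
        · right; left; rw [h4', hwb, ht]; norm_num
        · rw [hwo i h3 h4']; exact h4 i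
    · rcases h4 (pt 3) with e | e | e
      · exact absurd e ht
      · exact orb_frame w hn (pt 3) (by rw [hwa, e]; rfl)
      · exact orb_frame w hn (pt 4) (by rw [hwb, e]; rfl)

/-- every vector of norm 64 is in the orbit of the first frame vector -/
theorem orb64 (w : leechLattice) (hw : sqNorm w.1 = 64) : Orb (frameVec none) w := by
  obtain ⟨v, z, hv, hz, hwvz, -⟩ := decomp64 w hw
  obtain ⟨g, hg, hgv⟩ := co0_trans32 v b32a hv sqNorm_b32a
  have hgw : g w = b32a + g z := by rw [hwvz, hg.1, hgv]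
  have h1 : Orb w (g w) := ⟨g, hg, rfl⟩
  have h2 : Orb (frameVec none) (b32a + g z) :=
    orb64_aux (g z) (by rw [hg.2, hz]) (by rw [← hgw, hg.2, hw])
  rw [← hgw] at h2
  exact h2.trans h1.symm

/-- The automorphism group is transitive on the vectors of norm 64. -/
theorem co0_trans64 (v w : leechLattice) (hv : sqNorm v.1 = 64) (hw : sqNorm w.1 = 64) :
    Orb v w := (orb64 v hv).symm.trans (orb64 w hw)

end Cfsg.Agent.Helper7
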