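import Cfsg.Agent.Lib.Helper7.Co3Cent

/-!
# The centraliser of an element of order 23 in the automorphism group of the Leech lattice
-/

set_option autoImplicit false

namespace Cfsg.Agent.Helper7
open Cfsg Cfsg.Agent.Helper92

theorem g23_val (x : leechLattice) (i : GolayPt) : (g23 x).1 i = x.1 (gShift.symm i) :=
  permL_val _ _ x i

/-- a function invariant under the translations is constant on the residues -/
theorem const_of_shift_inv (f : GolayPt → ℤ) (h1 : ∀ i, f (gShift.symm i) = f i) (t : ZMod 23) :
    f (some t) = f (some 0) := by
  have h2 : ∀ n : ℕ, f (some (n : ZMod 23)) = f (some 0) := by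
    intro n
    induction n with
    | zero => simp
    | succ m ih =>
      have := h1 (some ((m + 1 : ℕ) : ZMod 23))
      have e : ((m + 1 : ℕ) : ZMod 23) - 1 = (m : ZMod 23) := by
        push_cast
        ring
      rw [gShift_symm_some, e] at this
      rw [← this, ih]
  have := h2 t.val
  rwa [ZMod.natCast_zmod_val] at this

theorem gShift_some (t : ZMod 23) : gShift (some t) = some (t + 1) := by
  have := gShift_pow_some 1 t
  rw [pow_one, Nat.cast_one] at this
  exact this

theorem sign_arith (e0 e1 m : ℤ) (h0 : e0 = 1 ∨ e0 = -1) (h1 : e1 = 1 ∨ e1 = -1)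
    (hp : (e0 * 5) % 2 = m % 2) (hs : (e0 * 5 + 23 * e1) % 8 = (4 * m) % 8) : e0 = e1 := by
  rcases h0 with rfl | rfl <;> rcases h1 with rfl | rfl <;> omega

/-- The centraliser of the translation in the automorphism group. -/
theorem cent23_co0 (h : Equiv.Perm leechLattice) (hh : h ∈ Co0) (hcomm : h * g23 = g23 * h) :
    ∃ k : ℕ, h = g23 ^ k ∨ h = negPerm * g23 ^ k := by
  have hgf : g23 (frameVec none) = frameVec none := by
    unfold g23
    rw [permL_frame]
    rfl
  have hy : g23 (h (frameVec none)) = h (frameVec none) := by
    have := congrArg (fun g : Equiv.Perm leechLattice => g (frameVec none)) hcomm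
    simp only [Equiv.Perm.mul_apply, hgf] at this
    exact this.symm
  have hconst := const_of_g23_fix _ hy
  have hnorm : sqNorm (h (frameVec none)).1 = 64 := by rw [hh.2, sqNorm_frameVec]
  rw [sqNorm_const _ hconst] at hnorm
  obtain ⟨hb, ha⟩ := arith64 _ _ hnorm
  have hf : h (frameVec none) = frameVec none ∨ h (frameVec none) = -frameVec none := by
    rcases ha with ha | ha
    · left
      apply Subtype.ext
      funext i
      rw [frameVec_val]
      cases i with
      | none => rw [ha, Pi.single_eq_same]
      | some t => rw [hconst t, hb, Pi.single_eq_of_ne (by simp)]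
    · right
      apply Subtype.ext
      funext i
      rw [AddSubgroup.coe_neg, Pi.neg_apply, frameVec_val]
      cases i with
      | none => rw [ha, Pi.single_eq_same]
      | some t => rw [hconst t, hb, Pi.single_eq_of_ne (by simp)]; simp
  obtain ⟨σ, hσ, ε, hε, hform⟩ := mono_form h hh hf
  have hε0 : ∀ i, ε i ≠ 0 := by
    intro i
    rcases hε i with h1 | h1 <;> rw [h1] <;> norm_num
  -- the commutation relation, coordinatewise
  have hc : ∀ (x : leechLattice) (i : GolayPt),
      ε i * x.1 (gShift.symm (σ.symm i)) = ε (gShift.symm i) * x.1 (σ.symm (gShift.symm i)) := by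
    intro x i
    have := congrArg (fun g : Equiv.Perm leechLattice => (g x).1 i) hcomm
    simp only [Equiv.Perm.mul_apply] at this
    rw [hform, g23_val, g23_val, hform] at this
    exact this
  have hperm : ∀ i, gShift.symm (σ.symm i) = σ.symm (gShift.symm i) := by
    intro i
    by_contra hne
    have := hc (frameVec (gShift.symm (σ.symm i))) i
    rw [frameVec_val, Pi.single_eq_same, Pi.single_eq_of_ne (Ne.symm hne)] at this
    rcases hε i with h1 | h1 <;> rw [h1] at this <;> norm_num at this
  have hεinv : ∀ i, ε (gShift.symm i) = ε i := by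
    intro i
    have := hc (frameVec (gShift.symm (σ.symm i))) i
    rw [← hperm i, frameVec_val, Pi.single_eq_same] at this
    linarith
  have hεc := const_of_shift_inv ε hεinv
  have hcomm' : σ * gShift = gShift * σ := by
    have h1 : gShift⁻¹ * σ⁻¹ = σ⁻¹ * gShift⁻¹ := by
      apply Equiv.ext
      intro i
      exact hperm i
    have h2 := congrArg (fun g : Equiv.Perm GolayPt => g⁻¹) h1
    simp only [mul_inv_rev, inv_inv] at h2
    exact h2
  have hσn : σ none = none := by
    have h1 : gShift (σ none) = σ none := by
      have := congrArg (fun g : Equiv.Perm GolayPt => g none) hcomm'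
      simp only [Equiv.Perm.mul_apply] at this
      rw [← this]
      rfl
    by_contra hne
    obtain ⟨t, ht⟩ := Option.ne_none_iff_exists'.mp hne
    rw [ht, gShift_some] at h1
    have := Option.some_injective _ h1
    have h3 : (1 : ZMod 23) = 0 := by
      have : t + 1 = t + 0 := by rw [this, add_zero]
      exact add_left_cancel this
    revert h3
    decide
  have hσsn : σ.symm none = none := by
    rw [Equiv.symm_apply_eq, hσn]
  obtain ⟨k0, hk0⟩ : ∃ k0 : ZMod 23, σ (some 0) = some k0 := by
    apply Option.ne_none_iff_exists'.mp
    intro h0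
    have := σ.injective (h0.trans hσn.symm)
    exact Option.some_ne_none _ this
  have hcommk : ∀ n : ℕ, σ * gShift ^ n = gShift ^ n * σ := by
    intro n
    exact (Commute.pow_right (show Commute σ gShift from hcomm') n).eq
  have hσeq : σ = gShift ^ k0.val := by
    apply Equiv.ext
    intro i
    cases i with
    | none => rw [hσn, gShift_pow_none]
    | some t =>
      have h1 : (some t : GolayPt) = (gShift ^ t.val) (some 0) := by
        rw [gShift_pow_some, zero_add, ZMod.natCast_zmod_val]
      rw [h1]
      have h2 := congrArg (fun g : Equiv.Perm GolayPt => g (some 0)) (hcommk t.val)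
      simp only [Equiv.Perm.mul_apply] at h2
      rw [h2, hk0, gShift_pow_some, gShift_pow_some, gShift_pow_some, ZMod.natCast_zmod_val,
        ZMod.natCast_zmod_val]
      congr 1
      ring
  -- the two signs agree, since the image of the base vector lies in the lattice
  have hval_none : (h u23).1 none = ε none * 5 := by
    rw [hform, hσsn, u23_none]
  have hval_some : ∀ t : ZMod 23, (h u23).1 (some t) = ε (some 0) := by
    intro t
    have hne : σ.symm (some t) ≠ none := by
      intro h0
      have := σ.symm.injective (h0.trans hσsn.symm)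
      exact Option.some_ne_none t this
    obtain ⟨t', ht'⟩ := Option.ne_none_iff_exists'.mp hne
    rw [hform, ht', u23_some, mul_one, hεc t]
  have hsum : ∑ i, (h u23).1 i = ε none * 5 + 23 * ε (some 0) := by
    rw [Fintype.sum_option, hval_none]
    congr 1
    rw [Finset.sum_congr rfl (fun t _ => hval_some t), Finset.sum_const, Finset.card_univ,
      ZMod.card]
    simp
  have hlat : (h u23).1 ∈ leechSet := by
    rw [← leechLattice_coe]
    exact (h u23).2
  obtain ⟨m, hm2, hm8, -⟩ := hlat
  have hεeq : ε none = ε (some 0) := by
    have h1 := hm2 none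
    rw [hval_none] at h1
    rw [hsum] at hm8
    unfold Int.ModEq at h1 hm8
    exact sign_arith _ _ m (hε none) (hε (some 0)) h1 hm8
  have hεall : ∀ i, ε i = ε none := by
    intro i
    cases i with
    | none => rfl
    | some t => rw [hεc t, hεeq]
  refine ⟨k0.val, ?_⟩
  have hpermL : permL σ hσ = g23 ^ k0.val := by
    unfold g23
    rw [← permL_pow]
    exact permL_congr hσeq _ _
  rcases hε none with e0 | e0
  · left
    rw [← hpermL]
    apply Equiv.ext
    intro x
    apply Subtype.ext
    funext i
    rw [hform, hεall, e0, one_mul, permL_val]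
  · right
    rw [← hpermL]
    apply Equiv.ext
    intro x
    apply Subtype.ext
    funext i
    rw [hform, hεall, e0, Equiv.Perm.mul_apply, negPerm_apply, AddSubgroup.coe_neg, Pi.neg_apply,
      permL_val]
    ring

end Cfsg.Agent.Helper7
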