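import Cfsg.Agent.Lib.Helper92.Monomial
import Cfsg.Agent.Lib.Helper7.LeechBasic
import Cfsg.Agent.Lib.Helper7.M24Trans
import Cfsg.Agent.Lib.Helper7.Count

/-!
# Monomial automorphisms of the Leech lattice and the coordinate frame
-/

set_option autoImplicit false

namespace Cfsg.Agent.Helper7
open Cfsg Cfsg.Agent.Helper91 Cfsg.Agent.Helper92
open scoped Pointwise

/-! ### The frame vectors -/

theorem single_mem_leech (i : GolayPt) (s : ℤ) (hs : 8 ∣ s) :
    (Pi.single i s : GolayPt → ℤ) ∈ leechLattice := by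
  rw [mem_leechLattice_iff]
  obtain ⟨t, rfl⟩ := hs
  refine ⟨0, Pi.single i (4 * t), fun j => ?_, ?_, ?_⟩
  · by_cases hj : j = i
    · subst hj; simp only [Pi.single_eq_same]; ring
    · simp only [Pi.single_eq_of_ne hj]; ring
  · have : red (Pi.single i (4 * t)) = 0 := by
      funext j
      unfold red
      by_cases hj : j = i
      · subst hj
        simp only [Pi.single_eq_same, Pi.zero_apply]
        rw [ZMod.intCast_zmod_eq_zero_iff_dvd]
        exact ⟨2 * t, by ring⟩
      · simp only [Pi.single_eq_of_ne hj, Pi.zero_apply, Int.cast_zero]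
    rw [this]
    exact golayCode.zero_mem
  · rw [Finset.sum_pi_single']
    simp only [Finset.mem_univ, if_true]
    exact (Int.modEq_zero_iff_dvd.mpr ⟨t, by ring⟩).trans (by simp)

/-- the frame vector `8 e_i` -/
def frameVec (i : GolayPt) : leechLattice := ⟨Pi.single i 8, single_mem_leech i 8 (dvd_refl 8)⟩

theorem frameVec_val (i : GolayPt) : (frameVec i : GolayPt → ℤ) = Pi.single i 8 := rfl

/-- `8 x` is the combination of the frame vectors with the coordinates of `x`. -/
theorem eight_smul_eq_sum (x : leechLattice) :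
    (8 : ℤ) • x = ∑ i, (x.1 i) • frameVec i := by
  apply Subtype.ext
  rw [AddSubgroup.val_finsetSum]
  funext j
  rw [Finset.sum_apply]
  simp only [AddSubgroup.coe_zsmul, Pi.smul_apply, frameVec_val, smul_eq_mul]
  rw [Finset.sum_eq_single j]
  · simp only [Pi.single_eq_same]; ring
  · intro i _ hij
    rw [Pi.single_eq_of_ne (Ne.symm hij), mul_zero]
  · intro h; exact absurd (Finset.mem_univ j) h

/-- the additive map underlying an element of `Co0` -/
def co0Hom (g : Equiv.Perm leechLattice) (hg : g ∈ Co0) : leechLattice →+ leechLattice :=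
  AddMonoidHom.mk' g hg.1

theorem co0Hom_apply (g : Equiv.Perm leechLattice) (hg : g ∈ Co0) (x : leechLattice) :
    co0Hom g hg x = g x := rfl

/-- An additive map is determined by its values on the frame. -/
theorem addHom_ext_frame (f h : leechLattice →+ leechLattice)
    (hfh : ∀ i, f (frameVec i) = h (frameVec i)) : f = h := by
  ext x : 1
  have key : (8 : ℤ) • f x = (8 : ℤ) • h x := by
    rw [← map_zsmul, ← map_zsmul, eight_smul_eq_sum, map_sum, map_sum]
    apply Finset.sum_congr rfl
    intro i _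
    rw [map_zsmul, map_zsmul, hfh i]
  apply Subtype.ext
  funext j
  have := congrArg (fun v : leechLattice => v.1 j) key
  simp only [AddSubgroup.coe_zsmul, Pi.smul_apply, smul_eq_mul] at this
  omega

/-! ### Monomial elements -/

theorem signedPerm_signedPerm (σ : Equiv.Perm GolayPt) (c : Finset GolayPt) (x : GolayPt → ℤ) :
    signedPerm σ⁻¹ (σ⁻¹ • c) (signedPerm σ c x) = x := by
  funext i
  rw [signedPerm_apply, signedPerm_apply]
  have e1 : (σ⁻¹).symm i = σ i := rfl
  have e2 : σ.symm (σ i) = i := σ.symm_apply_apply i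
  have e3 : i ∈ σ⁻¹ • c ↔ σ i ∈ c := by rw [mem_smul_iff, e1]
  rw [e1, e2]
  by_cases h : σ i ∈ c
  · rw [if_pos (e3.mpr h), if_pos h]; ring
  · rw [if_neg (fun h' => h (e3.mp h')), if_neg h]

theorem signedPerm_signedPerm' (σ : Equiv.Perm GolayPt) (c : Finset GolayPt) (x : GolayPt → ℤ) :
    signedPerm σ c (signedPerm σ⁻¹ (σ⁻¹ • c) x) = x := by
  funext i
  rw [signedPerm_apply, signedPerm_apply]
  have e1 : (σ⁻¹).symm (σ.symm i) = σ (σ.symm i) := rfl
  have e2 : σ (σ.symm i) = i := σ.apply_symm_apply i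
  have e3 : σ.symm i ∈ σ⁻¹ • c ↔ i ∈ c := by rw [mem_smul_iff, e1, e2]
  rw [e1, e2]
  by_cases h : i ∈ c
  · rw [if_pos h, if_pos (e3.mpr h)]; ring
  · rw [if_neg h, if_neg (fun h' => h (e3.mp h'))]

/-- the monomial automorphism given by a code automorphism and a code word of sign changes -/
def monoPerm (σ : Equiv.Perm GolayPt) (c : Finset GolayPt) (hσ : σ ∈ M24) (hc : c ∈ Code) :
    Equiv.Perm leechLattice where
  toFun x := ⟨signedPerm σ c x.1, signedPerm_mem_leechLattice x.2 hσ hc⟩
  invFun x := ⟨signedPerm σ⁻¹ (σ⁻¹ • c) x.1,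
    signedPerm_mem_leechLattice x.2 (M24.inv_mem hσ) (smul_mem (M24.inv_mem hσ) hc)⟩
  left_inv x := Subtype.ext (signedPerm_signedPerm σ c x.1)
  right_inv x := Subtype.ext (signedPerm_signedPerm' σ c x.1)

theorem monoPerm_val (σ : Equiv.Perm GolayPt) (c : Finset GolayPt) (hσ : σ ∈ M24) (hc : c ∈ Code)
    (x : leechLattice) : ((monoPerm σ c hσ hc x : leechLattice) : GolayPt → ℤ) =
      signedPerm σ c x.1 := rfl

theorem monoPerm_mem (σ : Equiv.Perm GolayPt) (c : Finset GolayPt) (hσ : σ ∈ M24) (hc : c ∈ Code) :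
    monoPerm σ c hσ hc ∈ Co0 :=
  ⟨fun v w => Subtype.ext (signedPerm_add σ c v.1 w.1), fun v => sqNorm_signedPerm σ c v.1⟩

theorem signedPerm_single (σ : Equiv.Perm GolayPt) (c : Finset GolayPt) (i : GolayPt) (s : ℤ) :
    signedPerm σ c (Pi.single i s) = Pi.single (σ i) (if σ i ∈ c then -s else s) := by
  funext j
  rw [signedPerm_apply]
  by_cases hj : j = σ i
  · subst hj
    rw [Pi.single_eq_same, σ.symm_apply_apply, Pi.single_eq_same]
  · have : σ.symm j ≠ i := by
      intro h
      apply hj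
      rw [← h, σ.apply_symm_apply]
    rw [Pi.single_eq_of_ne hj, Pi.single_eq_of_ne this]
    simp

end Cfsg.Agent.Helper7
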