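import Cfsg.Agent.S5392
import Cfsg.Agent.Lib.Helper7.LeechMod2Count
import Cfsg.Agent.Lib.Helper7.LeechMono

/-!
# Normal 2-subgroups of the automorphism group of the Leech lattice are central
-/

set_option autoImplicit false

namespace Cfsg.Agent.Helper7
open Cfsg

/-- the action of an automorphism on the lattice modulo 2 -/
def actQ (g : Equiv.Perm leechLattice) (hg : g ∈ Co0) : LeechQ →+ LeechQ :=
  QuotientAddGroup.map _ _ (co0Hom g hg) (by
    intro x hx
    rw [AddSubgroup.mem_comap]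
    rw [AddSubgroup.mem_addSubgroupOf] at hx ⊢
    obtain ⟨z, hz, hzx⟩ := (mem_twoL _).mp hx
    rw [mem_twoL]
    refine ⟨(g ⟨z, hz⟩).1, (g ⟨z, hz⟩).2, ?_⟩
    have hx' : x = ⟨z, hz⟩ + ⟨z, hz⟩ := Subtype.ext (by rw [← hzx, two_nsmul]; rfl)
    rw [co0Hom_apply, hx', hg.1, two_nsmul]
    rfl)

theorem actQ_piQ (g : Equiv.Perm leechLattice) (hg : g ∈ Co0) (x : leechLattice) :
    actQ g hg (piQ x) = piQ (g x) := rfl

theorem piQ_surj (q : LeechQ) : ∃ x : leechLattice, piQ x = q :=
  QuotientAddGroup.mk_surjective q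

/-- the action of a subgroup on the lattice modulo 2 -/
@[reducible] noncomputable def actQMulAction (N : Subgroup ↥Co0) : DistribMulAction N LeechQ where
  smul n q := actQ n.1.1 n.1.2 q
  one_smul q := by
    obtain ⟨x, rfl⟩ := piQ_surj q
    rfl
  mul_smul a b q := by
    obtain ⟨x, rfl⟩ := piQ_surj q
    rfl
  smul_zero n := map_zero _
  smul_add n a b := map_add _ a b

theorem normal_two_le_center (N : Subgroup ↥Co0) [hNn : N.Normal] (hN : IsPGroup 2 N) :
    N ≤ Subgroup.center ↥Co0 := by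
  let _ := actQMulAction N
  have hsmul : ∀ (n : N) (x : leechLattice), n • piQ x = piQ (n.1.1 x) := fun n x => rfl
  obtain ⟨hfaith, hirr⟩ := Cfsg.Agent.S5392.result
  set M : AddSubgroup (GolayPt → ℤ) :=
    ((FixedPoints.addSubgroup N LeechQ).comap
      (QuotientAddGroup.mk' (twoL.addSubgroupOf leechLattice))).map leechLattice.subtype with hM
  have hmemM : ∀ x : leechLattice, x.1 ∈ M ↔ ∀ n : N, n • piQ x = piQ x := by
    intro x
    rw [hM, AddSubgroup.mem_map]
    constructor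
    · rintro ⟨y, hy, hyx⟩
      have : y = x := Subtype.ext hyx
      subst this
      rw [AddSubgroup.mem_comap, FixedPoints.mem_addSubgroup] at hy
      exact hy
    · intro h
      refine ⟨x, ?_, rfl⟩
      rw [AddSubgroup.mem_comap, FixedPoints.mem_addSubgroup]
      exact h
  have hMle : M ≤ leechLattice := by
    rw [hM]
    intro x hx
    obtain ⟨y, -, rfl⟩ := AddSubgroup.mem_map.mp hx
    exact y.2
  have h2M : ∀ v ∈ leechLattice, (2 : ℤ) • v ∈ M := by
    intro v hv
    have hmem : (2 : ℤ) • v ∈ leechLattice := leechLattice.zsmul_mem hv 2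
    have h0 : piQ ⟨(2 : ℤ) • v, hmem⟩ = 0 := by
      have : piQ ⟨(2 : ℤ) • v, hmem⟩ = piQ 0 := by
        rw [piQ_eq_iff]
        refine ⟨v, hv, ?_⟩
        simp [two_smul]
      rw [this]
      rfl
    have := (hmemM ⟨(2 : ℤ) • v, hmem⟩).mpr (fun n => by rw [h0, smul_zero])
    exact this
  have hinv : ∀ g : ↥Co0, ∀ v : ↥leechLattice, (v : GolayPt → ℤ) ∈ M →
      ((g • v : ↥leechLattice) : GolayPt → ℤ) ∈ M := by
    intro g v hv
    rw [hmemM] at hv
    show ((g.1 v : leechLattice) : GolayPt → ℤ) ∈ M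
    rw [hmemM]
    intro n
    have hconj : g⁻¹ * n.1 * g ∈ N := by
      have := hNn.conj_mem n.1 n.2 g⁻¹
      simpa using this
    have h1 := hv ⟨g⁻¹ * n.1 * g, hconj⟩
    rw [hsmul, piQ_eq_iff] at h1
    rw [hsmul, piQ_eq_iff]
    obtain ⟨z, hz, hzeq⟩ := h1
    refine ⟨(g.1 ⟨z, hz⟩).1, (g.1 ⟨z, hz⟩).2, ?_⟩
    -- n (g v) - g v = g (g⁻¹ n g v - v) = g (2 z) = 2 g z
    have e1 : (⟨g⁻¹ * n.1 * g, hconj⟩ : N).1.1 v = g.1⁻¹ (n.1.1 (g.1 v)) := rfl
    rw [e1] at hzeq
    have e2 : g.1⁻¹ (n.1.1 (g.1 v)) = v + (⟨z, hz⟩ + ⟨z, hz⟩) := by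
      apply Subtype.ext
      have : (g.1⁻¹ (n.1.1 (g.1 v))).1 = v.1 + 2 • z := by rw [← hzeq]; abel
      rw [this, two_nsmul]
      rfl
    have e3 : n.1.1 (g.1 v) = g.1 (v + (⟨z, hz⟩ + ⟨z, hz⟩)) := by
      rw [← e2]
      simp
    rw [e3, g.2.1, g.2.1, two_nsmul]
    show (g.1 v).1 + ((g.1 ⟨z, hz⟩).1 + (g.1 ⟨z, hz⟩).1) - (g.1 v).1 = _
    abel
  rcases hirr M h2M hMle hinv with hcase | hcase
  · -- the fixed points are trivial: contradiction by counting
    exfalso
    have hmod := hN.card_modEq_card_fixedPoints LeechQ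
    have hfix : Nat.card (MulAction.fixedPoints N LeechQ) = 1 := by
      rw [Nat.card_eq_one_iff_unique]
      constructor
      · constructor
        have hzero : ∀ q : MulAction.fixedPoints N LeechQ, (q.1 : LeechQ) = 0 := by
          intro q
          obtain ⟨x, hx⟩ := piQ_surj q.1
          have hxM : x.1 ∈ M := (hmemM x).mpr (fun n => by rw [hx]; exact q.2 n)
          obtain ⟨w, hw, hxw⟩ := hcase x.1 hxM
          rw [← hx]
          have : piQ x = piQ 0 := by
            rw [piQ_eq_iff]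
            refine ⟨w, hw, ?_⟩
            rw [hxw]
            simp [two_smul]
          rw [this]
          rfl
        intro a b
        apply Subtype.ext
        rw [hzero a, hzero b]
      · exact ⟨⟨0, fun n => smul_zero n⟩⟩
    rw [hfix, card_LeechQ] at hmod
    unfold Nat.ModEq at hmod
    norm_num at hmod
  · -- everything is fixed: the subgroup acts trivially modulo 2
    intro n hn
    apply hfaith n
    intro v
    have hvM : v.1 ∈ M := by rw [hcase]; exact v.2
    have h1 := (hmemM v).mp hvM ⟨n, hn⟩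
    rw [hsmul, piQ_eq_iff] at h1
    obtain ⟨z, hz, hzeq⟩ := h1
    exact ⟨⟨z, hz⟩, hzeq⟩

end Cfsg.Agent.Helper7
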