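import Cfsg.Agent.Lib.Helper7.Co1Cent
import Cfsg.Agent.Lib.Helper7.Co1O2
import Cfsg.Agent.Lib.Helper7.Co0Order

/-!
# The automorphism group of the Leech lattice modulo its centre is simple
-/

set_option autoImplicit false

namespace Cfsg.Agent.Helper7
open Cfsg

instance finite_Co0 : Finite ↥Co0 := Nat.finite_of_card_ne_zero (by rw [card_Co0]; norm_num)

theorem card_Co1Q : Nat.card (↥Co0 ⧸ Subgroup.center ↥Co0) = 4157776806543360000 := by
  have h := Subgroup.card_eq_card_quotient_mul_card_subgroup (Subgroup.center ↥Co0)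
  rw [card_Co0, card_center_Co0] at h
  omega

/-- the translation and the negation, as elements of the automorphism group -/
def g23C : ↥Co0 := ⟨g23, g23_mem⟩

def negC : ↥Co0 := ⟨negPerm, negPerm_mem⟩

theorem negC_mem_center : negC ∈ Subgroup.center ↥Co0 :=
  Subgroup.mem_center_iff.mpr (fun g => Subtype.ext (negPerm_comm g.1 g.2))

theorem mem_center_cases (z : ↥Co0) (hz : z ∈ Subgroup.center ↥Co0) : z = 1 ∨ z = negC := by
  rcases central_cases z.1 z.2 (fun g hg => by
    have := Subgroup.mem_center_iff.mp hz ⟨g, hg⟩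
    exact congrArg Subtype.val this) with h | h
  · left
    exact Subtype.ext h
  · right
    exact Subtype.ext h

theorem negC_ne_one : negC ≠ 1 := fun h => negPerm_ne_one (congrArg Subtype.val h)

theorem negC_sq : negC * negC = 1 := by
  apply Subtype.ext
  apply Equiv.ext
  intro x
  show negPerm (negPerm x) = x
  rw [negPerm_apply, negPerm_apply, neg_neg]

theorem negC_pow23 : negC ^ 23 = negC := by
  have : negC ^ 23 = (negC * negC) ^ 11 * negC := by
    rw [← pow_two, ← pow_mul, ← pow_succ]
  rw [this, negC_sq, one_pow, one_mul]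

theorem g23C_pow23 : g23C ^ 23 = 1 := by
  apply Subtype.ext
  show ((g23C ^ 23 : ↥Co0) : Equiv.Perm leechLattice) = 1
  rw [SubgroupClass.coe_pow]
  exact g23_pow23

theorem g23C_not_mem_center : g23C ∉ Subgroup.center ↥Co0 := by
  intro h
  rcases mem_center_cases g23C h with h1 | h1
  · exact g23_ne_one (congrArg Subtype.val h1)
  · have h2 : g23 = negPerm := congrArg Subtype.val h1
    have h3 : g23 (frameVec none) = frameVec none := by
      unfold g23
      rw [permL_frame]
      rfl
    rw [h2, negPerm_apply] at h3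
    have := congrArg (fun v : leechLattice => v.1 none) h3
    simp [frameVec_val] at this

/-- the image of the translation in the quotient -/
def g23Q : ↥Co0 ⧸ Subgroup.center ↥Co0 := QuotientGroup.mk g23C

theorem orderOf_g23Q : orderOf g23Q = 23 := by
  have : Fact (Nat.Prime 23) := ⟨by norm_num⟩
  apply orderOf_eq_prime
  · unfold g23Q
    rw [← QuotientGroup.mk_pow, g23C_pow23]
    rfl
  · intro h
    exact g23C_not_mem_center ((QuotientGroup.eq_one_iff g23C).mp h)

theorem prime_cases_co1 (r : ℕ) (hr : r.Prime)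
    (h : r ∣ 2 ^ 21 * 3 ^ 9 * 5 ^ 4 * 7 ^ 2 * 11 * 13 * 23) :
    r = 2 ∨ r = 3 ∨ r = 5 ∨ r = 7 ∨ r = 11 ∨ r = 13 ∨ r = 23 := by
  rcases (Nat.Prime.dvd_mul hr).mp h with h | h
  · rcases (Nat.Prime.dvd_mul hr).mp h with h | h
    · rcases (Nat.Prime.dvd_mul hr).mp h with h | h
      · rcases (Nat.Prime.dvd_mul hr).mp h with h | h
        · rcases (Nat.Prime.dvd_mul hr).mp h with h | h
          · rcases (Nat.Prime.dvd_mul hr).mp h with h | h
            · left
              exact (Nat.prime_dvd_prime_iff_eq hr Nat.prime_two).mp (hr.dvd_of_dvd_pow h)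
            · right; left
              exact (Nat.prime_dvd_prime_iff_eq hr Nat.prime_three).mp (hr.dvd_of_dvd_pow h)
          · right; right; left
            exact (Nat.prime_dvd_prime_iff_eq hr Nat.prime_five).mp (hr.dvd_of_dvd_pow h)
        · right; right; right; left
          exact (Nat.prime_dvd_prime_iff_eq hr (by norm_num)).mp (hr.dvd_of_dvd_pow h)
      · right; right; right; right; left
        exact (Nat.prime_dvd_prime_iff_eq hr (by norm_num)).mp h
    · right; right; right; right; right; left
      exact (Nat.prime_dvd_prime_iff_eq hr (by norm_num)).mp h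
  · right; right; right; right; right; right
    exact (Nat.prime_dvd_prime_iff_eq hr (by norm_num)).mp h

theorem arith_co1 : ∀ r a : ℕ, r.Prime → r ≠ 2 → 0 < a → r ^ a ∣ 4157776806543360000 →
    r ^ a % 23 ≠ 1 := by
  intro r a hr hr2 ha hdvd
  have hfac : (4157776806543360000 : ℕ) = 2 ^ 21 * 3 ^ 9 * 5 ^ 4 * 7 ^ 2 * 11 * 13 * 23 := by
    norm_num
  have hr_dvd : r ∣ 2 ^ 21 * 3 ^ 9 * 5 ^ 4 * 7 ^ 2 * 11 * 13 * 23 :=
    hfac ▸ (dvd_pow_self r ha.ne').trans hdvd
  rcases prime_cases_co1 r hr hr_dvd with rfl | rfl | rfl | rfl | rfl | rfl | rfl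
  · exact absurd rfl hr2
  · have ha' : a ≤ 9 := by
      by_contra hlt
      rw [not_le] at hlt
      have : 3 ^ 10 ∣ 4157776806543360000 := (pow_dvd_pow 3 hlt).trans hdvd
      norm_num at this
    interval_cases a <;> norm_num
  · have ha' : a ≤ 4 := by
      by_contra hlt
      rw [not_le] at hlt
      have : 5 ^ 5 ∣ 4157776806543360000 := (pow_dvd_pow 5 hlt).trans hdvd
      norm_num at this
    interval_cases a <;> norm_num
  · have ha' : a ≤ 2 := by
      by_contra hlt
      rw [not_le] at hlt
      have : 7 ^ 3 ∣ 4157776806543360000 := (pow_dvd_pow 7 hlt).trans hdvd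
      norm_num at this
    interval_cases a <;> norm_num
  · have ha' : a ≤ 1 := by
      by_contra hlt
      rw [not_le] at hlt
      have : 11 ^ 2 ∣ 4157776806543360000 := (pow_dvd_pow 11 hlt).trans hdvd
      norm_num at this
    interval_cases a <;> norm_num
  · have ha' : a ≤ 1 := by
      by_contra hlt
      rw [not_le] at hlt
      have : 13 ^ 2 ∣ 4157776806543360000 := (pow_dvd_pow 13 hlt).trans hdvd
      norm_num at this
    interval_cases a <;> norm_num
  · have ha' : a ≤ 1 := by
      by_contra hlt
      rw [not_le] at hlt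
      have : 23 ^ 2 ∣ 4157776806543360000 := (pow_dvd_pow 23 hlt).trans hdvd
      norm_num at this
    interval_cases a <;> norm_num

theorem arith_co1b : ∀ e k : ℕ, e ∣ 23 - 1 →
    4157776806543360000 = 23 * e * (23 * k + 1) → e = 11 := by
  intro e k he h
  have hle : e ≤ 22 := Nat.le_of_dvd (by norm_num) he
  interval_cases e <;> omega

/-- the quotient has no nontrivial normal 2-subgroups -/
theorem co1_no_normal_two (N : Subgroup (↥Co0 ⧸ Subgroup.center ↥Co0)) (hNn : N.Normal)
    (hN : IsPGroup 2 N) : N = ⊥ := by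
  have hZ : IsPGroup 2 (QuotientGroup.mk' (Subgroup.center ↥Co0)).ker := by
    rw [QuotientGroup.ker_mk']
    exact IsPGroup.of_card (n := 1) (by rw [card_center_Co0, pow_one])
  have hcomap := hN.comap_of_ker_isPGroup (QuotientGroup.mk' (Subgroup.center ↥Co0)) hZ
  have hnorm : (N.comap (QuotientGroup.mk' (Subgroup.center ↥Co0))).Normal := hNn.comap _
  have hle := normal_two_le_center (N.comap (QuotientGroup.mk' (Subgroup.center ↥Co0))) hcomap
  rw [eq_bot_iff]
  intro q hq
  obtain ⟨x, rfl⟩ := QuotientGroup.mk_surjective q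
  have hx : x ∈ N.comap (QuotientGroup.mk' (Subgroup.center ↥Co0)) := hq
  rw [Subgroup.mem_bot]
  exact (QuotientGroup.eq_one_iff x).mpr (hle hx)

/-- The automorphism group of the Leech lattice modulo its centre is simple. -/
theorem co1_simple : IsSimpleGroup (↥Co0 ⧸ Subgroup.center ↥Co0) := by
  have : Fact (Nat.Prime 23) := ⟨by norm_num⟩
  have hcard := card_Co1Q
  have hnd : ¬ 23 ^ 2 ∣ Nat.card (↥Co0 ⧸ Subgroup.center ↥Co0) := by
    rw [hcard]
    norm_num
  obtain ⟨P, hPcard, hPeq⟩ := exists_sylow_zpowers g23Q orderOf_g23Q hnd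
  have hC : Subgroup.centralizer ((P : Subgroup (↥Co0 ⧸ Subgroup.center ↥Co0)) : Set _) ≤
      (P : Subgroup (↥Co0 ⧸ Subgroup.center ↥Co0)) := by
    intro q hq
    rw [hPeq]
    have hqg : g23Q * q = q * g23Q := by
      rw [Subgroup.mem_centralizer_iff] at hq
      exact hq g23Q (hPeq ▸ Subgroup.mem_zpowers g23Q)
    obtain ⟨x, rfl⟩ := QuotientGroup.mk_surjective q
    have hz : (g23C * x)⁻¹ * (x * g23C) ∈ Subgroup.center ↥Co0 := by
      apply QuotientGroup.eq.mp
      exact hqg
    have hxcomm : x * g23C = g23C * x := by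
      rcases mem_center_cases _ hz with h1 | h1
      · have : x * g23C = (g23C * x) * ((g23C * x)⁻¹ * (x * g23C)) := by group
        rw [this, h1, mul_one]
      · exfalso
        have h2 : x * g23C = g23C * x * negC := by
          have : x * g23C = (g23C * x) * ((g23C * x)⁻¹ * (x * g23C)) := by group
          rw [this, h1]
        have hnc : ∀ y : ↥Co0, y * negC = negC * y :=
          fun y => Subgroup.mem_center_iff.mp negC_mem_center y
        have h3 : x * g23C * x⁻¹ = g23C * negC := by
          rw [h2, mul_assoc g23C x negC, hnc x, ← mul_assoc, mul_assoc (g23C * negC) x x⁻¹,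
            mul_inv_cancel, mul_one]
        have h4 : (x * g23C * x⁻¹) ^ 23 = 1 := by
          rw [conj_pow, g23C_pow23, mul_one, mul_inv_cancel]
        have h5 : (g23C * negC) ^ 23 = negC := by
          rw [(show Commute g23C negC from hnc g23C).mul_pow, g23C_pow23, negC_pow23, one_mul]
        rw [h3, h5] at h4
        exact negC_ne_one h4
    obtain ⟨k, hk⟩ := cent23_co0 x.1 x.2 (congrArg Subtype.val hxcomm)
    rw [Subgroup.mem_zpowers_iff]
    refine ⟨k, ?_⟩
    rw [zpow_natCast]
    unfold g23Q
    rw [← QuotientGroup.mk_pow]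
    rcases hk with hk | hk
    · congr 1
      apply Subtype.ext
      rw [SubgroupClass.coe_pow]
      exact hk.symm
    · have hx : x = negC * g23C ^ k := by
        apply Subtype.ext
        rw [Subgroup.coe_mul, SubgroupClass.coe_pow]
        exact hk
      rw [hx, QuotientGroup.mk_mul, (QuotientGroup.eq_one_iff negC).mpr negC_mem_center, one_mul]
  apply simple_of_sylow_prime_two P hPcard hC _ co1_no_normal_two 11 (by norm_num) _ _
  · rw [hcard]
    exact arith_co1
  · rw [hcard]
    exact arith_co1b
  · rw [hcard]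
    norm_num

end Cfsg.Agent.Helper7
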