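import Mathlib

set_option autoImplicit false

namespace Cfsg.Agent.Helper7

open Subgroup

section
variable {G : Type*} [Group G] [Finite G] {p : ℕ} [Fact p.Prime]

/-- If a Sylow `p`-subgroup `P` of order `p` is self-centralising, then `|N(P) : P|` divides
`p - 1`. -/
theorem relIndex_normalizer_dvd (P : Sylow p G) (hP : Nat.card P = p)
    (hC : centralizer ((P : Subgroup G) : Set G) ≤ P) :
    (P : Subgroup G).relIndex (normalizer ((P : Subgroup G) : Set G)) ∣ p - 1 := by
  have hcyc : IsCyclic P := isCyclic_of_prime_card hP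
  have key := card_dvd_of_injective _ (QuotientGroup.kerLift_injective (P : Subgroup G).normalizerMonoidHom)
  rw [normalizerMonoidHom_ker, ← index, ← relIndex, hcyc.card_mulAut, hP,
    Nat.totient_prime Fact.out] at key
  have : IsMulCommutative (P : Subgroup G) := ⟨⟨fun a b => by
    have := hcyc
    exact (IsCyclic.commGroup (α := P)).mul_comm a b⟩⟩
  have hle : (P : Subgroup G) ≤ centralizer ((P : Subgroup G) : Set G) :=
    le_centralizer (P : Subgroup G)
  have heq : centralizer ((P : Subgroup G) : Set G) = (P : Subgroup G) := le_antisymm hC hle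
  rwa [heq] at key

/-- A Sylow subgroup of order `p` lies in every normal subgroup of order divisible by `p`. -/
theorem sylow_le_normal (P : Sylow p G) (hP : Nat.card P = p) (N : Subgroup G) [N.Normal]
    (hpN : p ∣ Nat.card N) : (P : Subgroup G) ≤ N := by
  have hp : p.Prime := Fact.out
  have h1 : Nat.card G = p * (P : Subgroup G).index := by
    have := card_mul_index (P : Subgroup G)
    rw [hP] at this
    exact this.symm
  have h2 : ¬ p ∣ (P : Subgroup G).index := P.not_dvd_index
  have h3 : Nat.card G = Nat.card (G ⧸ N) * Nat.card N := card_eq_card_quotient_mul_card_subgroup N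
  have h4 : ¬ p ∣ Nat.card (G ⧸ N) := by
    intro h
    obtain ⟨a, ha⟩ := h
    obtain ⟨b, hb⟩ := hpN
    apply h2
    have : p * (P : Subgroup G).index = p * (p * (a * b)) := by
      rw [← h1, h3, ha, hb]; ring
    exact ⟨a * b, Nat.eq_of_mul_eq_mul_left hp.pos this⟩
  intro x hx
  have ho1 : orderOf (QuotientGroup.mk' N x) ∣ p := by
    have : orderOf (⟨x, hx⟩ : P) ∣ p := by
      have h := orderOf_dvd_natCard (⟨x, hx⟩ : (P : Subgroup G))
      rwa [hP] at h
    have h5 : orderOf x = orderOf (⟨x, hx⟩ : P) := by
      rw [← Subgroup.orderOf_coe]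
    exact (orderOf_map_dvd (QuotientGroup.mk' N) x).trans (h5 ▸ this)
  have ho2 : orderOf (QuotientGroup.mk' N x) ∣ Nat.card (G ⧸ N) := orderOf_dvd_natCard _
  have : orderOf (QuotientGroup.mk' N x) = 1 := by
    rcases (Nat.dvd_prime hp).mp ho1 with h | h
    · exact h
    · rw [h] at ho2
      exact absurd ho2 h4
  rw [orderOf_eq_one_iff] at this
  exact (QuotientGroup.eq_one_iff x).mp this

/-- Simplicity criterion: a self-centralising Sylow subgroup of prime order `p`, every nontrivial
normal subgroup of order divisible by `p`, and arithmetic forcing `|N(P)| = p * d`, `d` prime. -/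
theorem simple_of_sylow_prime (P : Sylow p G) (hP : Nat.card P = p)
    (hC : centralizer ((P : Subgroup G) : Set G) ≤ P)
    (hN : ∀ N : Subgroup G, N.Normal → N ≠ ⊥ → p ∣ Nat.card N)
    (d : ℕ) (hd : d.Prime)
    (harith : ∀ e k : ℕ, e ∣ p - 1 → Nat.card G = p * e * (p * k + 1) → e = d)
    (hbig : p * d < Nat.card G) : IsSimpleGroup G := by
  have hp : p.Prime := Fact.out
  set NP := normalizer ((P : Subgroup G) : Set G) with hNP
  have hPNP : (P : Subgroup G) ≤ NP := le_normalizer
  -- the index of `P` in its normaliser is `d`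
  have he : (P : Subgroup G).relIndex NP = d := by
    apply harith _ ((Nat.card (Sylow p G) - 1) / p) (relIndex_normalizer_dvd P hP hC)
    have h1 : Nat.card G = p * (P : Subgroup G).index := by
      have := card_mul_index (P : Subgroup G)
      rw [hP] at this
      exact this.symm
    have h2 := relIndex_mul_index hPNP
    have h3 : NP.index = Nat.card (Sylow p G) := (P.card_eq_index_normalizer).symm
    have h4 : Nat.card (Sylow p G) ≡ 1 [MOD p] := card_sylow_modEq_one p G
    have h5 : p * ((Nat.card (Sylow p G) - 1) / p) + 1 = Nat.card (Sylow p G) := by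
      have hpos : 0 < Nat.card (Sylow p G) := Nat.card_pos
      have := (Nat.modEq_iff_dvd' hpos).mp h4.symm
      obtain ⟨c, hc⟩ := this
      rw [hc, Nat.mul_div_cancel_left _ hp.pos]
      omega
    rw [h5, ← h3, h1, ← h2]
    ring
  have hnontriv : Nontrivial G := by
    rw [← Finite.one_lt_card_iff_nontrivial]
    have := hp.two_le
    have := hd.two_le
    nlinarith
  refine ⟨fun N hNn => ?_⟩
  by_contra hcon
  rw [not_or] at hcon
  obtain ⟨hbot, htop⟩ := hcon
  have hpN := hN N hNn hbot
  have hPN : (P : Subgroup G) ≤ N := sylow_le_normal P hP N hpN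
  -- Frattini
  have hfrat : NP ⊔ N = ⊤ := P.normalizer_sup_eq_top' hPN
  have hidx : N.index = N.relIndex NP := by
    rw [← relIndex_top_right, ← hfrat, relIndex_sup_right]
  have hle1 : (P : Subgroup G) ≤ N ⊓ NP := le_inf hPN hPNP
  have hmul := relIndex_mul_relIndex (H := (P : Subgroup G)) (K := N ⊓ NP) (L := NP) hle1 inf_le_right
  rw [inf_relIndex_right, he, ← hidx] at hmul
  have hidx_ne : N.index ≠ 1 := fun h => htop (index_eq_one.mp h)
  have hdvd : N.index ∣ d := ⟨_, by rw [← hmul, mul_comm]⟩
  have hidx_d : N.index = d := ((Nat.dvd_prime hd).mp hdvd).resolve_left hidx_ne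
  have hrel1 : (P : Subgroup G).relIndex (N ⊓ NP) = 1 := by
    rw [hidx_d] at hmul
    have hdpos := hd.pos
    exact Nat.eq_of_mul_eq_mul_right hdpos (by rw [hmul, one_mul])
  have hNNP : N ⊓ NP ≤ (P : Subgroup G) := relIndex_eq_one.mp hrel1
  -- Burnside's transfer inside `N`
  have hcomm : ∀ a b : G, a ∈ (P : Subgroup G) → b ∈ (P : Subgroup G) → a * b = b * a := by
    intro a b ha hb
    have hcyc : IsCyclic P := isCyclic_of_prime_card hP
    have := (IsCyclic.commGroup (α := P)).mul_comm ⟨a, ha⟩ ⟨b, hb⟩
    exact congrArg Subtype.val this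
  let PN : Sylow p N := P.subtype hPN
  have hPNmem : ∀ n : N, n ∈ (PN : Subgroup N) ↔ (n : G) ∈ (P : Subgroup G) := by
    intro n
    rw [Sylow.coe_subtype, mem_subgroupOf]
  have hBurn : normalizer ((PN : Subgroup N) : Set N) ≤ centralizer ((PN : Subgroup N) : Set N) := by
    intro n hn
    have hnP : (n : G) ∈ (P : Subgroup G) := by
      apply hNNP
      refine ⟨n.2, ?_⟩
      show (n : G) ∈ normalizer ((P : Subgroup G) : Set G)
      rw [mem_normalizer_iff]
      intro h
      rw [mem_normalizer_iff] at hn
      constructor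
      · intro hh
        have := (hn ⟨h, hPN hh⟩).mp ((hPNmem _).mpr hh)
        exact (hPNmem _).mp this
      · intro hh
        have hmem : h ∈ N := by
          have : h = (n : G)⁻¹ * ((n : G) * h * (n : G)⁻¹) * (n : G) := by group
          rw [this]
          exact N.mul_mem (N.mul_mem (N.inv_mem n.2) (hPN hh)) n.2
        have := (hn ⟨h, hmem⟩).mpr ((hPNmem _).mpr hh)
        exact (hPNmem _).mp this
    rw [mem_centralizer_iff]
    intro m hm
    apply Subtype.ext
    exact hcomm _ _ ((hPNmem m).mp hm) hnP
  have hcompl := MonoidHom.ker_transferSylow_isComplement' PN hBurn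
  set f := MonoidHom.transferSylow PN hBurn with hf
  have hKcard : ¬ p ∣ Nat.card f.ker := MonoidHom.not_dvd_card_ker_transferSylow PN hBurn
  have hPNcard : Nat.card (PN : Subgroup N) = p := by
    refine Eq.trans ?_ hP
    exact Nat.card_congr ⟨fun x => ⟨x.1.1, (hPNmem x.1).mp x.2⟩,
      fun x => ⟨⟨x.1, hPN x.2⟩, (hPNmem _).mpr x.2⟩, fun _ => rfl, fun _ => rfl⟩
  -- the complement is normal in `G`
  have hKnorm : (f.ker.map N.subtype).Normal := by
    refine ⟨fun x hx g => ?_⟩
    rw [mem_map] at hx ⊢
    obtain ⟨k, hk, rfl⟩ := hx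
    refine ⟨⟨g * k * g⁻¹, hNn.conj_mem _ k.2 g⟩, ?_, rfl⟩
    rw [MonoidHom.mem_ker]
    set y : N := ⟨g * k * g⁻¹, hNn.conj_mem _ k.2 g⟩ with hy
    have ho1 : orderOf (f y) ∣ p := by
      have h := orderOf_dvd_natCard (f y)
      rwa [hPNcard] at h
    have ho2 : orderOf (f y) ∣ Nat.card f.ker := by
      have h1 : orderOf (f y) ∣ orderOf y := orderOf_map_dvd f y
      have h2 : orderOf y = orderOf (k : N) := by
        rw [← Subgroup.orderOf_coe y, ← Subgroup.orderOf_coe k]
        exact orderOf_injective (MulAut.conj g).toMonoidHom (MulAut.conj g).injective (k : G)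
      have h3 : orderOf (k : N) ∣ Nat.card f.ker := by
        have : orderOf (⟨k, hk⟩ : f.ker) = orderOf (k : N) := Subgroup.orderOf_mk k hk
        rw [← this]
        exact orderOf_dvd_natCard _
      rw [← h2] at h3
      exact h1.trans h3
    have : orderOf (f y) = 1 := by
      rcases (Nat.dvd_prime hp).mp ho1 with h | h
      · exact h
      · rw [h] at ho2
        exact absurd ho2 hKcard
    exact orderOf_eq_one_iff.mp this
  have hKbot : f.ker.map N.subtype = ⊥ := by
    by_contra hne
    have := hN _ hKnorm hne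
    apply hKcard
    rwa [Nat.card_congr (f.ker.equivMapOfInjective N.subtype N.subtype_injective).toEquiv]
  have hker : f.ker = ⊥ := by
    rw [eq_bot_iff]
    intro k hk
    have : (k : G) ∈ f.ker.map N.subtype := mem_map.mpr ⟨k, hk, rfl⟩
    rw [hKbot, mem_bot] at this
    rw [mem_bot]
    exact Subtype.ext this
  have hNcard : Nat.card N = p := by
    have := hcompl.card_mul_card
    rw [hker, card_bot, one_mul, hPNcard] at this
    exact this.symm
  have hPeqN : (P : Subgroup G) = N := by
    apply eq_of_le_of_card_ge hPN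
    rw [hNcard, hP]
  have hPnormal : (P : Subgroup G).Normal := hPeqN ▸ hNn
  have hNPtop : NP = ⊤ := normalizer_eq_top_iff.mpr hPnormal
  rw [hNPtop, relIndex_top_right] at he
  have h1 : Nat.card G = p * (P : Subgroup G).index := by
    have := card_mul_index (P : Subgroup G)
    rw [hP] at this
    exact this.symm
  rw [he] at h1
  omega

end

end Cfsg.Agent.Helper7
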