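import Mathlib
import Cfsg.Agent.Lib.Helper7.Simple

/-!
# Normal subgroups of order prime to `p` when a Sylow `p`-subgroup of order `p` is
self-centralising
-/

set_option autoImplicit false

namespace Cfsg.Agent.Helper7

open Subgroup

section
variable {G : Type*} [Group G] [Finite G] {p : ℕ} [Fact p.Prime]

/-- If a Sylow `p`-subgroup of order `p` is self-centralising, then so is every element of
order `p`. -/
theorem mem_zpowers_of_commute (P : Sylow p G) (hP : Nat.card P = p)
    (hC : centralizer ((P : Subgroup G) : Set G) ≤ P) (y : G) (hy : orderOf y = p) (x : G)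
    (hxy : x * y = y * x) : x ∈ zpowers y := by
  have hpg : IsPGroup p (zpowers y) := by
    apply IsPGroup.of_card (n := 1)
    rw [Nat.card_zpowers, hy, pow_one]
  obtain ⟨P', hP'⟩ := hpg.exists_le_sylow
  obtain ⟨g, hg⟩ := MulAction.exists_smul_eq G P P'
  have hmem : ∀ z : G, z ∈ (P' : Subgroup G) ↔ g⁻¹ * z * g ∈ (P : Subgroup G) := by
    intro z
    rw [← hg, Sylow.smul_def, Sylow.pointwise_smul_def, mem_pointwise_smul_iff_inv_smul_mem]
    simp [MulAut.smul_def]
  have hcard : Nat.card (P' : Subgroup G) = p := by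
    rw [Sylow.card_eq_multiplicity, ← Sylow.card_eq_multiplicity P]
    exact hP
  have heq : zpowers y = (P' : Subgroup G) := by
    apply eq_of_le_of_card_ge hP'
    rw [hcard, Nat.card_zpowers, hy]
  rw [heq, hmem]
  apply hC
  rw [mem_centralizer_iff]
  intro z hz
  have hz' : g * z * g⁻¹ ∈ zpowers y := by
    rw [heq, hmem]
    have : g⁻¹ * (g * z * g⁻¹) * g = z := by group
    rw [this]
    exact hz
  have hcomm : x * (g * z * g⁻¹) = (g * z * g⁻¹) * x := by
    obtain ⟨k, hk⟩ := mem_zpowers_iff.mp hz'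
    rw [← hk]
    exact (Commute.zpow_right (show Commute x y from hxy) k).eq
  calc z * (g⁻¹ * x * g) = g⁻¹ * ((g * z * g⁻¹) * x) * g := by group
    _ = g⁻¹ * (x * (g * z * g⁻¹)) * g := by rw [hcomm]
    _ = g⁻¹ * x * g * z := by group

/-- If a Sylow `p`-subgroup of order `p` is self-centralising and `N` is a normal subgroup of
order prime to `p`, then the Sylow subgroups of `N` have order `1` modulo `p`. -/
theorem sylow_card_mod_of_normal (P : Sylow p G) (hP : Nat.card P = p)
    (hC : centralizer ((P : Subgroup G) : Set G) ≤ P)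
    (N : Subgroup G) [N.Normal] (hN : ¬ p ∣ Nat.card N) (r : ℕ) (hr : r.Prime)
    (hrN : r ∣ Nat.card N) : r ^ (Nat.card N).factorization r % p = 1 := by
  have hp : p.Prime := Fact.out
  have : Fact r.Prime := ⟨hr⟩
  have hrp : r ≠ p := fun h => hN (h ▸ hrN)
  let R : Sylow r N := default
  set Q : Subgroup G := (R : Subgroup N).map N.subtype with hQ
  have hfrat : normalizer (Q : Set G) ⊔ N = ⊤ := Sylow.normalizer_sup_eq_top R
  have hQcard : Nat.card Q = r ^ (Nat.card N).factorization r := by
    rw [← Sylow.card_eq_multiplicity R]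
    exact (Nat.card_congr
      ((R : Subgroup N).equivMapOfInjective N.subtype N.subtype_injective).toEquiv).symm
  have hk0 : 0 < (Nat.card N).factorization r :=
    Nat.Prime.factorization_pos_of_dvd hr Nat.card_pos.ne' hrN
  set k := (Nat.card N).factorization r with hk
  -- `p` divides the order of the normaliser of `Q`
  have hpG : p ∣ Nat.card G := hP ▸ Subgroup.card_subgroup_dvd_card (P : Subgroup G)
  have hpidx : p ∣ N.index := by
    have := Subgroup.card_mul_index N
    rw [← this] at hpG
    exact ((Nat.Prime.dvd_mul hp).mp hpG).resolve_left hN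
  have hidx : N.index = N.relIndex (normalizer (Q : Set G)) := by
    rw [← relIndex_top_right, ← hfrat, relIndex_sup_right]
  have hpNQ : p ∣ Nat.card (normalizer (Q : Set G)) := by
    rw [hidx] at hpidx
    exact hpidx.trans (relIndex_dvd_card _ _)
  obtain ⟨y', hy'⟩ := exists_prime_orderOf_dvd_card' p hpNQ
  have hy : orderOf (y' : G) = p := by rw [Subgroup.orderOf_coe]; exact hy'
  have hynorm : (y' : G) ∈ normalizer (Q : Set G) := y'.2
  have hzn : ∀ z ∈ zpowers (y' : G), ∀ q ∈ Q, z * q * z⁻¹ ∈ Q := by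
    intro z hz q hq
    have : z ∈ normalizer (Q : Set G) := (zpowers_le.mpr hynorm) hz
    exact (mem_normalizer_iff.mp this q).mp hq
  let act : MulAction (zpowers (y' : G)) Q :=
    { smul := fun z q => ⟨z.1 * q.1 * z.1⁻¹, hzn z.1 z.2 q.1 q.2⟩
      one_smul := fun q => Subtype.ext (by
        show (1 : G) * q.1 * (1 : G)⁻¹ = q.1
        simp)
      mul_smul := fun a b q => Subtype.ext (by
        show (a.1 * b.1) * q.1 * (a.1 * b.1)⁻¹ = a.1 * (b.1 * q.1 * b.1⁻¹) * a.1⁻¹
        group) }
  have hpg : IsPGroup p (zpowers (y' : G)) :=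
    IsPGroup.of_card (n := 1) (by rw [Nat.card_zpowers, hy, pow_one])
  have hmod := hpg.card_modEq_card_fixedPoints Q
  have hfix : Nat.card (MulAction.fixedPoints (zpowers (y' : G)) Q) = 1 := by
    rw [Nat.card_eq_one_iff_unique]
    constructor
    · constructor
      have hone : ∀ q : MulAction.fixedPoints (zpowers (y' : G)) Q, (q.1 : G) = 1 := by
        intro q
        have hq := q.2 ⟨(y' : G), mem_zpowers _⟩
        have hq' : (y' : G) * q.1.1 * (y' : G)⁻¹ = q.1.1 := congrArg Subtype.val hq
        have hcomm : q.1.1 * (y' : G) = (y' : G) * q.1.1 := by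
          calc q.1.1 * (y' : G) = ((y' : G) * q.1.1 * (y' : G)⁻¹) * (y' : G) := by rw [hq']
            _ = (y' : G) * q.1.1 := by group
        have hmem := mem_zpowers_of_commute P hP hC (y' : G) hy q.1.1 hcomm
        have ho1 : orderOf (q.1.1 : G) ∣ p := by
          have h := orderOf_dvd_natCard (⟨q.1.1, hmem⟩ : zpowers (y' : G))
          rw [Nat.card_zpowers, hy] at h
          rwa [← Subgroup.orderOf_coe] at h
        have ho2 : orderOf (q.1.1 : G) ∣ r ^ k := by
          have h := orderOf_dvd_natCard (q.1 : Q)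
          rw [hQcard] at h
          rwa [← Subgroup.orderOf_coe] at h
        have hco : Nat.Coprime p (r ^ k) :=
          Nat.Coprime.pow_right k ((Nat.coprime_primes hp hr).mpr (Ne.symm hrp))
        have : orderOf (q.1.1 : G) = 1 := Nat.eq_one_of_dvd_coprimes hco ho1 ho2
        exact orderOf_eq_one_iff.mp this
      intro a b
      apply Subtype.ext
      apply Subtype.ext
      rw [hone a, hone b]
    · refine ⟨⟨1, ?_⟩⟩
      intro z
      apply Subtype.ext
      show z.1 * (1 : G) * z.1⁻¹ = 1
      simp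
  rw [hfix, hQcard] at hmod
  have h1 : r ^ k % p = 1 := by
    have := hmod
    unfold Nat.ModEq at this
    rw [this, Nat.mod_eq_of_lt hp.one_lt]
  exact h1


/-- A normal subgroup of order prime to `p` is trivial, if a Sylow `p`-subgroup of order `p` is
self-centralising and no prime power dividing the group order is `1` modulo `p`. -/
theorem normal_pprime_eq_bot (P : Sylow p G) (hP : Nat.card P = p)
    (hC : centralizer ((P : Subgroup G) : Set G) ≤ P)
    (harith : ∀ r a : ℕ, r.Prime → 0 < a → r ^ a ∣ Nat.card G → r ^ a % p ≠ 1)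
    (N : Subgroup G) [N.Normal] (hN : ¬ p ∣ Nat.card N) : N = ⊥ := by
  by_contra hne
  have hcardN : Nat.card N ≠ 1 := fun h => hne (Subgroup.card_eq_one.mp h)
  obtain ⟨r, hr, hrN⟩ := Nat.exists_prime_and_dvd hcardN
  have h1 := sylow_card_mod_of_normal P hP hC N hN r hr hrN
  have hk0 : 0 < (Nat.card N).factorization r :=
    Nat.Prime.factorization_pos_of_dvd hr Nat.card_pos.ne' hrN
  have hdvd : r ^ (Nat.card N).factorization r ∣ Nat.card G :=
    (Nat.ordProj_dvd (Nat.card N) r).trans (Subgroup.card_subgroup_dvd_card N)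
  exact harith r _ hr hk0 hdvd h1

/-- Variant allowing the prime `2` to be exceptional, when there are no nontrivial normal
`2`-subgroups. -/
theorem normal_pprime_eq_bot_two (P : Sylow p G) (hP : Nat.card P = p)
    (hC : centralizer ((P : Subgroup G) : Set G) ≤ P)
    (harith : ∀ r a : ℕ, r.Prime → r ≠ 2 → 0 < a → r ^ a ∣ Nat.card G → r ^ a % p ≠ 1)
    (h2 : ∀ N : Subgroup G, N.Normal → IsPGroup 2 N → N = ⊥)
    (N : Subgroup G) [hNn : N.Normal] (hN : ¬ p ∣ Nat.card N) : N = ⊥ := by
  by_cases hodd : ∃ r : ℕ, r.Prime ∧ r ≠ 2 ∧ r ∣ Nat.card N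
  · obtain ⟨r, hr, hr2, hrN⟩ := hodd
    exfalso
    have h1 := sylow_card_mod_of_normal P hP hC N hN r hr hrN
    have hk0 : 0 < (Nat.card N).factorization r :=
      Nat.Prime.factorization_pos_of_dvd hr Nat.card_pos.ne' hrN
    have hdvd : r ^ (Nat.card N).factorization r ∣ Nat.card G :=
      (Nat.ordProj_dvd (Nat.card N) r).trans (Subgroup.card_subgroup_dvd_card N)
    exact harith r _ hr hr2 hk0 hdvd h1
  · apply h2 N hNn
    have hpow : ∃ n : ℕ, Nat.card N = 2 ^ n := by
      refine ⟨(Nat.card N).primeFactorsList.length, ?_⟩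
      apply Nat.eq_prime_pow_of_unique_prime_dvd Nat.card_pos.ne'
      intro q hq hd
      by_contra hq2
      exact hodd ⟨q, hq, hq2, hd⟩
    obtain ⟨n, hn⟩ := hpow
    exact IsPGroup.of_card hn

/-- An element of order `p` generates a Sylow `p`-subgroup if `p ^ 2` does not divide the group
order. -/
theorem exists_sylow_zpowers (g : G) (hg : orderOf g = p) (hnd : ¬ p ^ 2 ∣ Nat.card G) :
    ∃ P : Sylow p G, Nat.card P = p ∧ (P : Subgroup G) = zpowers g := by
  have hp : p.Prime := Fact.out
  have hpg : IsPGroup p (zpowers g) :=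
    IsPGroup.of_card (n := 1) (by rw [Nat.card_zpowers, hg, pow_one])
  obtain ⟨P, hP⟩ := hpg.exists_le_sylow
  have hPcard : Nat.card (P : Subgroup G) = p := by
    obtain ⟨k, hk⟩ : ∃ k : ℕ, Nat.card (P : Subgroup G) = p ^ k :=
      IsPGroup.iff_card.mp P.isPGroup'
    have h1 : p ∣ Nat.card (P : Subgroup G) := by
      have := Subgroup.card_dvd_of_le hP
      rwa [Nat.card_zpowers, hg] at this
    have h2 : Nat.card (P : Subgroup G) ∣ Nat.card G :=
      Subgroup.card_subgroup_dvd_card (P : Subgroup G)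
    rw [hk] at h1 h2 ⊢
    have hk1 : k ≠ 0 := by
      rintro rfl
      rw [pow_zero] at h1
      exact hp.one_lt.ne' (Nat.dvd_one.mp h1)
    have hk2 : k < 2 := by
      by_contra hlt
      exact hnd ((pow_dvd_pow p (not_lt.mp hlt)).trans h2)
    have : k = 1 := by omega
    rw [this, pow_one]
  refine ⟨P, hPcard, ?_⟩
  symm
  apply eq_of_le_of_card_ge hP
  rw [hPcard, Nat.card_zpowers, hg]

/-- Simplicity criterion: a self-centralising Sylow subgroup of prime order `p`, no prime power
dividing the group order being `1` modulo `p`, and arithmetic forcing `|N(P)| = p * d`. -/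
theorem simple_of_sylow_prime' (P : Sylow p G) (hP : Nat.card P = p)
    (hC : centralizer ((P : Subgroup G) : Set G) ≤ P)
    (harith1 : ∀ r a : ℕ, r.Prime → 0 < a → r ^ a ∣ Nat.card G → r ^ a % p ≠ 1)
    (d : ℕ) (hd : d.Prime)
    (harith : ∀ e k : ℕ, e ∣ p - 1 → Nat.card G = p * e * (p * k + 1) → e = d)
    (hbig : p * d < Nat.card G) : IsSimpleGroup G :=
  simple_of_sylow_prime P hP hC (fun N hNn hbot => by
    by_contra h
    have := hNn
    exact hbot (normal_pprime_eq_bot P hP hC harith1 N h)) d hd harith hbig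

/-- Variant of the simplicity criterion with the prime `2` exceptional. -/
theorem simple_of_sylow_prime_two (P : Sylow p G) (hP : Nat.card P = p)
    (hC : centralizer ((P : Subgroup G) : Set G) ≤ P)
    (harith1 : ∀ r a : ℕ, r.Prime → r ≠ 2 → 0 < a → r ^ a ∣ Nat.card G → r ^ a % p ≠ 1)
    (h2 : ∀ N : Subgroup G, N.Normal → IsPGroup 2 N → N = ⊥)
    (d : ℕ) (hd : d.Prime)
    (harith : ∀ e k : ℕ, e ∣ p - 1 → Nat.card G = p * e * (p * k + 1) → e = d)
    (hbig : p * d < Nat.card G) : IsSimpleGroup G :=
  simple_of_sylow_prime P hP hC (fun N hNn hbot => by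
    by_contra h
    have := hNn
    exact hbot (normal_pprime_eq_bot_two P hP hC harith1 h2 N h)) d hd harith hbig

end

end Cfsg.Agent.Helper7
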