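import Cfsg.Agent.Lib.Helper7.Co3Order
import Cfsg.Agent.Lib.Helper7.SylowCent
import Cfsg.Agent.Lib.Helper7.Gens
import Cfsg.Agent.Lib.Helper7.Co0Center

/-!
# The centraliser of an element of order 23 in the stabiliser of a vector of norm 48
-/

set_option autoImplicit false

namespace Cfsg.Agent.Helper7
open Cfsg Cfsg.Agent.Helper92

/-! ### Coordinate permutations of the lattice -/

/-- the automorphism of the lattice permuting the coordinates by a code automorphism -/
def permL (σ : Equiv.Perm GolayPt) (hσ : σ ∈ M24) : Equiv.Perm leechLattice :=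
  monoPerm σ ∅ hσ empty_mem

theorem permL_mem (σ : Equiv.Perm GolayPt) (hσ : σ ∈ M24) : permL σ hσ ∈ Co0 :=
  monoPerm_mem _ _ _ _

theorem permL_val (σ : Equiv.Perm GolayPt) (hσ : σ ∈ M24) (x : leechLattice) (i : GolayPt) :
    (permL σ hσ x).1 i = x.1 (σ.symm i) := by
  unfold permL
  rw [monoPerm_val, signedPerm_apply, if_neg (Finset.notMem_empty i)]

theorem permL_frame (σ : Equiv.Perm GolayPt) (hσ : σ ∈ M24) (i : GolayPt) :
    permL σ hσ (frameVec i) = frameVec (σ i) := monoPerm_empty_frame σ hσ i

theorem permL_mul (σ τ : Equiv.Perm GolayPt) (hσ : σ ∈ M24) (hτ : τ ∈ M24) :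
    permL (σ * τ) (M24.mul_mem hσ hτ) = permL σ hσ * permL τ hτ := by
  apply Equiv.ext
  intro x
  apply Subtype.ext
  funext i
  rw [Equiv.Perm.mul_apply, permL_val, permL_val, permL_val]
  rfl

theorem permL_one : permL 1 M24.one_mem = 1 := by
  apply Equiv.ext
  intro x
  apply Subtype.ext
  funext i
  rw [permL_val]
  rfl

theorem permL_congr {σ τ : Equiv.Perm GolayPt} (h : σ = τ) (hσ : σ ∈ M24) (hτ : τ ∈ M24) :
    permL σ hσ = permL τ hτ := by
  subst h
  rfl

theorem permL_pow (σ : Equiv.Perm GolayPt) (hσ : σ ∈ M24) (k : ℕ) :
    permL (σ ^ k) (M24.pow_mem hσ k) = permL σ hσ ^ k := by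
  induction k with
  | zero => exact permL_one
  | succ n ih =>
    rw [permL_congr (pow_succ σ n) _ (M24.mul_mem (M24.pow_mem hσ n) hσ),
      permL_mul _ _ (M24.pow_mem hσ n) hσ, ih, pow_succ]

theorem frameVec_injective : Function.Injective frameVec := by
  intro i j h
  by_contra hne
  have := congrArg (fun v : leechLattice => v.1 i) h
  simp only [frameVec_val, Pi.single_eq_same, Pi.single_eq_of_ne hne] at this
  norm_num at this

theorem permL_injective (σ τ : Equiv.Perm GolayPt) (hσ : σ ∈ M24) (hτ : τ ∈ M24)
    (h : permL σ hσ = permL τ hτ) : σ = τ := by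
  apply Equiv.ext
  intro i
  have := congrArg (fun g : Equiv.Perm leechLattice => g (frameVec i)) h
  simp only [permL_frame] at this
  exact frameVec_injective this

/-! ### The base vector `(5, 1, ..., 1)` -/

/-- the coordinates of the base vector -/
def u23L : List ℤ := [1, 1, 1, 1, 1, 1, 1, 1, 1, 1, 1, 1, 1, 1, 1, 1, 1, 1, 1, 1, 1, 1, 1, 5]

theorem u23L_mem : vecOf u23L ∈ leechLattice := vecOf_mem u23L 1 0 (by decide +kernel)

/-- the base vector of norm 48 fixed by the translations -/
def u23 : leechLattice := ⟨vecOf u23L, u23L_mem⟩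

theorem u23_none : u23.1 none = 5 := rfl

theorem u23_some (t : ZMod 23) : u23.1 (some t) = 1 := by
  revert t
  decide

theorem sqNorm_u23 : sqNorm u23.1 = 48 := by decide +kernel

/-- the automorphism of order 23 -/
def g23 : Equiv.Perm leechLattice := permL gShift shift_mem

theorem g23_mem : g23 ∈ Co0 := permL_mem _ _

theorem gShift_symm_none : gShift.symm none = none := rfl

theorem gShift_symm_some (t : ZMod 23) : gShift.symm (some t) = some (t - 1) := by
  show Option.map _ (some t) = _
  simp [sub_eq_add_neg]

theorem g23_fix : g23 u23 = u23 := by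
  apply Subtype.ext
  funext i
  unfold g23
  rw [permL_val]
  cases i with
  | none => rfl
  | some t => rw [gShift_symm_some, u23_some, u23_some]

theorem gShift_pow_some (k : ℕ) (t : ZMod 23) : (gShift ^ k) (some t) = some (t + k) := by
  induction k with
  | zero => simp
  | succ n ih =>
    rw [pow_succ', Equiv.Perm.mul_apply, ih]
    show Option.map _ (some (t + n)) = _
    simp [add_assoc]

theorem gShift_pow_none (k : ℕ) : (gShift ^ k) none = none := by
  induction k with
  | zero => rfl
  | succ n ih =>
    rw [pow_succ', Equiv.Perm.mul_apply, ih]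
    rfl

theorem gShift_pow23 : gShift ^ 23 = 1 := by
  apply Equiv.ext
  intro i
  cases i with
  | none => rw [gShift_pow_none]; rfl
  | some t =>
    rw [gShift_pow_some, ZMod.natCast_self, add_zero]
    rfl

theorem g23_pow23 : g23 ^ 23 = 1 := by
  unfold g23
  rw [← permL_pow]
  have : permL (gShift ^ 23) (M24.pow_mem shift_mem 23) = permL 1 M24.one_mem := by
    congr 1
    exact gShift_pow23
  rw [this, permL_one]

theorem g23_ne_one : g23 ≠ 1 := by
  intro h
  have := congrArg (fun g : Equiv.Perm leechLattice => g (frameVec (some 0))) h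
  simp only [g23, permL_frame, Equiv.Perm.one_apply] at this
  have h2 := frameVec_injective this
  revert h2
  decide

/-! ### Vectors fixed by the translations -/

theorem sqNorm_frameVec (i : GolayPt) : sqNorm (frameVec i).1 = 64 := by
  rw [frameVec_val]
  unfold sqNorm
  rw [Finset.sum_eq_single i]
  · rw [Pi.single_eq_same]; norm_num
  · intro k _ hk; rw [Pi.single_eq_of_ne hk]; norm_num
  · intro h; exact absurd (Finset.mem_univ _) h

/-- a vector fixed by the translations is constant on the residues -/
theorem const_of_g23_fix (y : leechLattice) (hy : g23 y = y) (t : ZMod 23) :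
    y.1 (some t) = y.1 (some 0) := by
  have h1 : ∀ i, y.1 (gShift.symm i) = y.1 i := by
    intro i
    have := congrArg (fun v : leechLattice => v.1 i) hy
    simp only [g23, permL_val] at this
    exact this
  have h2 : ∀ n : ℕ, y.1 (some (n : ZMod 23)) = y.1 (some 0) := by
    intro n
    induction n with
    | zero => simp
    | succ m ih =>
      have := h1 (some ((m + 1 : ℕ) : ZMod 23))
      have e : ((m + 1 : ℕ) : ZMod 23) - 1 = (m : ZMod 23) := by
        push_cast
        ring
      rw [gShift_symm_some, e] at this
      rw [← this, ih]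
  have := h2 t.val
  rwa [ZMod.natCast_zmod_val] at this

theorem sqNorm_const (y : GolayPt → ℤ) (hc : ∀ t : ZMod 23, y (some t) = y (some 0)) :
    sqNorm y = y none ^ 2 + 23 * y (some 0) ^ 2 := by
  unfold sqNorm
  rw [Fintype.sum_option]
  congr 1
  rw [Finset.sum_congr rfl (fun t _ => by rw [hc t])]
  rw [Finset.sum_const, Finset.card_univ, ZMod.card]
  simp

theorem arith64 (a b : ℤ) (h : a ^ 2 + 23 * b ^ 2 = 64) : b = 0 ∧ (a = 8 ∨ a = -8) := by
  have hb : -1 ≤ b ∧ b ≤ 1 := by constructor <;> nlinarith [sq_nonneg a]
  have ha : -8 ≤ a ∧ a ≤ 8 := by constructor <;> nlinarith [sq_nonneg b]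
  obtain ⟨hb1, hb2⟩ := hb
  obtain ⟨ha1, ha2⟩ := ha
  interval_cases b <;> interval_cases a <;> omega

/-- an automorphism mapping the first frame vector to itself or its negative is a signed
coordinate permutation -/
theorem mono_form (h : Equiv.Perm leechLattice) (hh : h ∈ Co0)
    (hf : h (frameVec none) = frameVec none ∨ h (frameVec none) = -frameVec none) :
    ∃ (σ : Equiv.Perm GolayPt) (_ : σ ∈ M24) (ε : GolayPt → ℤ), (∀ i, ε i = 1 ∨ ε i = -1) ∧
      ∀ (x : leechLattice) (i : GolayPt), (h x).1 i = ε i * x.1 (σ.symm i) := by
  rcases hf with hf | hf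
  · obtain ⟨σ, c, hσ, hc, rfl⟩ := stab_is_mono h hh (stabCross_of_fix h hh hf)
    refine ⟨σ, hσ, fun i => if i ∈ c then -1 else 1, fun i => ?_, ?_⟩
    · by_cases hi : i ∈ c
      · right
        exact if_pos hi
      · left
        exact if_neg hi
    · intro x i
      rw [monoPerm_val, signedPerm_apply]
      by_cases hi : i ∈ c
      · simp only [if_pos hi]
        ring
      · simp only [if_neg hi]
        ring
  · have hh' : negPerm * h ∈ Co0 := Co0.mul_mem negPerm_mem hh
    have hf' : (negPerm * h) (frameVec none) = frameVec none := by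
      rw [Equiv.Perm.mul_apply, hf, negPerm_apply, neg_neg]
    obtain ⟨σ, c, hσ, hc, heq⟩ := stab_is_mono _ hh' (stabCross_of_fix _ hh' hf')
    refine ⟨σ, hσ, fun i => if i ∈ c then 1 else -1, fun i => ?_, ?_⟩
    · by_cases hi : i ∈ c
      · left
        exact if_pos hi
      · right
        exact if_neg hi
    · intro x i
      have h1 : (negPerm * h) x = monoPerm σ c hσ hc x := by rw [heq]
      rw [Equiv.Perm.mul_apply, negPerm_apply] at h1
      have h2 : (h x).1 i = -((monoPerm σ c hσ hc x).1 i) := by
        rw [← h1]
        simp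
      rw [h2, monoPerm_val, signedPerm_apply]
      by_cases hi : i ∈ c
      · simp only [if_pos hi]
        ring
      · simp only [if_neg hi]
        ring

/-- The centraliser of the translation in the stabiliser of the base vector. -/
theorem cent23 (h : Equiv.Perm leechLattice) (hh : h ∈ Co0) (hu : h u23 = u23)
    (hcomm : h * g23 = g23 * h) : ∃ k : ℕ, h = g23 ^ k := by
  have hgf : g23 (frameVec none) = frameVec none := by
    unfold g23
    rw [permL_frame]
    rfl
  have hy : g23 (h (frameVec none)) = h (frameVec none) := by
    have := congrArg (fun g : Equiv.Perm leechLattice => g (frameVec none)) hcomm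
    simp only [Equiv.Perm.mul_apply, hgf] at this
    exact this.symm
  have hconst := const_of_g23_fix _ hy
  have hnorm : sqNorm (h (frameVec none)).1 = 64 := by rw [hh.2, sqNorm_frameVec]
  rw [sqNorm_const _ hconst] at hnorm
  obtain ⟨hb, ha⟩ := arith64 _ _ hnorm
  have hf : h (frameVec none) = frameVec none ∨ h (frameVec none) = -frameVec none := by
    rcases ha with ha | ha
    · left
      apply Subtype.ext
      funext i
      rw [frameVec_val]
      cases i with
      | none => rw [ha, Pi.single_eq_same]
      | some t => rw [hconst t, hb, Pi.single_eq_of_ne (by simp)]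
    · right
      apply Subtype.ext
      funext i
      rw [AddSubgroup.coe_neg, Pi.neg_apply, frameVec_val]
      cases i with
      | none => rw [ha, Pi.single_eq_same]
      | some t => rw [hconst t, hb, Pi.single_eq_of_ne (by simp)]; simp
  obtain ⟨σ, hσ, ε, hε, hform⟩ := mono_form h hh hf
  have hu' : ∀ i, ε i * u23.1 (σ.symm i) = u23.1 i := by
    intro i
    rw [← hform, hu]
  have hσnone : σ.symm none = none := by
    by_contra hne
    obtain ⟨t, ht⟩ := Option.ne_none_iff_exists'.mp hne
    have := hu' none
    rw [ht, u23_some, u23_none] at this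
    rcases hε none with h1 | h1 <;> rw [h1] at this <;> norm_num at this
  have hε1 : ∀ i, ε i = 1 := by
    intro i
    cases i with
    | none =>
      have := hu' none
      rw [hσnone, u23_none] at this
      rcases hε none with h1 | h1
      · exact h1
      · rw [h1] at this
        norm_num at this
    | some t =>
      have hne : σ.symm (some t) ≠ none := by
        intro h0
        have := σ.symm.injective (h0.trans hσnone.symm)
        exact Option.some_ne_none t this
      obtain ⟨t', ht'⟩ := Option.ne_none_iff_exists'.mp hne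
      have := hu' (some t)
      rw [ht', u23_some, u23_some] at this
      rcases hε (some t) with h1 | h1
      · exact h1
      · rw [h1] at this
        norm_num at this
  have hperm : h = permL σ hσ := by
    apply Equiv.ext
    intro x
    apply Subtype.ext
    funext i
    rw [hform, hε1, one_mul, permL_val]
  have hcomm' : σ * gShift = gShift * σ := by
    apply permL_injective _ _ (M24.mul_mem hσ shift_mem) (M24.mul_mem shift_mem hσ)
    rw [permL_mul _ _ hσ shift_mem, permL_mul _ _ shift_mem hσ, ← hperm]
    exact hcomm
  have hσn : σ none = none := by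
    have := σ.apply_symm_apply none
    rwa [hσnone] at this
  obtain ⟨k0, hk0⟩ : ∃ k0 : ZMod 23, σ (some 0) = some k0 := by
    apply Option.ne_none_iff_exists'.mp
    intro h0
    have := σ.injective (h0.trans hσn.symm)
    exact Option.some_ne_none _ this
  have hcommk : ∀ n : ℕ, σ * gShift ^ n = gShift ^ n * σ := by
    intro n
    exact (Commute.pow_right (show Commute σ gShift from hcomm') n).eq
  have hσeq : σ = gShift ^ k0.val := by
    apply Equiv.ext
    intro i
    cases i with
    | none => rw [hσn, gShift_pow_none]
    | some t =>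
      have h1 : (some t : GolayPt) = (gShift ^ t.val) (some 0) := by
        rw [gShift_pow_some, zero_add, ZMod.natCast_zmod_val]
      rw [h1]
      have h2 := congrArg (fun g : Equiv.Perm GolayPt => g (some 0)) (hcommk t.val)
      simp only [Equiv.Perm.mul_apply] at h2
      rw [h2, hk0, gShift_pow_some, gShift_pow_some, gShift_pow_some, ZMod.natCast_zmod_val,
        ZMod.natCast_zmod_val]
      congr 1
      ring
  refine ⟨k0.val, ?_⟩
  rw [hperm]
  unfold g23
  rw [← permL_pow]
  exact permL_congr hσeq _ _

end Cfsg.Agent.Helper7
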