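import Cfsg.Agent.Lib.Helper7.DotCount
import Cfsg.Agent.Lib.Helper7.Co0Order
import Cfsg.Agent.Lib.Helper7.Co0Trans32
import Cfsg.Agent.Lib.Helper7.Co0Trans48

/-!
# The orders of the stabilisers of vectors of norm 32 and 48 in the automorphism group of the
Leech lattice
-/

set_option autoImplicit false

namespace Cfsg.Agent.Helper7
open Cfsg

theorem card_orbit48 (u : leechLattice) (hu : sqNorm u.1 = 48) :
    Nat.card (MulAction.orbit Co0 u) = 16773120 := by
  have hset : (MulAction.orbit Co0 u : Set leechLattice) = ↑(shortSet 48 (by norm_num)) := by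
    ext w
    rw [Finset.mem_coe, mem_shortSet, MulAction.mem_orbit_iff]
    constructor
    · rintro ⟨g, rfl⟩
      show sqNorm (g.1 u).1 = _
      rw [g.2.2, hu]
      norm_num
    · intro hw
      obtain ⟨k, hk, hku⟩ := co0_trans48 u w hu (by rw [hw]; norm_num)
      exact ⟨⟨k, hk⟩, hku⟩
  rw [hset, Nat.card_coe_set_eq, Set.ncard_coe_finset, card_shortSet, leechNum_48]

theorem card_stabIn48 (u : leechLattice) (hu : sqNorm u.1 = 48) :
    Nat.card ↥(stabIn Co0 u) = 495766656000 := by
  have h := card_eq_orbit_mul Co0 u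
  rw [card_Co0, card_orbit48 u hu] at h
  omega

/-- The stabiliser of a vector of norm 48 has order 495766656000. -/
theorem card_stab48 (u : leechLattice) (hu : sqNorm u.1 = 48) :
    Nat.card ↥(MulAction.stabilizer ↥Co0 u) = 495766656000 := by
  rw [Nat.card_congr (stabEquiv Co0 u)]
  exact card_stabIn48 u hu

theorem card_orbit32 (u : leechLattice) (hu : sqNorm u.1 = 32) :
    Nat.card (MulAction.orbit Co0 u) = 196560 := by
  have hset : (MulAction.orbit Co0 u : Set leechLattice) = ↑(shortSet 32 (by norm_num)) := by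
    ext w
    rw [Finset.mem_coe, mem_shortSet, MulAction.mem_orbit_iff]
    constructor
    · rintro ⟨g, rfl⟩
      show sqNorm (g.1 u).1 = _
      rw [g.2.2, hu]
      norm_num
    · intro hw
      obtain ⟨k, hk, hku⟩ := co0_trans32 u w hu (by rw [hw]; norm_num)
      exact ⟨⟨k, hk⟩, hku⟩
  rw [hset, Nat.card_coe_set_eq, Set.ncard_coe_finset, card_shortSet, leechNum_32]

theorem card_stabIn32 (u : leechLattice) (hu : sqNorm u.1 = 32) :
    Nat.card ↥(stabIn Co0 u) = 42305421312000 := by
  have h := card_eq_orbit_mul Co0 u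
  rw [card_Co0, card_orbit32 u hu] at h
  omega

/-- The stabiliser of a vector of norm 32 has order 42305421312000. -/
theorem card_stab32 (u : leechLattice) (hu : sqNorm u.1 = 32) :
    Nat.card ↥(MulAction.stabilizer ↥Co0 u) = 42305421312000 := by
  rw [Nat.card_congr (stabEquiv Co0 u)]
  exact card_stabIn32 u hu

end Cfsg.Agent.Helper7
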