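import Cfsg.Agent.Lib.Helper7.Co3Cent

/-!
# The stabiliser of a vector of norm 48 is simple
-/

set_option autoImplicit false

namespace Cfsg.Agent.Helper7
open Cfsg

/-- the element of order 23 in the stabiliser of the base vector -/
def g23G : ↥(MulAction.stabilizer ↥Co0 u23) :=
  ⟨⟨g23, g23_mem⟩, by rw [MulAction.mem_stabilizer_iff]; exact g23_fix⟩

theorem orderOf_g23G : orderOf g23G = 23 := by
  have : Fact (Nat.Prime 23) := ⟨by norm_num⟩
  apply orderOf_eq_prime
  · apply Subtype.ext
    apply Subtype.ext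
    show ((g23G ^ 23 : ↥(MulAction.stabilizer ↥Co0 u23)) : ↥Co0).1 = 1
    rw [SubgroupClass.coe_pow, SubgroupClass.coe_pow]
    exact g23_pow23
  · intro h
    apply g23_ne_one
    exact congrArg (fun x : ↥(MulAction.stabilizer ↥Co0 u23) => x.1.1) h

theorem prime_cases_co3 (r : ℕ) (hr : r.Prime)
    (h : r ∣ 2 ^ 10 * 3 ^ 7 * 5 ^ 3 * 7 * 11 * 23) :
    r = 2 ∨ r = 3 ∨ r = 5 ∨ r = 7 ∨ r = 11 ∨ r = 23 := by
  rcases (Nat.Prime.dvd_mul hr).mp h with h | h
  · rcases (Nat.Prime.dvd_mul hr).mp h with h | h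
    · rcases (Nat.Prime.dvd_mul hr).mp h with h | h
      · rcases (Nat.Prime.dvd_mul hr).mp h with h | h
        · rcases (Nat.Prime.dvd_mul hr).mp h with h | h
          · left
            exact (Nat.prime_dvd_prime_iff_eq hr Nat.prime_two).mp (hr.dvd_of_dvd_pow h)
          · right; left
            exact (Nat.prime_dvd_prime_iff_eq hr Nat.prime_three).mp (hr.dvd_of_dvd_pow h)
        · right; right; left
          exact (Nat.prime_dvd_prime_iff_eq hr Nat.prime_five).mp (hr.dvd_of_dvd_pow h)
      · right; right; right; left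
        exact (Nat.prime_dvd_prime_iff_eq hr (by norm_num)).mp h
    · right; right; right; right; left
      exact (Nat.prime_dvd_prime_iff_eq hr (by norm_num)).mp h
  · right; right; right; right; right
    exact (Nat.prime_dvd_prime_iff_eq hr (by norm_num)).mp h

theorem arith_co3 : ∀ r a : ℕ, r.Prime → 0 < a → r ^ a ∣ 495766656000 → r ^ a % 23 ≠ 1 := by
  intro r a hr ha hdvd
  have hfac : (495766656000 : ℕ) = 2 ^ 10 * 3 ^ 7 * 5 ^ 3 * 7 * 11 * 23 := by norm_num
  have hr_dvd : r ∣ 2 ^ 10 * 3 ^ 7 * 5 ^ 3 * 7 * 11 * 23 :=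
    hfac ▸ (dvd_pow_self r ha.ne').trans hdvd
  rcases prime_cases_co3 r hr hr_dvd with rfl | rfl | rfl | rfl | rfl | rfl
  · have ha' : a ≤ 10 := by
      by_contra hlt
      rw [not_le] at hlt
      have : 2 ^ 11 ∣ 495766656000 := (pow_dvd_pow 2 hlt).trans hdvd
      norm_num at this
    interval_cases a <;> norm_num
  · have ha' : a ≤ 7 := by
      by_contra hlt
      rw [not_le] at hlt
      have : 3 ^ 8 ∣ 495766656000 := (pow_dvd_pow 3 hlt).trans hdvd
      norm_num at this
    interval_cases a <;> norm_num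
  · have ha' : a ≤ 3 := by
      by_contra hlt
      rw [not_le] at hlt
      have : 5 ^ 4 ∣ 495766656000 := (pow_dvd_pow 5 hlt).trans hdvd
      norm_num at this
    interval_cases a <;> norm_num
  · have ha' : a ≤ 1 := by
      by_contra hlt
      rw [not_le] at hlt
      have : 7 ^ 2 ∣ 495766656000 := (pow_dvd_pow 7 hlt).trans hdvd
      norm_num at this
    interval_cases a <;> norm_num
  · have ha' : a ≤ 1 := by
      by_contra hlt
      rw [not_le] at hlt
      have : 11 ^ 2 ∣ 495766656000 := (pow_dvd_pow 11 hlt).trans hdvd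
      norm_num at this
    interval_cases a <;> norm_num
  · have ha' : a ≤ 1 := by
      by_contra hlt
      rw [not_le] at hlt
      have : 23 ^ 2 ∣ 495766656000 := (pow_dvd_pow 23 hlt).trans hdvd
      norm_num at this
    interval_cases a <;> norm_num

theorem arith_co3b : ∀ e k : ℕ, e ∣ 23 - 1 → 495766656000 = 23 * e * (23 * k + 1) → e = 11 := by
  intro e k he h
  have hle : e ≤ 22 := Nat.le_of_dvd (by norm_num) he
  interval_cases e <;> omega

/-- The stabiliser of the base vector `(5, 1, ..., 1)` is simple. -/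
theorem co3_simple_base : IsSimpleGroup ↥(MulAction.stabilizer ↥Co0 u23) := by
  have : Fact (Nat.Prime 23) := ⟨by norm_num⟩
  have hcard := card_stab48 u23 sqNorm_u23
  have : Finite ↥(MulAction.stabilizer ↥Co0 u23) :=
    Nat.finite_of_card_ne_zero (by rw [hcard]; norm_num)
  have hnd : ¬ 23 ^ 2 ∣ Nat.card ↥(MulAction.stabilizer ↥Co0 u23) := by
    rw [hcard]
    norm_num
  obtain ⟨P, hPcard, hPeq'⟩ := exists_sylow_zpowers g23G orderOf_g23G hnd
  have hPeq : Subgroup.zpowers g23G = (P : Subgroup _) := hPeq'.symm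
  have hC : Subgroup.centralizer ((P : Subgroup ↥(MulAction.stabilizer ↥Co0 u23)) : Set _) ≤
      (P : Subgroup ↥(MulAction.stabilizer ↥Co0 u23)) := by
    intro x hx
    rw [← hPeq]
    have hxg : g23G * x = x * g23G := by
      rw [Subgroup.mem_centralizer_iff] at hx
      exact hx g23G (hPeq ▸ Subgroup.mem_zpowers g23G)
    obtain ⟨k, hk⟩ := cent23 x.1.1 x.1.2 (MulAction.mem_stabilizer_iff.mp x.2) (by
      have := congrArg (fun y : ↥(MulAction.stabilizer ↥Co0 u23) => y.1.1) hxg
      exact this.symm)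
    rw [Subgroup.mem_zpowers_iff]
    refine ⟨k, ?_⟩
    apply Subtype.ext
    apply Subtype.ext
    rw [zpow_natCast]
    show ((g23G ^ k : ↥(MulAction.stabilizer ↥Co0 u23)) : ↥Co0).1 = x.1.1
    rw [SubgroupClass.coe_pow, SubgroupClass.coe_pow]
    exact hk.symm
  apply simple_of_sylow_prime' P hPcard hC _ 11 (by norm_num) _ _
  · rw [hcard]
    exact arith_co3
  · rw [hcard]
    exact arith_co3b
  · rw [hcard]
    norm_num

/-- The stabiliser of a vector of norm 48 is simple of order 495766656000. -/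
theorem co3_simple (v : leechLattice) (hv : sqNorm v.1 = 48) :
    IsSimpleGroup ↥(MulAction.stabilizer ↥Co0 v) := by
  obtain ⟨k, hk, hkv⟩ := co0_trans48 u23 v sqNorm_u23 hv
  have e := MulAction.stabilizerEquivStabilizer (G := ↥Co0) (g := ⟨k, hk⟩) (a := u23) (b := v)
    hkv.symm
  have := co3_simple_base
  exact e.symm.isSimpleGroup

end Cfsg.Agent.Helper7
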