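import Cfsg.Agent.Lib.Helper7.Mask

set_option autoImplicit false

namespace Cfsg.Agent.Helper7
open Cfsg

/-- Bitmasks of the translates of the squares modulo 23. -/
def qrMaskL : List ℕ := [340831, 681662, 1363324, 2726648, 5453296, 2517985, 5035970, 1683333, 3366666, 6733332, 5078057, 1767507, 3535014, 7070028, 5751449, 3114291, 6228582, 4068557, 8137114, 7885621, 7382635, 6376663, 4364719]

/-- Bitmask of the generator number `j` (`j = 23` is the all-ones word). -/
def genMask (j : ℕ) : ℕ := qrMaskL.getD j 16777215

/-- A systematic basis of the code: the low twelve bits of the `i`-th mask are `2 ^ i`. -/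
def bL : List ℕ := [13062145, 4845570, 13938692, 7221256, 10170384, 11952160, 15515712, 2019456, 4038912, 8077824, 11654144, 14919680]

/-- Which generators add up to each basis word. -/
def selL : List ℕ := [8390313, 280, 8389785, 1400, 8390330, 8390551, 8390093, 2000, 1347, 101, 8390243, 8390181]

def bm (i : ℕ) : ℕ := bL.getD i 0

/-- Iterated xor of `g 0, …, g (k-1)`. -/
def xorUpTo (g : ℕ → ℕ) : ℕ → ℕ
  | 0 => 0
  | k + 1 => xorUpTo g k ^^^ g k

theorem decW_xorUpTo (g : ℕ → ℕ) (k : ℕ) :
    decW (xorUpTo g k) = ∑ i ∈ Finset.range k, decW (g i) := by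
  induction k with
  | zero => simp [xorUpTo, decW_zero]
  | succ k ih => rw [xorUpTo, decW_xor, ih, Finset.sum_range_succ]

theorem xorUpTo_lt (g : ℕ → ℕ) (k : ℕ) (h : ∀ i < k, g i < 2 ^ 24) : xorUpTo g k < 2 ^ 24 := by
  induction k with
  | zero => simp [xorUpTo]
  | succ k ih =>
    rw [xorUpTo]
    exact Nat.xor_lt_two_pow (ih fun i hi => h i (by omega)) (h k (by omega))

/-- Systematic encoder on bitmasks: depends on the low twelve bits only. -/
def encMask (n : ℕ) : ℕ := xorUpTo (fun i => if n.testBit i then bm i else 0) 12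

theorem bm_lt : ∀ i < 12, bm i < 2 ^ 24 := by decide

theorem encMask_lt (n : ℕ) : encMask n < 2 ^ 24 := by
  apply xorUpTo_lt
  intro i hi
  split
  · exact bm_lt i hi
  · norm_num

/-- The linear projection onto the span of the systematic basis. -/
def E (w : W) : W := ∑ i ∈ Finset.range 12, w (pt i) • decW (bm i)

theorem E_add (v w : W) : E (v + w) = E v + E w := by
  simp only [E, Pi.add_apply, add_smul, Finset.sum_add_distrib]

theorem E_smul (c : ZMod 2) (w : W) : E (c • w) = c • E w := by
  simp only [E, Pi.smul_apply, smul_eq_mul, mul_smul, Finset.smul_sum]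

theorem E_zero : E 0 = 0 := by
  simp [E]

theorem E_decW (n : ℕ) : E (decW n) = decW (encMask n) := by
  rw [encMask, decW_xorUpTo, E]
  apply Finset.sum_congr rfl
  intro i hi
  have hi' : i < 24 := by
    have := Finset.mem_range.mp hi
    omega
  have : decW n (pt i) = if n.testBit i then 1 else 0 := by
    simp only [decW, idx_pt i hi']
  rw [this]
  cases n.testBit i <;> simp [decW_zero]

theorem qrWord_eq : ∀ t : ZMod 23, qrWord t = decW (genMask t.val) := by
  intro t
  funext p
  revert t p
  decide

theorem one_eq : (1 : W) = decW (genMask 23) := by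
  funext p
  revert p
  decide

theorem encMask_genMask : ∀ j < 24, encMask (genMask j) = genMask j := by decide

theorem bm_eq : ∀ i < 12, bm i = xorUpTo (fun j => if (selL.getD i 0).testBit j then genMask j else 0) 24 := by
  decide

theorem decW_genMask_mem (j : ℕ) (hj : j < 24) : decW (genMask j) ∈ golayCode := by
  apply Submodule.subset_span
  by_cases h : j = 23
  · right
    rw [h, ← one_eq]
    rfl
  · left
    refine ⟨(j : ZMod 23), ?_⟩
    rw [qrWord_eq]
    have : ((j : ZMod 23)).val = j := ZMod.val_natCast_of_lt (by omega)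
    rw [this]

theorem decW_bm_mem (i : ℕ) (hi : i < 12) : decW (bm i) ∈ golayCode := by
  rw [bm_eq i hi, decW_xorUpTo]
  apply Submodule.sum_mem
  intro j hj
  split
  · exact decW_genMask_mem j (Finset.mem_range.mp hj)
  · rw [decW_zero]; exact Submodule.zero_mem _

theorem E_mem (w : W) : E w ∈ golayCode := by
  apply Submodule.sum_mem
  intro i hi
  exact Submodule.smul_mem _ _ (decW_bm_mem i (Finset.mem_range.mp hi))

theorem mem_golayCode_iff (w : W) : w ∈ golayCode ↔ E w = w := by
  constructor
  · intro h
    refine Submodule.span_induction ?_ ?_ ?_ ?_ h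
    · rintro x (⟨t, rfl⟩ | hx)
      · rw [qrWord_eq, E_decW, encMask_genMask _ (lt_trans (ZMod.val_lt t) (by norm_num))]
      · rw [Set.mem_singleton_iff.mp hx, one_eq, E_decW, encMask_genMask 23 (by norm_num)]
    · exact E_zero
    · intro x y _ _ hx hy
      rw [E_add, hx, hy]
    · intro c x _ hx
      rw [E_smul, hx]
  · intro h
    rw [← h]
    exact E_mem w

theorem decW_mem_iff (n : ℕ) (hn : n < 2 ^ 24) : decW n ∈ golayCode ↔ encMask n = n := by
  rw [mem_golayCode_iff, E_decW]
  constructor
  · exact decW_injOn _ _ (encMask_lt n) hn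
  · intro h; rw [h]

theorem indW_ofMask (n : ℕ) : indW (ofMask n) = decW n := by
  apply support₂_injective
  rw [support₂_indW, support₂_decW]

/-- Membership of a set of points, given by a bitmask, in the code. -/
theorem ofMask_mem_iff (n : ℕ) (hn : n < 2 ^ 24) :
    ofMask n ∈ supports (golayCode : Set W) ↔ encMask n = n := by
  rw [mem_supports_iff, indW_ofMask]
  exact decW_mem_iff n hn

theorem mem_code_iff (b : Finset GolayPt) :
    b ∈ supports (golayCode : Set W) ↔ encMask (toMask b) = toMask b := by
  conv_lhs => rw [← ofMask_toMask b]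
  exact ofMask_mem_iff _ (toMask_lt b)

theorem encMask_mod (n : ℕ) : encMask (n % 4096) = encMask n := by
  unfold encMask
  have : ∀ i < 12, (n % 4096).testBit i = n.testBit i := by
    intro i hi
    have : (4096 : ℕ) = 2 ^ 12 := by norm_num
    rw [this, Nat.testBit_mod_two_pow]
    simp [hi]
  have h2 : ∀ k ≤ 12, xorUpTo (fun i => if (n % 4096).testBit i then bm i else 0) k
      = xorUpTo (fun i => if n.testBit i then bm i else 0) k := by
    intro k hk
    induction k with
    | zero => rfl
    | succ k ih =>
      rw [xorUpTo, xorUpTo, ih (by omega), this k (by omega)]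
  exact h2 12 le_rfl

/-- Every member of the code is `encMask a` for some `a < 4096`. -/
theorem exists_of_mem_code (b : Finset GolayPt) (hb : b ∈ supports (golayCode : Set W)) :
    ∃ a < 4096, b = ofMask (encMask a) := by
  refine ⟨toMask b % 4096, Nat.mod_lt _ (by norm_num), ?_⟩
  rw [encMask_mod, (mem_code_iff b).mp hb, ofMask_toMask]

theorem forall_code (P : Finset GolayPt → Prop) (h : ∀ a < 4096, P (ofMask (encMask a))) :
    ∀ b ∈ supports (golayCode : Set W), P b := by
  intro b hb
  obtain ⟨a, ha, rfl⟩ := exists_of_mem_code b hb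
  exact h a ha

theorem encMask_encMask (a : ℕ) : encMask (encMask a) = encMask a := by
  have h := E_mem (decW a)
  rw [E_decW] at h
  exact (decW_mem_iff _ (encMask_lt a)).mp h

theorem ofMask_encMask_mem (a : ℕ) : ofMask (encMask a) ∈ supports (golayCode : Set W) :=
  (ofMask_mem_iff _ (encMask_lt a)).mpr (encMask_encMask a)

end Cfsg.Agent.Helper7
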