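import Cfsg.Agent.Lib.Helper7.Octads
import Cfsg.Agent.Lib.Helper7.Count
import Cfsg.Agent.Lib.Helper7.Weights
import Cfsg.Agent.Lib.Helper7.Steiner
import Cfsg.Agent.Lib.Helper7.Gens
import Cfsg.Agent.Lib.Helper92.CodeBasic

/-!
# Code words whose intersection with a given code word is again a code word
-/

set_option autoImplicit false

namespace Cfsg.Agent.Helper7
open Cfsg Cfsg.Agent.Helper92
open scoped Pointwise

/-- the code words meeting `d` in a code word -/
def interCode (d : Finset GolayPt) : Set (Finset GolayPt) := {c | c ∈ Code ∧ c ∩ d ∈ Code}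

theorem interCode_smul (σ : Equiv.Perm GolayPt) (hσ : σ ∈ M24) (d : Finset GolayPt) :
    interCode (σ • d) = (fun c => σ • c) '' interCode d := by
  ext c
  constructor
  · rintro ⟨hc, hcd⟩
    refine ⟨σ⁻¹ • c, ⟨smul_mem (M24.inv_mem hσ) hc, ?_⟩, by simp⟩
    have := smul_mem (M24.inv_mem hσ) hcd
    rwa [Finset.smul_finset_inter, inv_smul_smul] at this
  · rintro ⟨c', ⟨hc', hcd'⟩, rfl⟩
    refine ⟨smul_mem hσ hc', ?_⟩
    show σ • c' ∩ σ • d ∈ Code
    rw [← Finset.smul_finset_inter]
    exact smul_mem hσ hcd'

theorem interCode_ncard_smul (σ : Equiv.Perm GolayPt) (hσ : σ ∈ M24) (d : Finset GolayPt) :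
    (interCode (σ • d)).ncard = (interCode d).ncard := by
  rw [interCode_smul σ hσ d]
  exact Set.ncard_image_of_injective _ (MulAction.injective σ)

theorem interCode_compl (d : Finset GolayPt) : interCode dᶜ = interCode d := by
  ext c
  have h1 : c ∩ dᶜ = symmDiff c (c ∩ d) := by
    ext p
    simp only [Finset.mem_inter, Finset.mem_compl, Finset.mem_symmDiff]
    tauto
  have h2 : c ∩ d = symmDiff c (c ∩ dᶜ) := by
    ext p
    simp only [Finset.mem_inter, Finset.mem_compl, Finset.mem_symmDiff]
    tauto
  constructor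
  · rintro ⟨hc, hcd⟩
    exact ⟨hc, by rw [h2]; exact symmDiff_mem hc hcd⟩
  · rintro ⟨hc, hcd⟩
    exact ⟨hc, by rw [h1]; exact symmDiff_mem hc hcd⟩

/-- the list of code masks meeting the mask `d` in a code mask -/
def interList (d : ℕ) : List ℕ := codeList.filter (fun c => Nat.beq (encMask (Nat.land c d)) (Nat.land c d))

theorem interCode_subset (d : ℕ) :
    interCode (ofMask d) ⊆ ↑((interList d).map ofMask).toFinset := by
  rintro c ⟨hc, hcd⟩
  obtain ⟨m, hm, rfl⟩ := (mem_supports_iff_codeList c).mp hc
  rw [Finset.mem_coe, List.mem_toFinset, List.mem_map]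
  refine ⟨m, ?_, rfl⟩
  unfold interList
  rw [List.mem_filter]
  refine ⟨hm, ?_⟩
  rw [Nat.beq_eq]
  rw [← ofMask_land] at hcd
  have hlt : Nat.land m d < 2 ^ 24 :=
    lt_of_le_of_lt Nat.and_le_left (codeList_lt hm)
  exact (ofMask_mem_iff _ hlt).mp hcd

theorem interCode_ncard_le (d : ℕ) : (interCode (ofMask d)).ncard ≤ (interList d).length := by
  calc (interCode (ofMask d)).ncard ≤ (↑((interList d).map ofMask).toFinset : Set (Finset GolayPt)).ncard :=
        Set.ncard_le_ncard (interCode_subset d) (Finset.finite_toSet _)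
    _ = ((interList d).map ofMask).toFinset.card := Set.ncard_coe_finset _
    _ ≤ ((interList d).map ofMask).length := List.toFinset_card_le _
    _ = (interList d).length := List.length_map _

theorem interList_oct : (interList octRoot).length = 64 := by decide +kernel

theorem interList_dod : (interList dodRoot).length = 4 := by decide +kernel

/-- A code word other than the empty and the full one meets at most 64 code words in a code
word. -/
theorem interCode_bound (d : Finset GolayPt) (hd : d ∈ Code) (h0 : d ≠ ∅) (h1 : d ≠ Finset.univ) :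
    (interCode d).ncard ≤ 64 := by
  have hoct : ∀ o ∈ octads, (interCode o).ncard ≤ 64 := by
    intro o ho
    obtain ⟨g, hg, rfl⟩ := octad_reach M24 le_rfl shift_mem projInv_mem cubeTwist_mem o ho
    rw [interCode_ncard_smul g hg]
    exact (interCode_ncard_le octRoot).trans (by rw [interList_oct])
  rcases weight_cases d hd with h | h | h | h | h
  · exact absurd (Finset.card_eq_zero.mp h) h0
  · exact hoct d ((mem_octads_iff d).mpr ⟨hd, h⟩)
  · obtain ⟨g, hg, rfl⟩ := dodecad_reach M24 le_rfl shift_mem projInv_mem cubeTwist_mem d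
      ((mem_dodecads_iff d).mpr ⟨hd, h⟩)
    rw [interCode_ncard_smul g hg]
    exact (interCode_ncard_le dodRoot).trans (by rw [interList_dod]; norm_num)
  · rw [← interCode_compl]
    apply hoct
    refine (mem_octads_iff _).mpr ⟨compl_mem hd, ?_⟩
    rw [Finset.card_compl, h]
    rfl
  · exfalso
    apply h1
    apply Finset.eq_univ_of_card
    rw [h]
    rfl

end Cfsg.Agent.Helper7
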