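import Mathlib

/-!
# Generic counting lemmas for the maximality of the cross stabiliser
-/

set_option autoImplicit false

namespace Cfsg.Agent.Helper7.CrossGen

open MulAction

/-- An invariant finite set all of whose orbits have size divisible by `d` has size divisible
by `d`. -/
theorem dvd_ncard_of_orbits {E X : Type*} [Group E] [MulAction E X] (d : ℕ) :
    ∀ (n : ℕ) (T : Set X), T.Finite → T.ncard = n → (∀ e : E, ∀ x ∈ T, e • x ∈ T) →
      (∀ x ∈ T, d ∣ (orbit E x).ncard) → d ∣ n := by
  intro n
  induction n using Nat.strong_induction_on with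
  | _ n ih =>
    intro T hfin hcard hinv hd
    rcases T.eq_empty_or_nonempty with rfl | ⟨x, hx⟩
    · simp at hcard
      subst hcard
      exact dvd_zero _
    · have hsub : orbit E x ⊆ T := by
        rintro _ ⟨e, rfl⟩
        exact hinv e x hx
      have hT' : (T \ orbit E x).Finite := hfin.subset Set.sdiff_subset
      have hsum : (T \ orbit E x).ncard + (orbit E x).ncard = T.ncard :=
        Set.ncard_sdiff_add_ncard_of_subset hsub hfin
      have hpos : 0 < (orbit E x).ncard :=
        (Set.ncard_pos (hfin.subset hsub)).mpr ⟨x, mem_orbit_self x⟩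
      have hlt : (T \ orbit E x).ncard < n := by omega
      have h1 : d ∣ (T \ orbit E x).ncard := by
        refine ih _ hlt (T \ orbit E x) hT' rfl ?_ ?_
        · intro e y hy
          refine ⟨hinv e y hy.1, fun h => hy.2 ?_⟩
          obtain ⟨g, hg⟩ := h
          refine ⟨e⁻¹ * g, ?_⟩
          show (e⁻¹ * g) • x = y
          rw [mul_smul]
          have hg' : g • x = e • y := hg
          rw [hg', inv_smul_smul]
        · intro y hy
          exact hd y hy.1
      rw [← hcard, ← hsum]
      exact dvd_add h1 (hd x hx)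

/-- The number of group elements moving a base point into a set. -/
theorem card_fiber_set {K Y : Type*} [Group K] [Finite K] [MulAction K Y] (y0 : Y) (A : Set Y) :
    Nat.card {k : K // k • y0 ∈ A} = (A ∩ orbit K y0).ncard * Nat.card (stabilizer K y0) := by
  classical
  have hfinO : (A ∩ orbit K y0).Finite := (Set.finite_range _).subset Set.inter_subset_right
  haveI : Finite ↥(A ∩ orbit K y0) := hfinO
  haveI : Fintype ↥(A ∩ orbit K y0) := Fintype.ofFinite _
  let f : {k : K // k • y0 ∈ A} → ↥(A ∩ orbit K y0) :=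
    fun k => ⟨k.1 • y0, k.2, mem_orbit y0 k.1⟩
  have h1 : Nat.card {k : K // k • y0 ∈ A} =
      Nat.card (Σ b : ↥(A ∩ orbit K y0), {k // f k = b}) :=
    Nat.card_congr (Equiv.sigmaFiberEquiv f).symm
  have hfib : ∀ b : ↥(A ∩ orbit K y0), Nat.card {k // f k = b} = Nat.card (stabilizer K y0) := by
    rintro ⟨b, hbA, k0, rfl⟩
    apply Nat.card_congr
    refine
      { toFun := fun k => ⟨k0⁻¹ * k.1.1, ?_⟩
        invFun := fun s => ⟨⟨k0 * s.1, ?_⟩, ?_⟩
        left_inv := ?_
        right_inv := ?_ }
    · have hk : k.1.1 • y0 = k0 • y0 := congrArg Subtype.val k.2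
      rw [mem_stabilizer_iff, mul_smul, hk, inv_smul_smul]
    · show (k0 * s.1) • y0 ∈ A
      rw [mul_smul, mem_stabilizer_iff.mp s.2]
      exact hbA
    · apply Subtype.ext
      show (k0 * s.1) • y0 = k0 • y0
      rw [mul_smul, mem_stabilizer_iff.mp s.2]
    · intro k
      apply Subtype.ext
      apply Subtype.ext
      show k0 * (k0⁻¹ * k.1.1) = k.1.1
      group
    · intro s
      apply Subtype.ext
      show k0⁻¹ * (k0 * s.1) = s.1
      group
  rw [h1, Nat.card_sigma, Finset.sum_congr rfl (fun b _ => hfib b), Finset.sum_const,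
    Finset.card_univ, smul_eq_mul, ← Nat.card_eq_fintype_card, Nat.card_coe_set_eq]

/-- A finite type split by three mutually exclusive and exhaustive predicates. -/
theorem card_three {α : Type*} [Finite α] (p1 p2 p3 : α → Prop)
    (h : ∀ a, (p1 a ∧ ¬ p2 a ∧ ¬ p3 a) ∨ (¬ p1 a ∧ p2 a ∧ ¬ p3 a) ∨ (¬ p1 a ∧ ¬ p2 a ∧ p3 a)) :
    Nat.card α = Nat.card {a // p1 a} + Nat.card {a // p2 a} + Nat.card {a // p3 a} := by
  classical
  haveI : Fintype α := Fintype.ofFinite α
  rw [Nat.card_eq_fintype_card, Nat.card_eq_fintype_card, Nat.card_eq_fintype_card,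
    Nat.card_eq_fintype_card, Fintype.card_subtype, Fintype.card_subtype, Fintype.card_subtype]
  have e : (Finset.univ : Finset α) =
      (Finset.univ.filter p1 ∪ Finset.univ.filter p2) ∪ Finset.univ.filter p3 := by
    ext a
    simp only [Finset.mem_univ, Finset.mem_union, Finset.mem_filter, true_and, true_iff]
    rcases h a with h | h | h
    · exact Or.inl (Or.inl h.1)
    · exact Or.inl (Or.inr h.2.1)
    · exact Or.inr h.2.2
  have d1 : Disjoint (Finset.univ.filter p1) (Finset.univ.filter p2) := by
    rw [Finset.disjoint_filter]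
    intro a _ h1 h2
    rcases h a with h | h | h
    · exact h.2.1 h2
    · exact h.1 h1
    · exact h.1 h1
  have d2 : Disjoint (Finset.univ.filter p1 ∪ Finset.univ.filter p2) (Finset.univ.filter p3) := by
    rw [Finset.disjoint_union_left, Finset.disjoint_filter, Finset.disjoint_filter]
    refine ⟨fun a _ h1 h3 => ?_, fun a _ h2 h3 => ?_⟩
    · rcases h a with h | h | h
      · exact h.2.2 h3
      · exact h.1 h1
      · exact h.1 h1
    · rcases h a with h | h | h
      · exact h.2.1 h2
      · exact h.2.2 h3
      · exact h.2.1 h2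
  have hcard := congrArg Finset.card e
  rw [Finset.card_union_of_disjoint d2, Finset.card_union_of_disjoint d1] at hcard
  rw [← Finset.card_univ]
  exact hcard

theorem arith_small : ∀ k ∈ List.range 2881, k ∣ 8292375 → k % 23 = 1 →
    (k % 16 = 1 ∨ k % 16 = 7) → k = 1 := by
  decide +kernel

theorem arith_large : ∀ j ∈ List.range 2881, j ∣ 8292375 → (8292375 / j) % 23 = 1 →
    ((8292375 / j) % 16 = 1 ∨ (8292375 / j) % 16 = 7) → 8292375 / j = 8292375 := by
  decide +kernel

/-- The arithmetic that finishes the maximality proof. -/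
theorem arith_final (k : ℕ) (h1 : k ∣ 8292375) (h23 : k % 23 = 1)
    (h16 : k % 16 = 1 ∨ k % 16 = 7) : k = 1 ∨ k = 8292375 := by
  obtain ⟨j, hj⟩ := h1
  by_cases hk : k ≤ 2880
  · left
    exact arith_small k (List.mem_range.mpr (by omega)) ⟨j, hj⟩ h23 h16
  · right
    have hjle : j ≤ 2880 := by
      by_contra hcon
      have : 2881 * 2881 ≤ k * j := Nat.mul_le_mul (by omega) (by omega)
      omega
    have hjpos : 0 < j := by
      rcases Nat.eq_zero_or_pos j with h0 | h0
      · rw [h0] at hj; omega
      · exact h0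
    have hkeq : 8292375 / j = k := by
      rw [hj]
      exact Nat.mul_div_cancel k hjpos
    have := arith_large j (List.mem_range.mpr (by omega)) ⟨k, by rw [hj, mul_comm]⟩
      (by rw [hkeq]; exact h23) (by rw [hkeq]; exact h16)
    rw [hkeq] at this
    exact this

end Cfsg.Agent.Helper7.CrossGen
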