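import Cfsg.Agent.Lib.Helper7.CrossCode
import Cfsg.Agent.Lib.Helper7.Co3Cent
import Cfsg.Agent.Lib.Helper7.M24Trans
import Cfsg.Agent.Lib.Helper7.LeechCount

/-!
# Lattice geometry for the maximality of the cross stabiliser
-/

set_option autoImplicit false

namespace Cfsg.Agent.Helper7
open Cfsg Cfsg.Agent.Helper91 Cfsg.Agent.Helper92
open scoped Pointwise

/-- the restriction of a vector to a set of coordinates -/
def restr (y : GolayPt → ℤ) (c : Finset GolayPt) : GolayPt → ℤ := fun i => if i ∈ c then y i else 0

/-- the vectors with all coordinates `0` or `±4` -/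
def IsSext (y : GolayPt → ℤ) : Prop := ∀ i, y i = 0 ∨ y i = 4 ∨ y i = -4

theorem mod4_set_mem {x : GolayPt → ℤ} (hx : x ∈ leechLattice) (k : ℤ) :
    (Finset.univ.filter fun i => x i ≡ k [ZMOD 4]) ∈ Code := by
  have hS : x ∈ leechSet := by rw [← leechLattice_coe]; exact hx
  obtain ⟨m, -, -, h⟩ := hS
  exact h k

theorem restr_odd {y : GolayPt → ℤ} (hy : y ∈ leechLattice) (hodd : y none % 2 = 1)
    (c : Finset GolayPt) (hc : restr y c ∈ leechLattice) : c = ∅ ∨ c = Finset.univ := by
  by_contra hcon
  rw [not_or] at hcon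
  obtain ⟨hne, hnu⟩ := hcon
  obtain ⟨i, hi⟩ : ∃ i, i ∈ c := by
    by_contra h
    apply hne
    apply Finset.eq_empty_of_forall_notMem
    intro i hi
    exact h ⟨i, hi⟩
  obtain ⟨j, hj⟩ : ∃ j, j ∉ c := by
    by_contra h
    apply hnu
    apply Finset.eq_univ_iff_forall.mpr
    intro j
    by_contra hj
    exact h ⟨j, hj⟩
  have h1 := leech_parity hc i j
  simp only [restr, if_pos hi, if_neg hj] at h1
  have h2 := leech_parity hy i none
  omega

theorem restr_even {y : GolayPt → ℤ} (c : Finset GolayPt) (hc : restr y c ∈ leechLattice) :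
    c ∩ (Finset.univ.filter fun i => y i ≡ 2 [ZMOD 4]) ∈ Code := by
  have := mod4_set_mem hc 2
  convert this using 1
  ext p
  rw [Finset.mem_inter, Finset.mem_filter, Finset.mem_filter]
  simp only [Finset.mem_univ, true_and, restr]
  by_cases hp : p ∈ c
  · simp [hp]
  · simp only [hp, if_false, false_and, false_iff]
    decide

theorem card_golayPt : Fintype.card GolayPt = 24 := by decide

/-- a vector of norm 64 with a coordinate `±8` is a multiple of a coordinate vector -/
theorem single_of_eight (y : GolayPt → ℤ) (hn : sqNorm y = 64) (i : GolayPt)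
    (h : y i = 8 ∨ y i = -8) : y ∈ stdCross := by
  have hi : y i ^ 2 = 64 := by rcases h with h | h <;> rw [h] <;> norm_num
  have hsum : ∑ j ∈ Finset.univ.erase i, y j ^ 2 = 0 := by
    have := Finset.add_sum_erase Finset.univ (fun j => y j ^ 2) (Finset.mem_univ i)
    unfold sqNorm at hn
    omega
  have hz : ∀ j, j ≠ i → y j = 0 := by
    intro j hj
    have := (Finset.sum_eq_zero_iff_of_nonneg (fun k _ => sq_nonneg (y k))).mp hsum j
      (Finset.mem_erase.mpr ⟨hj, Finset.mem_univ j⟩)
    exact pow_eq_zero_iff (by norm_num) |>.mp this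
  refine ⟨i, y i, h, ?_⟩
  funext j
  by_cases hj : j = i
  · rw [hj, Pi.single_eq_same]
  · rw [Pi.single_eq_of_ne hj, hz j hj]

/-- a vector of norm 64 with all coordinates divisible by four -/
theorem mod4_shape (y : GolayPt → ℤ) (hn : sqNorm y = 64) (h4 : ∀ i, y i % 4 = 0) :
    IsSext y ∨ y ∈ stdCross := by
  by_cases h8 : ∃ i, y i = 8 ∨ y i = -8
  · obtain ⟨i, hi⟩ := h8
    exact Or.inr (single_of_eight y hn i hi)
  · left
    intro i
    have hb := coord_bound y 64 (by norm_num) (by rw [hn]; rfl) i
    have := h4 i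
    have h8' : ¬ (y i = 8 ∨ y i = -8) := fun h => h8 ⟨i, h⟩
    omega

/-- no vector of norm 64 has all coordinates congruent to 2 modulo 4 -/
theorem mod4_two_absurd (y : GolayPt → ℤ) (hn : sqNorm y = 64) (h : ∀ i, y i % 4 = 2) : False := by
  have h1 : ∀ i ∈ (Finset.univ : Finset GolayPt), (4 : ℤ) ≤ y i ^ 2 := by
    intro i _
    have := h i
    have h2 : y i ≤ -2 ∨ 2 ≤ y i := by omega
    rcases h2 with h2 | h2 <;> nlinarith
  have h2 := Finset.sum_le_sum h1
  rw [Finset.sum_const, Finset.card_univ, card_golayPt] at h2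
  unfold sqNorm at hn
  rw [hn] at h2
  norm_num at h2

/-- Off the standard cross and the vectors of shape `(±4⁴)`, at most 256 sign changes by code
words keep the class modulo twice the lattice. -/
theorem restr_bound (y : GolayPt → ℤ) (hy : y ∈ leechLattice) (hn : sqNorm y = 64)
    (hstd : y ∉ stdCross) (hs : ¬ IsSext y) :
    {c | c ∈ Code ∧ restr y c ∈ leechLattice}.ncard ≤ 256 := by
  by_cases hodd : y none % 2 = 1
  · have hsub : {c | c ∈ Code ∧ restr y c ∈ leechLattice} ⊆
        ((({∅, Finset.univ} : Finset (Finset GolayPt))) : Set (Finset GolayPt)) := by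
      rintro c ⟨-, hc⟩
      rcases restr_odd hy hodd c hc with rfl | rfl <;> simp
    calc {c | c ∈ Code ∧ restr y c ∈ leechLattice}.ncard
        ≤ ((({∅, Finset.univ} : Finset (Finset GolayPt))) : Set (Finset GolayPt)).ncard :=
          Set.ncard_le_ncard hsub (Finset.finite_toSet _)
      _ = ({∅, Finset.univ} : Finset (Finset GolayPt)).card := Set.ncard_coe_finset _
      _ ≤ 2 := Finset.card_le_two
      _ ≤ 256 := by norm_num
  · have heven : ∀ i, y i % 2 = 0 := by
      intro i
      have := leech_parity hy i none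
      omega
    have hdC : (Finset.univ.filter fun i => y i ≡ 2 [ZMOD 4]) ∈ Code := mod4_set_mem hy 2
    have hsub : {c | c ∈ Code ∧ restr y c ∈ leechLattice} ⊆
        interCode (Finset.univ.filter fun i => y i ≡ 2 [ZMOD 4]) :=
      fun c hc => ⟨hc.1, restr_even c hc.2⟩
    have hd0 : (Finset.univ.filter fun i => y i ≡ 2 [ZMOD 4]) ≠ ∅ := by
      intro h0
      have h4 : ∀ i, y i % 4 = 0 := by
        intro i
        have hi : i ∉ (Finset.univ.filter fun i => y i ≡ 2 [ZMOD 4]) := by rw [h0]; simp
        rw [Finset.mem_filter] at hi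
        simp only [Finset.mem_univ, true_and] at hi
        unfold Int.ModEq at hi
        have := heven i
        omega
      rcases mod4_shape y hn h4 with h | h
      · exact hs h
      · exact hstd h
    have hd1 : (Finset.univ.filter fun i => y i ≡ 2 [ZMOD 4]) ≠ Finset.univ := by
      intro h1
      apply mod4_two_absurd y hn
      intro i
      have hi : i ∈ (Finset.univ.filter fun i => y i ≡ 2 [ZMOD 4]) := by rw [h1]; simp
      rw [Finset.mem_filter] at hi
      exact hi.2
    calc {c | c ∈ Code ∧ restr y c ∈ leechLattice}.ncard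
        ≤ (interCode (Finset.univ.filter fun i => y i ≡ 2 [ZMOD 4])).ncard :=
          Set.ncard_le_ncard hsub (Set.toFinite _)
      _ ≤ 64 := interCode_bound _ hdC hd0 hd1
      _ ≤ 256 := by norm_num

/-- The vectors of shape `(±4⁴)` are closed under congruence modulo twice the lattice, up to the
standard cross. -/
theorem sext_cong {y y' : GolayPt → ℤ} (hn' : sqNorm y' = 64) (hs : IsSext y)
    (hc : Cong2 y y') : IsSext y' ∨ y' ∈ stdCross := by
  obtain ⟨z, hz, hzy⟩ := hc
  have hcoord : ∀ i, y' i = y i - 2 * z i := by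
    intro i
    have := congrFun hzy i
    rw [two_nsmul] at this
    simp only [Pi.sub_apply, Pi.add_apply] at this
    omega
  by_cases hodd : z none % 2 = 1
  · exfalso
    apply mod4_two_absurd y' hn'
    intro i
    have h1 := leech_parity hz i none
    have h2 := hcoord i
    rcases hs i with h | h | h <;> omega
  · apply mod4_shape y' hn'
    intro i
    have h1 := leech_parity hz i none
    have h2 := hcoord i
    rcases hs i with h | h | h <;> omega

end Cfsg.Agent.Helper7
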