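import Cfsg.Agent.Lib.Helper7.CrossGeo

/-!
# More lattice geometry for the maximality of the cross stabiliser
-/

set_option autoImplicit false

namespace Cfsg.Agent.Helper7
open Cfsg Cfsg.Agent.Helper91 Cfsg.Agent.Helper92
open scoped Pointwise

/-! ### The count of the vectors of shape `(±4⁴)` -/

theorem sext_count :
    {x : GolayPt → ℤ | x ∈ leechLattice ∧ sqNorm x = 64 ∧ IsSext x}.ncard = 170016 := by
  have h : leechNum (fun t => decide (t = 0 ∨ t = 4 ∨ t = -4)) 64 = 170016 := by decide +kernel
  rw [← h, ← leech_ncard _ 64 (by norm_num)]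
  congr 1
  ext x
  simp only [Set.mem_ofPred_eq, decide_eq_true_eq, IsSext]
  norm_num

/-- the lattice vectors of shape `(±4⁴)` -/
def sextSet : Set leechLattice := {y | sqNorm y.1 = 64 ∧ IsSext y.1}

theorem sextSet_ncard : sextSet.ncard = 170016 := by
  rw [← sext_count, ← Set.ncard_image_of_injective sextSet Subtype.val_injective]
  congr 1
  ext x
  constructor
  · rintro ⟨y, ⟨h1, h2⟩, rfl⟩
    exact ⟨y.2, h1, h2⟩
  · rintro ⟨h0, h1, h2⟩
    exact ⟨⟨x, h0⟩, ⟨h1, h2⟩, rfl⟩

/-! ### Congruences with the frame -/

theorem sqNorm_stdCross (v : GolayPt → ℤ) (hv : v ∈ stdCross) : sqNorm v = 64 := by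
  obtain ⟨i, s, hs, rfl⟩ := hv
  unfold sqNorm
  rw [Finset.sum_eq_single i]
  · rw [Pi.single_eq_same]; rcases hs with rfl | rfl <;> norm_num
  · intro k _ hk; rw [Pi.single_eq_of_ne hk]; norm_num
  · intro h; exact absurd (Finset.mem_univ _) h

/-- every vector of the standard cross is congruent to the first frame vector -/
theorem stdCross_cong (v : leechLattice) (hv : v.1 ∈ stdCross) :
    ∃ z : leechLattice, v = frameVec none + (z + z) := by
  obtain ⟨i, s, hs, hv⟩ := hv
  by_cases hi : i = none
  · rcases hs with rfl | rfl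
    · refine ⟨0, ?_⟩
      apply Subtype.ext
      rw [hv, hi]
      simp [frameVec_val]
    · refine ⟨-frameVec none, ?_⟩
      apply Subtype.ext
      rw [hv, hi]
      show _ = (frameVec none).1 + (-(frameVec none).1 + -(frameVec none).1)
      rw [frameVec_val]
      funext k
      simp only [Pi.add_apply, Pi.neg_apply, Pi.single_apply]
      split_ifs <;> norm_num
  · have hs' : s / 8 = 1 ∨ s / 8 = -1 := by rcases hs with rfl | rfl <;> norm_num
    refine ⟨⟨fourPair i none (s / 8) (-1), fourPair_mem i none hi _ _ hs' (Or.inr rfl)⟩, ?_⟩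
    apply Subtype.ext
    rw [hv]
    show _ = (frameVec none).1 + (fourPair i none (s / 8) (-1) + fourPair i none (s / 8) (-1))
    rw [frameVec_val]
    funext k
    unfold fourPair
    simp only [Pi.add_apply, Pi.single_apply]
    rcases hs with rfl | rfl <;> split_ifs <;> norm_num

/-- an automorphism mapping the first frame vector into the standard cross stabilises it -/
theorem stabCross_of_mem (g : Equiv.Perm leechLattice) (hg : g ∈ Co0)
    (hgf : (g (frameVec none)).1 ∈ stdCross) : StabCross g := by
  intro v hv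
  obtain ⟨z, hz⟩ := stdCross_cong v hv
  obtain ⟨z', hz'⟩ := stdCross_cong (g (frameVec none)) hgf
  have hgv : g v = frameVec none + ((z' + g z) + (z' + g z)) := by
    rw [hz, hg.1, hg.1, hz']
    abel
  apply cross_frame (g v) (by rw [hg.2]; exact sqNorm_stdCross v.1 hv)
  refine ⟨(z' + g z).1, (z' + g z).2, ?_⟩
  rw [hgv]
  show (frameVec none).1 + ((z' + g z).1 + (z' + g z).1) - (frameVec none).1 = 2 • (z' + g z).1
  rw [two_nsmul]
  abel

/-! ### Vectors of norm 64 fixed by the translations -/

theorem g23_frame : g23 (frameVec none) = frameVec none := by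
  unfold g23
  rw [permL_frame]
  rfl

theorem g23_fix64 (y : leechLattice) (hn : sqNorm y.1 = 64) (hy : g23 y = y) :
    y = frameVec none ∨ y = -frameVec none := by
  have hconst := const_of_g23_fix y hy
  rw [sqNorm_const _ hconst] at hn
  obtain ⟨hb, ha⟩ := arith64 _ _ hn
  rcases ha with ha | ha
  · left
    apply Subtype.ext
    funext i
    rw [frameVec_val]
    cases i with
    | none => rw [ha, Pi.single_eq_same]
    | some t => rw [hconst t, hb, Pi.single_eq_of_ne (by simp)]
  · right
    apply Subtype.ext
    funext i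
    rw [AddSubgroup.coe_neg, Pi.neg_apply, frameVec_val]
    cases i with
    | none => rw [ha, Pi.single_eq_same]
    | some t => rw [hconst t, hb, Pi.single_eq_of_ne (by simp)]; simp

end Cfsg.Agent.Helper7
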