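import Cfsg.Agent.Lib.Helper7.CrossSign

/-!
# The stabiliser of the standard cross is a maximal subgroup of `Co0`
-/

set_option autoImplicit false

namespace Cfsg.Agent.Helper7
open Cfsg Cfsg.Agent.Helper91 Cfsg.Agent.Helper92
open scoped Pointwise
open MulAction

/-- the image of the first frame vector is neither in the standard cross nor of shape `(±4⁴)` -/
def BadElt (g : ↥Co0) : Prop :=
  (g.1 (frameVec none)).1 ∉ stdCross ∧ ¬ IsSext (g.1 (frameVec none)).1

theorem not_isSext_of_stdCross {y : GolayPt → ℤ} (hy : y ∈ stdCross) : ¬ IsSext y := by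
  obtain ⟨i, s, hs, rfl⟩ := hy
  intro h
  have := h i
  rw [Pi.single_eq_same] at this
  rcases hs with rfl | rfl <;> omega

theorem arith_orbit (s idx : ℕ) (hs : s ≤ 256) (h : s * idx = 4096) : 16 ∣ idx := by
  interval_cases s <;> omega

section
variable (H : Subgroup ↥Co0) (hH : ∀ g : ↥Co0, g ∈ H ↔ StabCross g.1)
include hH

theorem signGroup_le : signGroup ≤ H := fun g hg => (hH g).mpr (signGroup_stab g hg)

theorem mem_H_iff_frame (g : ↥Co0) : g ∈ H ↔ (g.1 (frameVec none)).1 ∈ stdCross :=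
  ⟨fun h => (hH g).mp h _ (frameVec_mem_stdCross none),
    fun h => (hH g).mpr (stabCross_of_mem g.1 g.2 h)⟩

/-- the images of the first frame vector under `g` and `g * n` are congruent -/
theorem cong_mul (g n : ↥Co0) (hn : n ∈ H) :
    ∃ z : leechLattice, (g * n).1 (frameVec none) = g.1 (frameVec none) + (z + z) := by
  obtain ⟨z, hz⟩ := stdCross_cong (n.1 (frameVec none)) ((mem_H_iff_frame H hH n).mp hn)
  refine ⟨g.1 z, ?_⟩
  show g.1 (n.1 (frameVec none)) = _
  rw [hz, g.2.1, g.2.1]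

theorem badElt_mul (g n : ↥Co0) (hn : n ∈ H) (hg : BadElt g) : BadElt (g * n) := by
  obtain ⟨z, hz⟩ := cong_mul H hH g n hn
  constructor
  · intro h
    have h1 : g * n ∈ H := (mem_H_iff_frame H hH _).mpr h
    have h2 : g ∈ H := by
      have := H.mul_mem h1 (H.inv_mem hn)
      rwa [mul_inv_cancel_right] at this
    exact hg.1 ((mem_H_iff_frame H hH g).mp h2)
  · intro h
    have hc : Cong2 ((g * n).1 (frameVec none)).1 (g.1 (frameVec none)).1 := by
      refine ⟨z.1, z.2, ?_⟩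
      rw [hz]
      show (g.1 (frameVec none)).1 + (z.1 + z.1) - (g.1 (frameVec none)).1 = 2 • z.1
      rw [two_nsmul]
      abel
    have hn64 : sqNorm (g.1 (frameVec none)).1 = 64 := by rw [g.2.2, sqNorm_frameVec]
    rcases sext_cong hn64 h hc with h' | h'
    · exact hg.2 h'
    · exact hg.1 h'

/-- the stabiliser, in the sign group, of a bad coset is small -/
theorem stab_sign_le (g : ↥Co0) (hg : BadElt g) :
    Nat.card (stabilizer ↥signGroup ((g : ↥Co0) : ↥Co0 ⧸ H)) ≤ 256 := by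
  set y := g.1 (frameVec none) with hy
  have hn64 : sqNorm y.1 = 64 := by rw [hy, g.2.2, sqNorm_frameVec]
  have key : ∀ e : ↥(stabilizer ↥signGroup ((g : ↥Co0) : ↥Co0 ⧸ H)),
      ∃ c : ↥{c | c ∈ Code ∧ restr y.1 c ∈ leechLattice}, ∃ hc : c.1 ∈ Code,
        e.1.1.1 = monoPerm 1 c.1 M24.one_mem hc := by
    intro e
    obtain ⟨c, hc, hec⟩ := signGroup_form e.1.1 e.1.2
    have hfix : ((e.1.1 * g : ↥Co0) : ↥Co0 ⧸ H) = ((g : ↥Co0) : ↥Co0 ⧸ H) := e.2
    rw [QuotientGroup.eq] at hfix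
    -- `h = g⁻¹ * e * g ∈ H`
    have hmem : g⁻¹ * e.1.1 * g ∈ H := by
      have := H.inv_mem hfix
      rwa [mul_inv_rev, inv_inv, ← mul_assoc] at this
    obtain ⟨z, hz⟩ := stdCross_cong _ ((mem_H_iff_frame H hH _).mp hmem)
    have h1 : e.1.1.1 y = y + (g.1 z + g.1 z) := by
      have h2 : g.1 ((g⁻¹ * e.1.1 * g).1 (frameVec none)) = e.1.1.1 y := by
        show g.1 ((g.1)⁻¹ (e.1.1.1 (g.1 (frameVec none)))) = _
        exact Equiv.apply_symm_apply g.1 _
      rw [← h2, hz, g.2.1, g.2.1]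
    rw [hec] at h1
    exact ⟨⟨c, hc, restr_mem_of_cong c hc y (g.1 z) h1⟩, hc, hec⟩
  choose f hf hf' using key
  have hinj : Function.Injective f := by
    intro e e' hee
    apply Subtype.ext
    apply Subtype.ext
    apply Subtype.ext
    rw [hf' e, hf' e']
    congr 1
    exact congrArg Subtype.val hee
  calc Nat.card (stabilizer ↥signGroup ((g : ↥Co0) : ↥Co0 ⧸ H))
      ≤ Nat.card ↥{c | c ∈ Code ∧ restr y.1 c ∈ leechLattice} :=
        Nat.card_le_card_of_injective f hinj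
    _ = {c | c ∈ Code ∧ restr y.1 c ∈ leechLattice}.ncard := Nat.card_coe_set_eq _
    _ ≤ 256 := restr_bound y.1 y.2 hn64 hg.1 hg.2

theorem orbit_sign_dvd (g : ↥Co0) (hg : BadElt g) :
    16 ∣ (orbit ↥signGroup ((g : ↥Co0) : ↥Co0 ⧸ H)).ncard := by
  rw [← index_stabilizer]
  apply arith_orbit _ _ (stab_sign_le H hH g hg)
  rw [Subgroup.card_mul_index, card_signGroup]

theorem badElt_sign (e g : ↥Co0) (he : e ∈ signGroup) (hg : BadElt g) : BadElt (e * g) := by
  constructor
  · intro h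
    apply hg.1
    have hinv : StabCross (e⁻¹).1 := signGroup_stab _ (signGroup.inv_mem he)
    have := hinv _ h
    have e1 : (e⁻¹).1 ((e * g).1 (frameVec none)) = g.1 (frameVec none) := by
      show (e.1)⁻¹ (e.1 (g.1 (frameVec none))) = _
      exact Equiv.symm_apply_apply e.1 _
    rwa [e1] at this
  · intro h
    apply hg.2
    obtain ⟨c, hc, hec⟩ := signGroup_form e he
    intro i
    have hi := h i
    have e1 : ((e * g).1 (frameVec none)).1 i =
        if i ∈ c then -(g.1 (frameVec none)).1 i else (g.1 (frameVec none)).1 i := by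
      show (e.1 (g.1 (frameVec none))).1 i = _
      rw [hec, monoPerm_one_apply]
    rw [e1] at hi
    by_cases hic : i ∈ c
    · rw [if_pos hic] at hi
      omega
    · rw [if_neg hic] at hi
      exact hi

end

instance finiteCo0X : Finite ↥Co0 := Nat.finite_of_card_ne_zero (by rw [card_Co0]; norm_num)

/-- the translation as an element of the automorphism group -/
def g23X : ↥Co0 := ⟨g23, g23_mem⟩

theorem g23X_pow : g23X ^ 23 = 1 := by
  apply Subtype.ext
  rw [Subgroup.coe_pow]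
  exact g23_pow23

theorem g23X_ne_one : g23X ≠ 1 := fun h => g23_ne_one (congrArg Subtype.val h)

theorem card_zpowers_g23X : Nat.card (Subgroup.zpowers g23X) = 23 := by
  haveI : Fact (Nat.Prime 23) := ⟨by norm_num⟩
  rw [Nat.card_zpowers, orderOf_eq_prime g23X_pow g23X_ne_one]

theorem zpowers_g23X_fix (p : ↥(Subgroup.zpowers g23X)) : p.1.1 (frameVec none) = frameVec none := by
  have hle : Subgroup.zpowers g23X ≤ stabilizer ↥Co0 (frameVec none) := by
    rw [Subgroup.zpowers_le]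
    exact g23_frame
  exact hle p.2

section
variable (H : Subgroup ↥Co0) (hH : ∀ g : ↥Co0, g ∈ H ↔ StabCross g.1) (K : Subgroup ↥Co0)
  (hHK : H ≤ K)
include hH hHK

theorem g23X_mem_H : g23X ∈ H := (hH _).mpr (stabCross_of_fix g23 g23_mem g23_frame)

theorem card_stab_K : Nat.card (stabilizer ↥K (frameVec none)) = 10200960 * 2048 := by
  rw [← card_stab_frame]
  apply Nat.card_congr
  exact
    { toFun := fun k => ⟨k.1.1.1, mem_stabIn.mpr ⟨k.1.1.2, k.2⟩⟩
      invFun := fun t => ⟨⟨⟨t.1, (mem_stabIn.mp t.2).1⟩,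
        hHK ((hH _).mpr (stabCross_of_fix t.1 (mem_stabIn.mp t.2).1 (mem_stabIn.mp t.2).2))⟩,
        (mem_stabIn.mp t.2).2⟩
      left_inv := fun _ => rfl
      right_inv := fun _ => rfl }

theorem card_H : Nat.card H = 4096 * 244823040 := by
  rw [← card_stabCross]
  exact Nat.card_congr (Equiv.subtypeEquivRight hH)

theorem card_stab_coset :
    Nat.card (stabilizer ↥K (((1 : ↥Co0) : ↥Co0) : ↥Co0 ⧸ H)) = Nat.card H := by
  apply Nat.card_congr
  refine
    { toFun := fun k => ⟨k.1.1, ?_⟩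
      invFun := fun h => ⟨⟨h.1, hHK h.2⟩, ?_⟩
      left_inv := fun _ => rfl
      right_inv := fun _ => rfl }
  · have h1 : ((k.1.1 * 1 : ↥Co0) : ↥Co0 ⧸ H) = (((1 : ↥Co0) : ↥Co0) : ↥Co0 ⧸ H) := k.2
    rw [QuotientGroup.eq] at h1
    have := H.inv_mem h1
    simpa using this
  · show ((h.1 * 1 : ↥Co0) : ↥Co0 ⧸ H) = (((1 : ↥Co0) : ↥Co0) : ↥Co0 ⧸ H)
    rw [QuotientGroup.eq]
    simpa using H.inv_mem h.2

theorem card_in_H : Nat.card {k : ↥K // k.1 ∈ H} = Nat.card H := by
  apply Nat.card_congr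
  exact
    { toFun := fun k => ⟨k.1.1, k.2⟩
      invFun := fun h => ⟨⟨h.1, hHK h.2⟩, h.2⟩
      left_inv := fun _ => rfl
      right_inv := fun _ => rfl }

/-- if one vector of shape `(±4⁴)` is in the orbit then all are -/
theorem sext_inter (h : ∃ k : ↥K, IsSext (k.1.1 (frameVec none)).1) :
    sextSet ∩ orbit ↥K (frameVec none) = sextSet := by
  apply Set.inter_eq_left.mpr
  intro y hy
  obtain ⟨k1, hk1⟩ := h
  have hn1 : sqNorm (k1.1.1 (frameVec none)).1 = 64 := by rw [k1.1.2.2, sqNorm_frameVec]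
  obtain ⟨σ1, c1, hσ1, hc1, e1⟩ := sext_to_std (k1.1.1 (frameVec none)) hn1 hk1
  obtain ⟨σ, c, hσ, hc, e⟩ := sext_to_std y hy.1 hy.2
  set n1 : ↥Co0 := ⟨monoPerm σ1 c1 hσ1 hc1, monoPerm_mem _ _ _ _⟩ with hn1def
  set n : ↥Co0 := ⟨monoPerm σ c hσ hc, monoPerm_mem _ _ _ _⟩ with hndef
  have hn1H : n1 ∈ H := (hH _).mpr (monoPerm_stab σ1 c1 hσ1 hc1)
  have hnH : n ∈ H := (hH _).mpr (monoPerm_stab σ c hσ hc)
  have heq : n.1 y = n1.1 (k1.1.1 (frameVec none)) := Subtype.ext (e.trans e1.symm)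
  refine ⟨⟨n⁻¹ * n1 * k1.1, K.mul_mem (hHK (H.mul_mem (H.inv_mem hnH) hn1H)) k1.2⟩, ?_⟩
  show (n.1)⁻¹ (n1.1 (k1.1.1 (frameVec none))) = y
  rw [← heq]
  exact Equiv.symm_apply_apply n.1 y

/-- the cosets of the bad elements -/
def badCosets : Set (↥Co0 ⧸ H) :=
  (fun k : ↥K => ((k.1 : ↥Co0) : ↥Co0 ⧸ H)) '' {k | BadElt k.1}

theorem mem_badCosets_iff (k : ↥K) :
    k • (((1 : ↥Co0) : ↥Co0) : ↥Co0 ⧸ H) ∈ badCosets H K ↔ BadElt k.1 := by
  constructor
  · rintro ⟨k', hk', hkk⟩
    have h1 : ((k'.1 : ↥Co0) : ↥Co0 ⧸ H) = ((k.1 * 1 : ↥Co0) : ↥Co0 ⧸ H) := hkk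
    rw [mul_one, QuotientGroup.eq] at h1
    have := badElt_mul H hH k'.1 _ h1 hk'
    rwa [mul_inv_cancel_left] at this
  · intro hk
    refine ⟨k, hk, ?_⟩
    show ((k.1 : ↥Co0) : ↥Co0 ⧸ H) = ((k.1 * 1 : ↥Co0) : ↥Co0 ⧸ H)
    rw [mul_one]

theorem badCosets_subset_orbit :
    badCosets H K ⊆ orbit ↥K (((1 : ↥Co0) : ↥Co0) : ↥Co0 ⧸ H) := by
  rintro _ ⟨k, -, rfl⟩
  refine ⟨k, ?_⟩
  show ((k.1 * 1 : ↥Co0) : ↥Co0 ⧸ H) = ((k.1 : ↥Co0) : ↥Co0 ⧸ H)
  rw [mul_one]

theorem card_bad : Nat.card {k : ↥K // BadElt k.1} = (badCosets H K).ncard * Nat.card H := by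
  have h := CrossGen.card_fiber_set (K := ↥K) ((((1 : ↥Co0) : ↥Co0) : ↥Co0 ⧸ H)) (badCosets H K)
  rw [Set.inter_eq_left.mpr (badCosets_subset_orbit H hH K hHK), card_stab_coset H hH K hHK] at h
  rw [← h]
  exact Nat.card_congr (Equiv.subtypeEquivRight (fun k => (mem_badCosets_iff H hH K hHK k).symm))

theorem badCosets_dvd : 16 ∣ (badCosets H K).ncard := by
  apply CrossGen.dvd_ncard_of_orbits (E := ↥signGroup) 16 _ (badCosets H K) (Set.toFinite _) rfl
  · rintro e _ ⟨k, hk, rfl⟩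
    exact ⟨⟨e.1 * k.1, K.mul_mem (hHK (signGroup_le H hH e.2)) k.2⟩,
      badElt_sign H hH e.1 k.1 e.2 hk, rfl⟩
  · rintro _ ⟨k, hk, rfl⟩
    exact orbit_sign_dvd H hH k.1 hk

theorem negPerm_stab : StabCross negPerm := by
  rintro v ⟨i, s, hs, hv⟩
  refine ⟨i, -s, by omega, ?_⟩
  rw [negPerm_apply, AddSubgroup.coe_neg, hv, Pi.single_neg]

theorem orbit_mod23 : ∃ t : ℕ, (orbit ↥K (frameVec none)).ncard = 2 + 23 * t := by
  have hsub : ({frameVec none, -frameVec none} : Set leechLattice) ⊆ orbit ↥K (frameVec none) := by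
    rintro y (rfl | rfl)
    · exact mem_orbit_self _
    · exact ⟨⟨⟨negPerm, negPerm_mem⟩, hHK ((hH _).mpr (negPerm_stab H hH K hHK))⟩, rfl⟩
  have hfin : (orbit ↥K (frameVec none)).Finite := Set.finite_range _
  have hne : frameVec none ≠ -frameVec none := by
    intro h
    have := congrArg (fun v : leechLattice => v.1 none) h
    simp [frameVec_val] at this
  have hsum := Set.ncard_sdiff_add_ncard_of_subset hsub hfin
  rw [Set.ncard_pair hne] at hsum
  have hdvd : 23 ∣ (orbit ↥K (frameVec none) \ {frameVec none, -frameVec none}).ncard := by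
    apply CrossGen.dvd_ncard_of_orbits (E := ↥(Subgroup.zpowers g23X)) 23 _ _
      (hfin.subset Set.sdiff_subset) rfl
    · rintro p y ⟨hyQ, hyn⟩
      have hpK : p.1 ∈ K := hHK ((Subgroup.zpowers_le.mpr (g23X_mem_H H hH K hHK)) p.2)
      refine ⟨?_, ?_⟩
      · obtain ⟨k, rfl⟩ := hyQ
        exact ⟨⟨p.1, hpK⟩ * k, rfl⟩
      · intro hmem
        apply hyn
        rcases hmem with h | h
        · left
          have h' : p.1.1 y = p.1.1 (frameVec none) := by rw [zpowers_g23X_fix]; exact h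
          exact p.1.1.injective h'
        · right
          have h' : p.1.1 y = p.1.1 (-frameVec none) := by
            rw [co0_map_neg _ p.1.2, zpowers_g23X_fix]; exact h
          exact p.1.1.injective h'
    · rintro y ⟨hyQ, hyn⟩
      rw [← index_stabilizer]
      have hdvd : (stabilizer ↥(Subgroup.zpowers g23X) y).index ∣ 23 := by
        rw [← card_zpowers_g23X]
        exact Subgroup.index_dvd_card _
      rcases (Nat.Prime.eq_one_or_self_of_dvd (by norm_num) _ hdvd) with h1 | h23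
      · exfalso
        rw [Subgroup.index_eq_one] at h1
        have hmem : (⟨g23X, Subgroup.mem_zpowers g23X⟩ : ↥(Subgroup.zpowers g23X)) ∈
            stabilizer ↥(Subgroup.zpowers g23X) y := by rw [h1]; trivial
        have hfix : g23 y = y := hmem
        have hn64 : sqNorm y.1 = 64 := by
          obtain ⟨k, rfl⟩ := hyQ
          show sqNorm (k.1.1 (frameVec none)).1 = 64
          rw [k.1.2.2, sqNorm_frameVec]
        rcases g23_fix64 y hn64 hfix with h | h
        · exact hyn (Or.inl h)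
        · exact hyn (Or.inr h)
      · rw [h23]
  obtain ⟨t, ht⟩ := hdvd
  exact ⟨t, by omega⟩

theorem card_K_orbit :
    Nat.card K = (orbit ↥K (frameVec none)).ncard * (10200960 * 2048) := by
  have h := CrossGen.card_fiber_set (K := ↥K) (frameVec none) (Set.univ : Set leechLattice)
  rw [Set.univ_inter, card_stab_K H hH K hHK] at h
  rw [← h]
  exact (Nat.card_congr (Equiv.subtypeUnivEquiv (fun k => Set.mem_univ _))).symm

theorem card_K_split : ∃ m j : ℕ, (m = 0 ∨ m = 170016) ∧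
    Nat.card K = 4096 * 244823040 + m * (10200960 * 2048) + (16 * j) * (4096 * 244823040) := by
  have h3 := CrossGen.card_three (α := ↥K) (fun k => k.1 ∈ H)
    (fun k => k • frameVec none ∈ sextSet) (fun k => BadElt k.1) ?_
  · rw [card_in_H H hH K hHK, card_H H hH K hHK,
      CrossGen.card_fiber_set (K := ↥K) (frameVec none) sextSet, card_stab_K H hH K hHK,
      card_bad H hH K hHK, card_H H hH K hHK] at h3
    obtain ⟨j, hj⟩ := badCosets_dvd H hH K hHK
    by_cases hex : ∃ k : ↥K, IsSext (k.1.1 (frameVec none)).1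
    · refine ⟨170016, j, Or.inr rfl, ?_⟩
      rw [h3, sext_inter H hH K hHK hex, sextSet_ncard, hj]
    · refine ⟨0, j, Or.inl rfl, ?_⟩
      have hemp : sextSet ∩ orbit ↥K (frameVec none) = ∅ := by
        ext y
        simp only [Set.mem_inter_iff, Set.mem_empty_iff_false, iff_false]
        rintro ⟨hy, k, rfl⟩
        exact hex ⟨k, hy.2⟩
      rw [h3, hemp, Set.ncard_empty, hj]
  · intro k
    by_cases h1 : k.1 ∈ H
    · left
      have := (mem_H_iff_frame H hH k.1).mp h1
      exact ⟨h1, fun h2 => not_isSext_of_stdCross this h2.2, fun h3 => h3.1 this⟩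
    · have h1' : (k.1.1 (frameVec none)).1 ∉ stdCross :=
        fun h => h1 ((mem_H_iff_frame H hH k.1).mpr h)
      by_cases h2 : IsSext (k.1.1 (frameVec none)).1
      · right; left
        exact ⟨h1, ⟨by show sqNorm (k.1.1 (frameVec none)).1 = 64; rw [k.1.2.2, sqNorm_frameVec], h2⟩,
          fun h3 => h3.2 h2⟩
      · right; right
        exact ⟨h1, fun h => h2 h.2, ⟨h1', h2⟩⟩

end

theorem arith_combine (cK k' m j t : ℕ) (hm : m = 0 ∨ m = 170016)
    (hA : cK = 4096 * 244823040 * k')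
    (hB : cK = 4096 * 244823040 + m * (10200960 * 2048) + (16 * j) * (4096 * 244823040))
    (hC : cK = (2 + 23 * t) * (10200960 * 2048)) :
    k' % 23 = 1 ∧ (k' % 16 = 1 ∨ k' % 16 = 7) := by
  have hs : (0 : ℕ) < 10200960 * 2048 := by norm_num
  have e48 : (4096 * 244823040 : ℕ) = 48 * (10200960 * 2048) := by norm_num
  have h0 : 48 * k' * (10200960 * 2048) = cK := by
    rw [hA, e48]
    ring
  have h1 : 48 * k' = 48 + m + 768 * j := by
    apply Nat.eq_of_mul_eq_mul_right hs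
    rw [h0, hB, e48]
    ring
  have h2 : 48 * k' = 2 + 23 * t := by
    apply Nat.eq_of_mul_eq_mul_right hs
    rw [h0, hC]
  clear hA hB hC h0 e48 hs
  rcases hm with rfl | rfl <;> omega

theorem cross_max_top (H : Subgroup ↥Co0) (hH : ∀ g : ↥Co0, g ∈ H ↔ StabCross g.1)
    (K : Subgroup ↥Co0) (hlt : H < K) : K = ⊤ := by
  have hHK := hlt.le
  obtain ⟨m, j, hm, hsplit⟩ := card_K_split H hH K hHK
  obtain ⟨t, ht⟩ := orbit_mod23 H hH K hHK
  have horb := card_K_orbit H hH K hHK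
  rw [ht] at horb
  obtain ⟨k', hk'⟩ := Subgroup.card_dvd_of_le hHK
  rw [card_H H hH K hHK] at hk'
  have hdvd : Nat.card K ∣ Nat.card ↥Co0 := Subgroup.card_subgroup_dvd_card K
  rw [card_Co0] at hdvd
  have hk'dvd : k' ∣ 8292375 := by
    rw [hk'] at hdvd
    have e : (8315553613086720000 : ℕ) = 4096 * 244823040 * 8292375 := by norm_num
    rw [e] at hdvd
    exact Nat.dvd_of_mul_dvd_mul_left (by norm_num) hdvd
  obtain ⟨h23, h16⟩ := arith_combine _ k' m j t hm hk' hsplit horb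
  rcases CrossGen.arith_final k' hk'dvd h23 h16 with h1 | h1
  · exfalso
    rw [h1, mul_one] at hk'
    have : H = K := Subgroup.eq_of_le_of_card_ge hHK (by rw [card_H H hH K hHK, hk'])
    exact lt_irrefl _ (this ▸ hlt)
  · apply Subgroup.eq_top_of_card_eq
    rw [hk', h1, card_Co0]

/-- The stabiliser of the standard cross is a maximal subgroup. -/
theorem cross_max (H : Subgroup ↥Co0) (hH : ∀ g : ↥Co0, g ∈ H ↔ StabCross g.1) : IsCoatom H := by
  refine ⟨?_, fun K hlt => cross_max_top H hH K hlt⟩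
  intro h
  have := card_H H hH H le_rfl
  rw [h, Subgroup.card_top, card_Co0] at this
  norm_num at this

end Cfsg.Agent.Helper7
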