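import Cfsg.Agent.Lib.Helper7.CrossGeo2

/-!
# The monomial group is transitive on the vectors of shape `(±4⁴)`
-/

set_option autoImplicit false

namespace Cfsg.Agent.Helper7
open Cfsg Cfsg.Agent.Helper91 Cfsg.Agent.Helper92
open scoped Pointwise

/-- the standard vector `(4, 4, 4, 4, 0, …)` on the points `0, 1, 2, 3` -/
def sextStd : GolayPt → ℤ := fun i => if idx i < 4 then 4 else 0

/-- every sign pattern on the points `0, 1, 2, 3` is cut out by a code word -/
theorem sign_code : ∀ f : Fin 4 → Bool, ∃ m ∈ codeList, ∀ j : Fin 4, m.testBit j.val = f j := by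
  decide +kernel

theorem sext_support_card (y : GolayPt → ℤ) (hn : sqNorm y = 64) (hs : IsSext y) :
    (Finset.univ.filter fun i => y i ≠ 0).card = 4 := by
  have h1 : ∀ i, y i ^ 2 = if y i ≠ 0 then 16 else 0 := by
    intro i
    rcases hs i with h | h | h <;> rw [h] <;> norm_num
  unfold sqNorm at hn
  rw [Finset.sum_congr rfl (fun i _ => h1 i), Finset.sum_ite, Finset.sum_const, Finset.sum_const_zero,
    add_zero, nsmul_eq_mul] at hn
  have : ((Finset.univ.filter fun i => y i ≠ 0).card : ℤ) = 4 := by linarith
  exact_mod_cast this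

theorem sext_to_std (y : leechLattice) (hn : sqNorm y.1 = 64) (hs : IsSext y.1) :
    ∃ (σ : Equiv.Perm GolayPt) (c : Finset GolayPt) (hσ : σ ∈ M24) (hc : c ∈ Code),
      (monoPerm σ c hσ hc y).1 = sextStd := by
  classical
  set S := Finset.univ.filter fun i => y.1 i ≠ 0 with hS
  have hcard : S.card = 4 := sext_support_card y.1 hn hs
  have hys : ([0, 1, 2, 3].map pt).Nodup := by decide
  obtain ⟨σ, hσ, hmap⟩ := m24_five_trans S.toList ([0, 1, 2, 3].map pt) S.nodup_toList hys
    (by rw [Finset.length_toList, hcard]; rfl) (by rw [Finset.length_toList, hcard]; norm_num)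
  have hiff : ∀ i, i ∈ S ↔ idx (σ i) < 4 := by
    intro i
    constructor
    · intro hi
      have h1 : σ i ∈ S.toList.map σ := List.mem_map.mpr ⟨i, Finset.mem_toList.mpr hi, rfl⟩
      rw [hmap, List.mem_map] at h1
      obtain ⟨j, hj, hji⟩ := h1
      rw [← hji]
      have hj4 : j < 4 := by
        simp only [List.mem_cons, List.not_mem_nil, or_false] at hj
        omega
      rw [idx_pt j (by omega)]
      exact hj4
    · intro hi
      have h1 : σ i ∈ [0, 1, 2, 3].map pt := by
        rw [List.mem_map]
        refine ⟨idx (σ i), ?_, pt_idx _⟩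
        simp only [List.mem_cons, List.not_mem_nil, or_false]
        omega
      rw [← hmap, List.mem_map] at h1
      obtain ⟨i', hi', hii⟩ := h1
      have := σ.injective hii
      rw [← this]
      exact Finset.mem_toList.mp hi'
  obtain ⟨m, hm, hbits⟩ := sign_code (fun j => decide (y.1 (σ.symm (pt j.val)) = -4))
  have hc : ofMask m ∈ Code := (mem_supports_iff_codeList _).mpr ⟨m, hm, rfl⟩
  refine ⟨σ, ofMask m, hσ, hc, ?_⟩
  funext i
  rw [monoPerm_val, signedPerm_apply]
  unfold sextStd
  by_cases hi : idx i < 4
  · rw [if_pos hi]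
    have hmem : σ.symm i ∈ S := by
      rw [hiff, σ.apply_symm_apply]
      exact hi
    have hne : y.1 (σ.symm i) ≠ 0 := by
      rw [hS, Finset.mem_filter] at hmem
      exact hmem.2
    have hb := hbits ⟨idx i, hi⟩
    simp only [pt_idx] at hb
    by_cases h4 : y.1 (σ.symm i) = -4
    · have : i ∈ ofMask m := by
        rw [mem_ofMask, hb]
        simpa using h4
      rw [if_pos this, h4]
      norm_num
    · have : i ∉ ofMask m := by
        rw [mem_ofMask, hb]
        simpa using h4
      rw [if_neg this]
      rcases hs (σ.symm i) with h | h | h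
      · exact absurd h hne
      · exact h
      · exact absurd h h4
  · rw [if_neg hi]
    have hmem : σ.symm i ∉ S := by
      rw [hiff, σ.apply_symm_apply]
      exact hi
    have h0 : y.1 (σ.symm i) = 0 := by
      rw [hS, Finset.mem_filter] at hmem
      simp only [Finset.mem_univ, true_and, not_not] at hmem
      exact hmem
    rw [h0]
    simp

end Cfsg.Agent.Helper7
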