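import Cfsg.Agent.Lib.Helper7.CrossSext
import Cfsg.Agent.Lib.Helper7.CrossGen

/-!
# The group of sign changes and its action on the cosets of the cross stabiliser
-/

set_option autoImplicit false

namespace Cfsg.Agent.Helper7
open Cfsg Cfsg.Agent.Helper91 Cfsg.Agent.Helper92
open scoped Pointwise

theorem neg_frameVec_mem_stdCross (i : GolayPt) : ((-frameVec i : leechLattice) : GolayPt → ℤ) ∈ stdCross :=
  ⟨i, -8, Or.inr rfl, by rw [AddSubgroup.coe_neg, frameVec_val, Pi.single_neg]⟩

/-- the group of sign changes on code words -/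
def signGroup : Subgroup ↥Co0 where
  carrier := {g | ∀ i, g.1 (frameVec i) = frameVec i ∨ g.1 (frameVec i) = -frameVec i}
  one_mem' := fun _ => Or.inl rfl
  mul_mem' := by
    intro g h hg hh i
    show g.1 (h.1 (frameVec i)) = _ ∨ g.1 (h.1 (frameVec i)) = _
    rcases hh i with h1 | h1
    · rw [h1]; exact hg i
    · rw [h1, co0_map_neg g.1 g.2]
      rcases hg i with h2 | h2
      · right; rw [h2]
      · left; rw [h2, neg_neg]
  inv_mem' := by
    intro g hg i
    show (g.1)⁻¹ (frameVec i) = _ ∨ (g.1)⁻¹ (frameVec i) = _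
    rcases hg i with h1 | h1
    · left
      rw [Equiv.Perm.inv_eq_iff_eq]
      exact h1.symm
    · right
      rw [Equiv.Perm.inv_eq_iff_eq, co0_map_neg g.1 g.2, h1, neg_neg]

theorem mem_signGroup (g : ↥Co0) :
    g ∈ signGroup ↔ ∀ i, g.1 (frameVec i) = frameVec i ∨ g.1 (frameVec i) = -frameVec i := Iff.rfl

theorem signGroup_stab (g : ↥Co0) (hg : g ∈ signGroup) : StabCross g.1 := by
  apply stabCross_of_mem g.1 g.2
  rcases hg none with h | h
  · rw [h]; exact frameVec_mem_stdCross none
  · rw [h]; exact neg_frameVec_mem_stdCross none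

/-- the elements of the sign group are the sign changes on code words -/
theorem signGroup_form (g : ↥Co0) (hg : g ∈ signGroup) :
    ∃ (c : Finset GolayPt) (hc : c ∈ Code), g.1 = monoPerm 1 c M24.one_mem hc := by
  obtain ⟨σ, c, hσ, hc, heq⟩ := stab_is_mono g.1 g.2 (signGroup_stab g hg)
  have hσ1 : σ = 1 := by
    apply Equiv.ext
    intro i
    show σ i = i
    have h1 := monoPerm_frame σ c hσ hc i
    rw [← heq] at h1
    rcases hg i with h | h
    · rw [h, frameVec_val] at h1
      exact (single_injective_of_ne (by norm_num) h1).1.symm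
    · rw [h, AddSubgroup.coe_neg, frameVec_val, ← Pi.single_neg] at h1
      exact (single_injective_of_ne (by norm_num) h1).1.symm
  subst hσ1
  exact ⟨c, hc, heq⟩

theorem monoPerm_one_mem_signGroup (c : Finset GolayPt) (hc : c ∈ Code) :
    (⟨monoPerm 1 c M24.one_mem hc, monoPerm_mem _ _ _ _⟩ : ↥Co0) ∈ signGroup := by
  intro i
  show monoPerm 1 c M24.one_mem hc (frameVec i) = _ ∨ monoPerm 1 c M24.one_mem hc (frameVec i) = _
  rw [monoPerm_one_frame]
  by_cases h : i ∈ c
  · right; rw [if_pos h]
  · left; rw [if_neg h]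

theorem card_signGroup : Nat.card signGroup = 4096 := by
  let Φ : ↥(Code : Set (Finset GolayPt)) → ↥signGroup :=
    fun c => ⟨⟨monoPerm 1 c.1 M24.one_mem c.2, monoPerm_mem _ _ _ _⟩,
      monoPerm_one_mem_signGroup c.1 c.2⟩
  have hbij : Function.Bijective Φ := by
    constructor
    · rintro ⟨c, hc⟩ ⟨c', hc'⟩ h
      have h1 : monoPerm 1 c M24.one_mem hc = monoPerm 1 c' M24.one_mem hc' :=
        congrArg (fun t : ↥signGroup => (t.1.1 : Equiv.Perm leechLattice)) h
      obtain ⟨-, rfl⟩ := monoPerm_inj 1 1 c c' _ _ hc hc' h1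
      rfl
    · rintro ⟨g, hg⟩
      obtain ⟨c, hc, heq⟩ := signGroup_form g hg
      refine ⟨⟨c, hc⟩, ?_⟩
      apply Subtype.ext
      apply Subtype.ext
      exact heq.symm
  rw [← Nat.card_congr (Equiv.ofBijective Φ hbij), card_Code]

theorem monoPerm_one_apply (c : Finset GolayPt) (hc : c ∈ Code) (y : leechLattice) (i : GolayPt) :
    (monoPerm 1 c M24.one_mem hc y).1 i = if i ∈ c then -y.1 i else y.1 i := by
  rw [monoPerm_val, signedPerm_apply]
  rfl

/-- a sign change keeping the class of `y` modulo twice the lattice restricts `y` into the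
lattice -/
theorem restr_mem_of_cong (c : Finset GolayPt) (hc : c ∈ Code) (y z : leechLattice)
    (h : monoPerm 1 c M24.one_mem hc y = y + (z + z)) : restr y.1 c ∈ leechLattice := by
  have hrz : restr y.1 c = (-z).1 := by
    funext i
    have := congrArg (fun v : leechLattice => v.1 i) h
    simp only [monoPerm_one_apply, AddSubgroup.coe_add, Pi.add_apply] at this
    rw [AddSubgroup.coe_neg, Pi.neg_apply]
    unfold restr
    by_cases hi : i ∈ c
    · rw [if_pos hi] at this ⊢
      omega
    · rw [if_neg hi] at this ⊢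
      omega
  rw [hrz]
  exact (-z).2

end Cfsg.Agent.Helper7
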