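import Cfsg.Agent.Lib.Helper7.Census32
import Cfsg.Agent.Lib.Helper7.Co0Trans48
import Cfsg.Agent.Lib.Helper7.LeechMod2Count

/-!
# Counting lattice vectors by norm and inner product with a fixed vector: double counting
-/

set_option autoImplicit false

namespace Cfsg.Agent.Helper7
open Cfsg Cfsg.Agent.Helper91

/-- the count for the base minimal vector, for any norm -/
theorem pair_count_base (n : ℕ) (hn : n < 65) (d : ℤ) :
    {w : GolayPt → ℤ | w ∈ leechLattice ∧ sqNorm w = n ∧ dotInt b32a.1 w = 4 * d}.ncard =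
      ∑ k ∈ Finset.range 17, leechNumAt 16777191 kc34
        [(pt 3, (k : ℤ) - 8), (pt 4, d - ((k : ℤ) - 8))] n := by
  have h := ncard_pair_sum (pt 3) (pt 4) (by decide) 16777191 rm34 keys34 (by decide) cover34 d n hn
  have e : keyCountsN keys34 [idx (pt 3), idx (pt 4)] 16777191 = kc34 := keyCounts_34
  rw [e] at h
  rw [← h]
  congr 1
  ext w
  simp only [Set.mem_ofPred_eq, dotInt_b32a]
  constructor
  · rintro ⟨h1, h2, h3⟩
    exact ⟨h1, h2, by omega⟩
  · rintro ⟨h1, h2, h3⟩
    exact ⟨h1, h2, by omega⟩

open Classical in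
/-- the lattice vectors of norm `m` having inner product `D` with `v` -/
noncomputable def dotSet (m : ℕ) (hm : m < 65) (v : leechLattice) (D : ℤ) : Finset ↥leechLattice :=
  (shortSet m hm).filter (fun x => dotInt v.1 x.1 = D)

theorem mem_dotSet (m : ℕ) (hm : m < 65) (v : leechLattice) (D : ℤ) (x : leechLattice) :
    x ∈ dotSet m hm v D ↔ sqNorm x.1 = m ∧ dotInt v.1 x.1 = D := by
  unfold dotSet
  rw [Finset.mem_filter, mem_shortSet]

theorem card_dotSet (m : ℕ) (hm : m < 65) (v : leechLattice) (D : ℤ) :
    (dotSet m hm v D).card =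
      {w : GolayPt → ℤ | w ∈ leechLattice ∧ sqNorm w = m ∧ dotInt v.1 w = D}.ncard := by
  rw [← Set.ncard_coe_finset]
  apply Set.ncard_congr (fun (x : leechLattice) _ => x.1)
  · intro x hx
    rw [Finset.mem_coe, mem_dotSet] at hx
    exact ⟨x.2, hx.1, hx.2⟩
  · intro a b _ _ hab
    exact Subtype.ext hab
  · intro w hw
    exact ⟨⟨w, hw.1⟩, by rw [Finset.mem_coe, mem_dotSet]; exact ⟨hw.2.1, hw.2.2⟩, rfl⟩

theorem card_dotSet_orbit (m : ℕ) (hm : m < 65) (v v' : leechLattice) (h : Orb v v') (D : ℤ) :
    (dotSet m hm v' D).card = (dotSet m hm v D).card := by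
  rw [card_dotSet, card_dotSet]
  exact ncard_dot_orbit v v' h m D

open Classical in
theorem double_count (n m : ℕ) (hn : n < 65) (hm : m < 65) (D : ℤ) :
    ∑ u ∈ shortSet n hn, (dotSet m hm u D).card = ∑ x ∈ shortSet m hm, (dotSet n hn x D).card := by
  have h1 : ∀ u : leechLattice, (dotSet m hm u D).card =
      ∑ x ∈ shortSet m hm, if dotInt u.1 x.1 = D then 1 else 0 := by
    intro u
    unfold dotSet
    rw [Finset.card_filter]
  have h2 : ∀ x : leechLattice, (dotSet n hn x D).card =
      ∑ u ∈ shortSet n hn, if dotInt u.1 x.1 = D then 1 else 0 := by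
    intro x
    unfold dotSet
    rw [Finset.card_filter]
    apply Finset.sum_congr rfl
    intro u _
    rw [dotInt_comm]
  simp only [h1, h2]
  exact Finset.sum_comm

/-- the number of minimal vectors having inner product `-16` with a vector of norm 48 -/
theorem card_dotSet_48_32 (u : leechLattice) (hu : sqNorm u.1 = 48) :
    (dotSet 32 (by norm_num) u (-16)).card = 11178 := by
  have h := double_count 48 32 (by norm_num) (by norm_num) (-16)
  have hL : ∀ u' ∈ shortSet 48 (by norm_num),
      (dotSet 32 (by norm_num) u' (-16)).card = (dotSet 32 (by norm_num) u (-16)).card := by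
    intro u' hu'
    rw [mem_shortSet] at hu'
    exact card_dotSet_orbit 32 _ u u' (co0_trans48 u u' hu (by exact_mod_cast hu')) (-16)
  have hR : ∀ x ∈ shortSet 32 (by norm_num),
      (dotSet 48 (by norm_num) x (-16)).card = 953856 := by
    intro x hx
    rw [mem_shortSet] at hx
    rw [card_dotSet_orbit 48 _ b32a x (co0_trans32 b32a x sqNorm_b32a (by exact_mod_cast hx)),
      card_dotSet]
    have := pair_count_base 48 (by norm_num) (-4)
    rw [show (4 : ℤ) * -4 = -16 by norm_num] at this
    rw [this]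
    decide +kernel
  rw [Finset.sum_congr rfl hL, Finset.sum_congr rfl hR, Finset.sum_const, Finset.sum_const,
    card_shortSet, card_shortSet, leechNum_48, leechNum_32, smul_eq_mul, smul_eq_mul] at h
  omega

end Cfsg.Agent.Helper7
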