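import Cfsg.Agent.Lib.Helper7.PermMask

set_option autoImplicit false

namespace Cfsg.Agent.Helper7
open Cfsg
open scoped Pointwise

/-! Kernel-friendly versions of the bitmask primitives. -/

/-- Number of set bits among the bits `0, …, k-1`. -/
def cntUpTo (n : ℕ) : ℕ → ℕ
  | 0 => 0
  | k + 1 => cntUpTo n k + (if n.testBit k then 1 else 0)

/-- Number of set bits among the low 24 bits. -/
def popc (n : ℕ) : ℕ := cntUpTo n 24

theorem cntUpTo_eq_sum (n k : ℕ) :
    cntUpTo n k = ∑ i ∈ Finset.range k, if n.testBit i then 1 else 0 := by
  induction k with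
  | zero => rfl
  | succ k ih => rw [cntUpTo, ih, Finset.sum_range_succ]

theorem card_ofMask (n : ℕ) : (ofMask n).card = popc n := by
  rw [popc, cntUpTo_eq_sum, ofMask, Finset.card_filter]
  refine Finset.sum_nbij' idx pt ?_ ?_ ?_ ?_ ?_
  · intro p _; exact Finset.mem_range.mpr (idx_lt p)
  · intro i _; exact Finset.mem_univ _
  · intro p _; exact pt_idx p
  · intro i hi; exact idx_pt i (Finset.mem_range.mp hi)
  · intro p _; rfl

/-- Fast bit count by shifting. -/
def cntShift : ℕ → ℕ → ℕ → ℕ
  | 0, _, acc => acc
  | k + 1, n, acc => cntShift k (Nat.shiftRight n 1) (Nat.add acc (Nat.land n 1))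

theorem land_one (n : ℕ) : Nat.land n 1 = if n.testBit 0 then 1 else 0 := by
  have h : Nat.land n 1 = n &&& 1 := rfl
  rw [h, Nat.and_one_is_mod, Nat.testBit_zero]
  rcases Nat.mod_two_eq_zero_or_one n with h | h <;> simp [h]

theorem cntShift_eq (k n acc : ℕ) :
    cntShift k n acc = acc + ∑ i ∈ Finset.range k, if n.testBit i then 1 else 0 := by
  induction k generalizing n acc with
  | zero => simp [cntShift]
  | succ k ih =>
    rw [cntShift, ih, Finset.sum_range_succ', land_one]
    have h : Nat.shiftRight n 1 = n >>> 1 := rfl
    simp only [h, Nat.testBit_shiftRight, Nat.add_eq]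
    have : ∀ i, 1 + i = i + 1 := fun i => by omega
    simp only [this]
    omega

/-- Fast version of `popc`. -/
def popcF (n : ℕ) : ℕ := cntShift 24 n 0

theorem popcF_eq (n : ℕ) : popcF n = popc n := by
  rw [popcF, cntShift_eq, popc, cntUpTo_eq_sum, Nat.zero_add]

theorem card_ofMask' (n : ℕ) : (ofMask n).card = popcF n := by
  rw [card_ofMask, popcF_eq]

/-- Fast image of a bitmask under a tabulated map: walks along the table. -/
def pmAux : List ℕ → ℕ → ℕ → ℕ
  | [], _, acc => acc
  | li :: ls, m, acc =>
    pmAux ls (Nat.shiftRight m 1) (bif Nat.beq (Nat.land m 1) 1 then Nat.lor acc (Nat.shiftLeft 1 li) else acc)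

theorem testBit_pmAux (l : List ℕ) (m acc j : ℕ) :
    (pmAux l m acc).testBit j = true ↔
      acc.testBit j = true ∨ ∃ i < l.length, m.testBit i = true ∧ l.getD i 0 = j := by
  induction l generalizing m acc with
  | nil => simp [pmAux]
  | cons li ls ih =>
    rw [pmAux, ih]
    have hs : Nat.shiftRight m 1 = m >>> 1 := rfl
    have h1 : Nat.beq (Nat.land m 1) 1 = m.testBit 0 := by
      rw [land_one]
      cases m.testBit 0 <;> rfl
    have h2 : ∀ a, Nat.shiftLeft 1 a = 2 ^ a := fun a => by
      show 1 <<< a = 2 ^ a
      rw [Nat.shiftLeft_eq, one_mul]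
    have h3 : ∀ a b, Nat.lor a b = a ||| b := fun _ _ => rfl
    rw [h1, hs, h2]
    constructor
    · rintro (h | ⟨i, hi, hm, hl⟩)
      · cases hb : m.testBit 0
        · rw [hb] at h
          exact Or.inl h
        · rw [hb, cond_true, h3, Nat.testBit_lor, Bool.or_eq_true, Nat.testBit_two_pow] at h
          rcases h with h | h
          · exact Or.inl h
          · exact Or.inr ⟨0, by simp, hb, by simpa using h⟩
      · rw [Nat.testBit_shiftRight] at hm
        refine Or.inr ⟨i + 1, by simpa using hi, ?_, ?_⟩
        · rwa [Nat.add_comm] at hm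
        · simpa using hl
    · rintro (h | ⟨i, hi, hm, hl⟩)
      · left
        cases hb : m.testBit 0
        · exact h
        · rw [cond_true, h3, Nat.testBit_lor, h]
          rfl
      · cases i with
        | zero =>
          left
          rw [hm, cond_true, h3, Nat.testBit_lor, Nat.testBit_two_pow]
          simp only [List.getD_cons_zero] at hl
          simp [hl]
        | succ i =>
          right
          refine ⟨i, by simpa using hi, ?_, by simpa using hl⟩
          rw [Nat.testBit_shiftRight, Nat.add_comm]
          exact hm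

/-- Fast version of `permMask` (for tables of length 24). -/
def pm (l : List ℕ) (m : ℕ) : ℕ := pmAux l m 0

theorem pm_eq (l : List ℕ) (hl : l.length = 24) (m : ℕ) : pm l m = permMask l m := by
  apply Nat.eq_of_testBit_eq
  intro j
  have h1 := testBit_pmAux l m 0 j
  have h2 := testBit_permMask l m j
  rw [hl] at h1
  simp only [Nat.zero_testBit, Bool.false_eq_true, false_or] at h1
  rw [← pm] at h1
  have h3 : (pm l m).testBit j = true ↔ (permMask l m).testBit j = true := h1.trans h2.symm
  cases ha : (pm l m).testBit j <;> cases hb : (permMask l m).testBit j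
  · rfl
  · rw [ha, hb] at h3; exact absurd (h3.mpr rfl) (by simp)
  · rw [ha, hb] at h3; exact absurd (h3.mp rfl) (by simp)
  · rfl

/-- Doubling step for the enumeration of a binary span. -/
def dbl (l : List ℕ) (b : ℕ) : List ℕ := l ++ l.map (Nat.xor b)

/-- All 4096 code words as bitmasks. -/
def codeList : List ℕ := bL.foldl dbl [0]

theorem xorUpTo_mem (a k : ℕ) (hk : k ≤ 12) :
    xorUpTo (fun i => if a.testBit i then bm i else 0) k ∈ (bL.take k).foldl dbl [0] := by
  induction k with
  | zero => simp [xorUpTo]
  | succ k ih =>
    have hlen : bL.length = 12 := rfl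
    have hk' : k < bL.length := by omega
    rw [List.take_succ_eq_append_getElem hk', List.foldl_append, List.foldl_cons, List.foldl_nil,
      xorUpTo, dbl, List.mem_append]
    have hbm : bL[k] = bm k := by
      rw [bm, List.getD_eq_getElem _ _ hk']
    by_cases hb : a.testBit k = true
    · right
      rw [if_pos hb, List.mem_map]
      refine ⟨_, ih (by omega), ?_⟩
      rw [hbm]
      exact Nat.xor_comm _ _
    · left
      rw [if_neg hb, Nat.xor_zero]
      exact ih (by omega)

theorem encMask_mem_codeList (a : ℕ) : encMask a ∈ codeList := by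
  have := xorUpTo_mem a 12 le_rfl
  rwa [show bL.take 12 = bL from rfl] at this

/-- Enumeration principle over the code by a Boolean check on the list of all code words. -/
theorem forall_code' (P : Finset GolayPt → Prop) (f : ℕ → Bool)
    (hf : ∀ m, f m = true → P (ofMask m)) (h : codeList.all f = true) :
    ∀ b ∈ supports (golayCode : Set W), P b := by
  apply forall_code
  intro a _
  exact hf _ (List.all_eq_true.mp h _ (encMask_mem_codeList a))

end Cfsg.Agent.Helper7
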