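import Mathlib

/-!
# A family of integer vectors closed under negation and otherwise pairwise orthogonal
has at most twice as many members as there are coordinates.
-/

set_option autoImplicit false

namespace Cfsg.Agent.Helper7

open Matrix

theorem frame_coord_bound {ι : Type*} [Fintype ι] [DecidableEq ι] (F : Finset (ι → ℤ)) (c : ℤ)
    (hc : 0 < c) (hnorm : ∀ y ∈ F, y ⬝ᵥ y = c) (hneg : ∀ y ∈ F, -y ∈ F)
    (horth : ∀ y ∈ F, ∀ y' ∈ F, y' ≠ y → y' ≠ -y → y ⬝ᵥ y' = 0) (j : ι) :
    ∑ y ∈ F, (y j) ^ 2 ≤ 2 * c := by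
  set e : ι → ℤ := Pi.single j 1 with he
  set S : ι → ℤ := ∑ y ∈ F, (y j) • y with hS
  set T : ℤ := ∑ y ∈ F, (y j) ^ 2 with hT
  have hey : ∀ y : ι → ℤ, e ⬝ᵥ y = y j := by
    intro y
    rw [he, single_dotProduct, one_mul]
  have hee : e ⬝ᵥ e = 1 := by rw [hey, he, Pi.single_eq_same]
  have heS : e ⬝ᵥ S = T := by
    rw [hS, dotProduct_sum]
    apply Finset.sum_congr rfl
    intro y _
    rw [dotProduct_smul, hey, smul_eq_mul, sq]
  have hyS : ∀ y ∈ F, y ⬝ᵥ S = 2 * c * y j := by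
    intro y hy
    rw [hS, dotProduct_sum]
    have hy0 : y ≠ -y := by
      intro h
      have h2 : y = 0 := by
        funext i
        have := congrFun h i
        simp only [Pi.neg_apply, Pi.zero_apply] at this ⊢
        omega
      have := hnorm y hy
      rw [h2, zero_dotProduct] at this
      omega
    have hsub : ({y, -y} : Finset (ι → ℤ)) ⊆ F := by
      intro z hz
      rw [Finset.mem_insert, Finset.mem_singleton] at hz
      rcases hz with rfl | rfl
      · exact hy
      · exact hneg _ hy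
    rw [← Finset.sum_subset hsub]
    · rw [Finset.sum_pair hy0]
      simp only [dotProduct_smul, Pi.neg_apply, smul_eq_mul, dotProduct_neg, hnorm y hy]
      ring
    · intro z hz hz'
      rw [Finset.mem_insert, Finset.mem_singleton, not_or] at hz'
      rw [dotProduct_smul, horth y hy z hz hz'.1 hz'.2, smul_zero]
  have hSS : S ⬝ᵥ S = 2 * c * T := by
    conv_lhs => rw [hS]
    rw [sum_dotProduct, hT, Finset.mul_sum]
    apply Finset.sum_congr rfl
    intro y hy
    rw [smul_dotProduct, hyS y hy, smul_eq_mul]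
    ring
  have hw : 0 ≤ ((2 * c) • e - S) ⬝ᵥ ((2 * c) • e - S) := by
    unfold dotProduct
    exact Finset.sum_nonneg (fun i _ => mul_self_nonneg _)
  rw [sub_dotProduct, dotProduct_sub, dotProduct_sub, smul_dotProduct, smul_dotProduct,
    dotProduct_smul, dotProduct_smul, hee, heS, dotProduct_comm S e, heS, hSS] at hw
  simp only [smul_eq_mul] at hw
  nlinarith

theorem frame_card_le {ι : Type*} [Fintype ι] [DecidableEq ι] (F : Finset (ι → ℤ)) (c : ℤ)
    (hc : 0 < c) (hnorm : ∀ y ∈ F, y ⬝ᵥ y = c) (hneg : ∀ y ∈ F, -y ∈ F)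
    (horth : ∀ y ∈ F, ∀ y' ∈ F, y' ≠ y → y' ≠ -y → y ⬝ᵥ y' = 0) :
    F.card ≤ 2 * Fintype.card ι := by
  have h1 : c * (F.card : ℤ) = ∑ y ∈ F, ∑ j, (y j) ^ 2 := by
    rw [mul_comm, ← nsmul_eq_mul, ← Finset.sum_const]
    apply Finset.sum_congr rfl
    intro y hy
    rw [← hnorm y hy]
    unfold dotProduct
    apply Finset.sum_congr rfl
    intro j _
    ring
  rw [Finset.sum_comm] at h1
  have h2 : ∑ j : ι, ∑ y ∈ F, (y j) ^ 2 ≤ ∑ _j : ι, 2 * c :=
    Finset.sum_le_sum (fun j _ => frame_coord_bound F c hc hnorm hneg horth j)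
  rw [Finset.sum_const, Finset.card_univ, nsmul_eq_mul] at h2
  have h3 : c * (F.card : ℤ) ≤ c * (2 * (Fintype.card ι : ℤ)) := by
    rw [h1]; linarith
  have h4 := le_of_mul_le_mul_left h3 hc
  exact_mod_cast h4

end Cfsg.Agent.Helper7
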