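import Cfsg.Agent.Lib.Helper7.HS40
import Cfsg.Agent.Lib.Helper7.Pairs48

/-!
# Pairs of vectors of norm 48 with inner product -32
-/

set_option autoImplicit false

namespace Cfsg.Agent.Helper7
open Cfsg Cfsg.Agent.Helper91

theorem co0_zero (g : Equiv.Perm leechLattice) (hg : g ∈ Co0) : g 0 = 0 := by
  have h := hg.1 0 0
  rw [add_zero] at h
  have : g 0 + 0 = g 0 + g 0 := by rw [add_zero]; exact h
  exact (add_left_cancel this).symm

theorem co0_neg (g : Equiv.Perm leechLattice) (hg : g ∈ Co0) (x : leechLattice) :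
    g (-x) = -g x := by
  have h := co0_sub g hg 0 x
  rw [zero_sub, co0_zero g hg, zero_sub] at h
  exact h

theorem dotInt_self (x : GolayPt → ℤ) : dotInt x x = sqNorm x := by
  unfold dotInt sqNorm
  apply Finset.sum_congr rfl
  intro i _; ring

theorem dotInt_add_right (x y z : GolayPt → ℤ) : dotInt x (y + z) = dotInt x y + dotInt x z := by
  rw [dotInt_comm, dotInt_add_left, dotInt_comm y, dotInt_comm z]

theorem dotInt_neg_right (x y : GolayPt → ℤ) : dotInt x (-y) = -dotInt x y := by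
  unfold dotInt
  rw [← Finset.sum_neg_distrib]
  apply Finset.sum_congr rfl
  intro i _
  simp

theorem sqNorm_neg (x : GolayPt → ℤ) : sqNorm (-x) = sqNorm x := by
  unfold sqNorm
  apply Finset.sum_congr rfl
  intro i _
  simp

/-- the third vector of the triangle: minus the sum -/
theorem neg_sum_mem_X40 (v w : leechLattice) (hv : sqNorm v.1 = 48) (hw : sqNorm w.1 = 48)
    (hvw : dotInt v.1 w.1 = -32) : -(v + w) ∈ X40 v := by
  constructor
  · show sqNorm (-(v.1 + w.1)) = 32
    rw [sqNorm_neg, sqNorm_add, hv, hw, hvw]; norm_num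
  · show dotInt v.1 (-(v.1 + w.1)) = -16
    rw [dotInt_neg_right, dotInt_add_right, dotInt_self, hv, hvw]; norm_num

/-- The automorphism group is transitive on ordered pairs of vectors of norm 48 with inner
product `-32`. -/
theorem pair_trans48 (v w v' w' : leechLattice) (hv : sqNorm v.1 = 48) (hw : sqNorm w.1 = 48)
    (hvw : dotInt v.1 w.1 = -32) (hv' : sqNorm v'.1 = 48) (hw' : sqNorm w'.1 = 48)
    (hvw' : dotInt v'.1 w'.1 = -32) :
    ∃ g : Equiv.Perm leechLattice, g ∈ Co0 ∧ g v = v' ∧ g w = w' := by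
  obtain ⟨k0, hk0, hk0v⟩ := co0_trans48 v v' hv hv'
  have hx := neg_sum_mem_X40 v w hv hw hvw
  have hx' := neg_sum_mem_X40 v' w' hv' hw' hvw'
  have hk0x : k0 (-(v + w)) ∈ X40 v' := by
    refine ⟨by rw [hk0.2]; exact hx.1, ?_⟩
    have := co0_dot k0 hk0 v (-(v + w))
    rw [hk0v] at this
    rw [this]
    exact hx.2
  obtain ⟨g, hg, hgv, hgx⟩ := trans40 v' hv' _ _ hk0x hx'
  refine ⟨g * k0, Co0.mul_mem hg hk0, ?_, ?_⟩
  · rw [Equiv.Perm.mul_apply, hk0v, hgv]
  · have hmem : g * k0 ∈ Co0 := Co0.mul_mem hg hk0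
    have h1 : (g * k0) (-(v + w)) = -(v' + w') := by
      rw [Equiv.Perm.mul_apply]; exact hgx
    have h2 : (g * k0) v = v' := by rw [Equiv.Perm.mul_apply, hk0v, hgv]
    rw [co0_neg _ hmem, hmem.1, h2, neg_inj] at h1
    exact add_left_cancel h1

/-- Two vectors of norm 48 with inner product `-32` are exchanged by an automorphism. -/
theorem pair_swap48 (v w : leechLattice) (hv : sqNorm v.1 = 48) (hw : sqNorm w.1 = 48)
    (hvw : dotInt v.1 w.1 = -32) :
    ∃ g : Equiv.Perm leechLattice, g ∈ Co0 ∧ g v = w ∧ g w = v :=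
  pair_trans48 v w w v hv hw hvw hw hv (by rw [dotInt_comm]; exact hvw)

end Cfsg.Agent.Helper7
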