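import Cfsg.Agent.Lib.Helper7.HS100Data
import Cfsg.Agent.Lib.Helper7.HSPairs

/-!
# The Higman-Sims configuration: the 100 minimal vectors attached to two vectors of norm 48
-/

set_option autoImplicit false

namespace Cfsg.Agent.Helper7
open Cfsg Cfsg.Agent.Helper91

/-! ### The base vectors -/

theorem w40L_mem : vecOf w40L ∈ leechLattice := vecOf_mem w40L 0 28637 (by decide +kernel)

/-- the second base vector of norm 48 -/
def w40 : leechLattice := ⟨vecOf w40L, w40L_mem⟩

theorem sqNorm_w40 : sqNorm w40.1 = 48 := by decide +kernel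

theorem dot_u40_w40 : dotInt u40.1 w40.1 = -32 := by decide +kernel

theorem r552L_mem : vecOf r552L ∈ leechLattice := vecOf_mem r552L 1 3719203 (by decide +kernel)

/-- the root of the 552 vectors -/
def r552 : leechLattice := ⟨vecOf r552L, r552L_mem⟩

theorem x100L_mem : vecOf x100L ∈ leechLattice := vecOf_mem x100L 1 3719203 (by decide +kernel)

/-- the root of the 100 vectors -/
def x100 : leechLattice := ⟨vecOf x100L, x100L_mem⟩

/-! ### The generators -/

set_option maxRecDepth 100000 in
theorem goodActsX : ∀ a ∈ acts40x, GoodActN a := by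
  intro a ha
  simp only [acts40x, List.mem_cons, List.not_mem_nil, or_false] at ha
  rcases ha with rfl | rfl | rfl | rfl | rfl | rfl | rfl | rfl | rfl
  · exact (goodActs40 _ (by simp [acts40])).1
  · exact (goodActs40 _ (by simp [acts40])).1
  · exact (goodActs40 _ (by simp [acts40])).1
  · exact (goodActs40 _ (by simp [acts40])).1
  · exact goodActN_of_list (monoL g40_h_li g40_h_c ∘ xiL)
      (goodAct_xi.comp (goodAct_mono g40_h_l g40_h_li g40_h_c (by decide +kernel)
        (by decide +kernel) (by decide +kernel)))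
  · rw [g40_5_f_eq]
    exact goodActN_monoT g40_5_t g40_5_l g40_5_li g40_5_c (by decide +kernel) (by decide +kernel)
      (by decide +kernel) (by decide +kernel)
  · rw [g40_6_f_eq]
    exact goodActN_monoT g40_6_t g40_6_l g40_6_li g40_6_c (by decide +kernel) (by decide +kernel)
      (by decide +kernel) (by decide +kernel)
  · rw [g40_7_f_eq]
    exact goodActN_monoT g40_7_t g40_7_l g40_7_li g40_7_c (by decide +kernel) (by decide +kernel)
      (by decide +kernel) (by decide +kernel)
  · exact goodActN_of_list (xiL ∘ monoL g40_hi_li g40_hi_c)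
      ((goodAct_mono g40_hi_l g40_hi_li g40_hi_c (by decide +kernel)
        (by decide +kernel) (by decide +kernel)).comp goodAct_xi)

/-! ### The 552 vectors -/

/-- the minimal vectors of inner product 24 with the base vector -/
def P552 : Set leechLattice := {x | sqNorm x.1 = 32 ∧ dotInt u40.1 x.1 = 24}

theorem ncard_P552 : P552.ncard = 552 := by
  rw [← pairSet_card u40 sqNorm_u40, ← Set.ncard_coe_finset]
  congr 1
  ext x
  rw [Finset.mem_coe, mem_pairSet]
  show (sqNorm x.1 = 32 ∧ dotInt u40.1 x.1 = 24) ↔ _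
  constructor
  · rintro ⟨h1, h2⟩
    refine ⟨h1, ?_⟩
    rw [sqNorm_sub, sqNorm_u40, h1, h2]; norm_num
  · rintro ⟨h1, h2⟩
    refine ⟨h1, ?_⟩
    rw [sqNorm_sub, sqNorm_u40, h1] at h2
    omega

/-- the codes of the 552 vectors -/
def out552 : List ℕ := dfsN acts40 (codeV r552L) cert552 [] [codeV r552L]

set_option maxRecDepth 1000000 in
theorem len552 : out552.length = 552 := by decide +kernel

set_option maxRecDepth 1000000 in
theorem sort552 : nodupCheck out552 idx552 = true := by decide +kernel

theorem enum552 : ∃ Y : ℕ → leechLattice, EnumOK [u40] r552 P552 out552 Y := by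
  apply orbit_enum (us := [u40]) (ul := [u40L]) _ goodActs40 r552 _ r552L rfl cert552
    P552 552 (by norm_num) ncard_P552 _ _ len552 idx552 sort552
  · exact List.Forall₂.cons ⟨rfl, by rw [sqNorm_u40]; norm_num⟩ List.Forall₂.nil
  · have : sqNorm r552.1 = 32 := by decide +kernel
    rw [this]; norm_num
  · exact ⟨by decide +kernel, by decide +kernel⟩
  · intro g hg hgu x hx
    have hu : g u40 = u40 := hgu u40 List.mem_cons_self
    refine ⟨by rw [hg.2]; exact hx.1, ?_⟩
    have := co0_dot g hg u40 x
    rw [hu] at this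
    rw [this]
    exact hx.2

/-! ### The 100 vectors -/

/-- the minimal vectors having inner products 24 and -24 with two given vectors -/
def X100 (v w : leechLattice) : Set leechLattice :=
  {x | sqNorm x.1 = 32 ∧ dotInt v.1 x.1 = 24 ∧ dotInt w.1 x.1 = -24}

set_option maxRecDepth 1000000 in
theorem count100 : (out552.filter fun c => decide (dotC w40L c = -24)).length = 100 := by
  decide +kernel

theorem ncard_X100_base : (X100 u40 w40).ncard = 100 := by
  obtain ⟨Y, hY⟩ := enum552
  rw [← count100, ← hY.ncard_filter (fun x => dotInt w40.1 x.1 = -24)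
    (fun c => decide (dotC w40L c = -24))]
  · congr 1
    ext x
    exact ⟨fun h => ⟨⟨h.1, h.2.1⟩, h.2.2⟩, fun h => ⟨h.1.1, h.1.2, h.2⟩⟩
  · intro c hc
    obtain ⟨v, hv, hvc⟩ := hY.code c hc
    have hn : sqNorm (Y c).1 < 1024 := by rw [(hY.mem c hc).1]; norm_num
    rw [dotInt_eq_dotC (w := w40) rfl hv hn, hvc, decide_eq_true_eq]

theorem X100_map (k : Equiv.Perm leechLattice) (hk : k ∈ Co0) (v w x : leechLattice)
    (hx : x ∈ X100 v w) : k x ∈ X100 (k v) (k w) :=
  ⟨by rw [hk.2]; exact hx.1, by rw [co0_dot k hk]; exact hx.2.1,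
    by rw [co0_dot k hk]; exact hx.2.2⟩

theorem ncard_X100_map (k : Equiv.Perm leechLattice) (hk : k ∈ Co0) (v w : leechLattice) :
    (X100 (k v) (k w)).ncard = (X100 v w).ncard := by
  symm
  apply Set.ncard_congr (fun x _ => k x)
  · intro x hx
    exact X100_map k hk v w x hx
  · intro a b _ _ hab
    exact k.injective hab
  · intro y hy
    refine ⟨k⁻¹ y, ?_, by simp⟩
    have := X100_map k⁻¹ (Co0.inv_mem hk) (k v) (k w) y hy
    simpa using this

/-- the codes of the 100 vectors -/
def out100 : List ℕ := dfsN actsHS (codeV x100L) cert100 [] [codeV x100L]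

set_option maxRecDepth 1000000 in
theorem len100 : out100.length = 100 := by decide +kernel

set_option maxRecDepth 1000000 in
theorem sort100 : nodupCheck out100 idx100 = true := by decide +kernel

set_option maxRecDepth 1000000 in
theorem goodActsHS : GoodActs ([u40L, w40L].map codeV) actsHS := by
  intro a ha
  simp only [actsHS, List.mem_cons, List.not_mem_nil, or_false] at ha
  rcases ha with rfl | rfl
  · exact ⟨goodActN_word goodActsX _, by decide +kernel⟩
  · exact ⟨goodActN_word goodActsX _, by decide +kernel⟩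

theorem baseOK2 : BaseOK [u40, w40] [u40L, w40L] :=
  List.Forall₂.cons ⟨rfl, by rw [sqNorm_u40]; norm_num⟩
    (List.Forall₂.cons ⟨rfl, by rw [sqNorm_w40]; norm_num⟩ List.Forall₂.nil)

theorem X100_inv (us : List leechLattice) (hu : u40 ∈ us) (hw : w40 ∈ us) :
    ∀ g : Equiv.Perm leechLattice, g ∈ Co0 → (∀ u ∈ us, g u = u) →
      ∀ x ∈ X100 u40 w40, g x ∈ X100 u40 w40 := by
  intro g hg hgu x hx
  have := X100_map g hg u40 w40 x hx
  rwa [hgu u40 hu, hgu w40 hw] at this

theorem enum100 : ∃ Y : ℕ → leechLattice, EnumOK [u40, w40] x100 (X100 u40 w40) out100 Y := by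
  apply orbit_enum baseOK2 goodActsHS x100 _ x100L rfl cert100
    (X100 u40 w40) 100 (by norm_num) ncard_X100_base _ _ len100 idx100 sort100
  · have : sqNorm x100.1 = 32 := by decide +kernel
    rw [this]; norm_num
  · exact ⟨by decide +kernel, by decide +kernel, by decide +kernel⟩
  · exact X100_inv _ List.mem_cons_self (List.mem_cons_of_mem _ List.mem_cons_self)

/-- The joint stabiliser of two vectors of norm 48 with inner product `-32` is transitive on
the 100 minimal vectors attached to them. -/
theorem trans100 (v w : leechLattice) (hv : sqNorm v.1 = 48) (hw : sqNorm w.1 = 48)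
    (hvw : dotInt v.1 w.1 = -32) :
    (X100 v w).ncard = 100 ∧ ∀ x ∈ X100 v w, ∀ x' ∈ X100 v w,
      ∃ g : Equiv.Perm leechLattice, g ∈ Co0 ∧ g v = v ∧ g w = w ∧ g x = x' := by
  obtain ⟨k, hk, hkv, hkw⟩ := pair_trans48 u40 w40 v w sqNorm_u40 sqNorm_w40 dot_u40_w40 hv hw hvw
  constructor
  · rw [← hkv, ← hkw, ncard_X100_map k hk, ncard_X100_base]
  · intro x hx x' hx'
    have hkinv : k⁻¹ ∈ Co0 := Co0.inv_mem hk
    have e1 : k⁻¹ v = u40 := by rw [← hkv]; simp
    have e2 : k⁻¹ w = w40 := by rw [← hkw]; simp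
    have hy := X100_map k⁻¹ hkinv v w x hx
    have hy' := X100_map k⁻¹ hkinv v w x' hx'
    rw [e1, e2] at hy hy'
    obtain ⟨Y, hY⟩ := enum100
    obtain ⟨g, hg, hgu, hgx⟩ := hY.trans _ _ hy hy'
    have hgu40 : g u40 = u40 := hgu u40 List.mem_cons_self
    have hgw40 : g w40 = w40 := hgu w40 (List.mem_cons_of_mem _ List.mem_cons_self)
    refine ⟨k * g * k⁻¹, Co0.mul_mem (Co0.mul_mem hk hg) hkinv, ?_, ?_, ?_⟩
    · simp only [Equiv.Perm.mul_apply]
      rw [e1, hgu40, hkv]
    · simp only [Equiv.Perm.mul_apply]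
      rw [e2, hgw40, hkw]
    · simp only [Equiv.Perm.mul_apply]
      rw [hgx]
      simp

end Cfsg.Agent.Helper7
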