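import Cfsg.Agent.Lib.Helper7.HS40Data
import Cfsg.Agent.Lib.Helper7.DotCount

/-!
# The stabiliser of a vector of norm 48 is transitive on the 11178 minimal vectors of inner
product -16 with it
-/

set_option autoImplicit false

namespace Cfsg.Agent.Helper7
open Cfsg Cfsg.Agent.Helper91

theorem u40L_mem : vecOf u40L ∈ leechLattice := vecOf_mem u40L 0 28637 (by decide +kernel)

/-- the base vector of norm 48 -/
def u40 : leechLattice := ⟨vecOf u40L, u40L_mem⟩

theorem root40L_mem : vecOf root40L ∈ leechLattice := vecOf_mem root40L 0 0 (by decide +kernel)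

/-- the root of the orbit -/
def root40 : leechLattice := ⟨vecOf root40L, root40L_mem⟩

theorem sqNorm_u40 : sqNorm u40.1 = 48 := by decide +kernel

theorem sqNorm_root40 : sqNorm root40.1 = 32 := by decide +kernel

theorem dot_root40 : dotInt u40.1 root40.1 = -16 := by decide +kernel

set_option maxRecDepth 100000 in
theorem goodActs40 : GoodActs ([u40L].map codeV) acts40 := by
  intro a ha
  simp only [acts40, List.mem_cons, List.not_mem_nil, or_false] at ha
  rcases ha with rfl | rfl | rfl | rfl | rfl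
  · refine ⟨?_, by decide +kernel⟩
    rw [g40_0_f_eq]
    exact goodActN_monoT g40_0_t g40_0_l g40_0_li g40_0_c (by decide +kernel) (by decide +kernel)
      (by decide +kernel) (by decide +kernel)
  · refine ⟨?_, by decide +kernel⟩
    rw [g40_1_f_eq]
    exact goodActN_monoT g40_1_t g40_1_l g40_1_li g40_1_c (by decide +kernel) (by decide +kernel)
      (by decide +kernel) (by decide +kernel)
  · refine ⟨?_, by decide +kernel⟩
    rw [g40_2_f_eq]
    exact goodActN_monoT g40_2_t g40_2_l g40_2_li g40_2_c (by decide +kernel) (by decide +kernel)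
      (by decide +kernel) (by decide +kernel)
  · refine ⟨?_, by decide +kernel⟩
    rw [g40_3_f_eq]
    exact goodActN_monoT g40_3_t g40_3_l g40_3_li g40_3_c (by decide +kernel) (by decide +kernel)
      (by decide +kernel) (by decide +kernel)
  · refine ⟨?_, by decide +kernel⟩
    exact goodActN_of_list (monoL g40_h_li g40_h_c ∘ xiL)
      (goodAct_xi.comp (goodAct_mono g40_h_l g40_h_li g40_h_c (by decide +kernel)
        (by decide +kernel) (by decide +kernel)))

set_option maxRecDepth 1000000 in
theorem len40 : (dfsN acts40 (codeV root40L) cert40 [] [codeV root40L]).length = 11178 := by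
  decide +kernel

set_option maxRecDepth 1000000 in
theorem sort40 :
    nodupCheck (dfsN acts40 (codeV root40L) cert40 [] [codeV root40L]) idx40 = true := by
  decide +kernel

/-- the set acted on -/
def X40 (u : leechLattice) : Set leechLattice :=
  {x | sqNorm x.1 = 32 ∧ dotInt u.1 x.1 = -16}

theorem ncard_X40 (u : leechLattice) (hu : sqNorm u.1 = 48) : (X40 u).ncard = 11178 := by
  rw [← card_dotSet_48_32 u hu, ← Set.ncard_coe_finset]
  congr 1
  ext x
  rw [Finset.mem_coe, mem_dotSet]
  rfl

/-- transitivity for the base vector -/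
theorem trans40_base : ∀ x ∈ X40 u40, ∃ g : Equiv.Perm leechLattice, g ∈ Co0 ∧
    (∀ u ∈ [u40], g u = u) ∧ g root40 = x := by
  apply orbit_cover (us := [u40]) (ul := [u40L]) _ goodActs40 root40 _ root40L rfl cert40
    (X40 u40) 11178 (by norm_num) (ncard_X40 u40 sqNorm_u40) ⟨sqNorm_root40, dot_root40⟩ _ len40
    idx40 sort40
  · exact List.Forall₂.cons ⟨rfl, by rw [sqNorm_u40]; norm_num⟩ List.Forall₂.nil
  · rw [sqNorm_root40]; norm_num
  · intro g hg hgu x hx
    have hu : g u40 = u40 := hgu u40 List.mem_cons_self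
    refine ⟨by rw [hg.2]; exact hx.1, ?_⟩
    have := co0_dot g hg u40 x
    rw [hu] at this
    rw [this]
    exact hx.2

/-- The stabiliser of a vector of norm 48 is transitive on the minimal vectors of inner
product `-16` with it. -/
theorem trans40 (u : leechLattice) (hu : sqNorm u.1 = 48) (x x' : leechLattice)
    (hx : x ∈ X40 u) (hx' : x' ∈ X40 u) :
    ∃ g : Equiv.Perm leechLattice, g ∈ Co0 ∧ g u = u ∧ g x = x' := by
  obtain ⟨k, hk, hku⟩ := co0_trans48 u40 u sqNorm_u40 hu
  have hkinv : k⁻¹ ∈ Co0 := Co0.inv_mem hk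
  have hpull : ∀ y ∈ X40 u, k⁻¹ y ∈ X40 u40 := by
    intro y hy
    refine ⟨by rw [hkinv.2]; exact hy.1, ?_⟩
    have h1 := co0_dot k⁻¹ hkinv u y
    have h2 : k⁻¹ u = u40 := by rw [← hku]; simp
    rw [h2] at h1
    rw [h1]
    exact hy.2
  obtain ⟨g, hg, hgu, hgr⟩ := trans40_base (k⁻¹ x) (hpull x hx)
  obtain ⟨g', hg', hgu', hgr'⟩ := trans40_base (k⁻¹ x') (hpull x' hx')
  have hgu0 : g u40 = u40 := hgu u40 List.mem_cons_self
  have hgu0' : g' u40 = u40 := hgu' u40 List.mem_cons_self
  refine ⟨k * g' * g⁻¹ * k⁻¹, Co0.mul_mem (Co0.mul_mem (Co0.mul_mem hk hg') (Co0.inv_mem hg)) hkinv,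
    ?_, ?_⟩
  · have h2 : k⁻¹ u = u40 := by rw [← hku]; simp
    have h3 : g⁻¹ u40 = u40 := by
      rw [Equiv.Perm.inv_eq_iff_eq]; exact hgu0.symm
    simp only [Equiv.Perm.mul_apply]
    rw [h2, h3, hgu0', hku]
  · have h3 : g⁻¹ (k⁻¹ x) = root40 := by
      rw [Equiv.Perm.inv_eq_iff_eq]; exact hgr.symm
    simp only [Equiv.Perm.mul_apply]
    rw [h3, hgr']
    simp

end Cfsg.Agent.Helper7
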