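import Cfsg.Agent.Lib.Helper7.HS41Data
import Cfsg.Agent.Lib.Helper7.HS100

/-!
# The stabiliser of a vector of norm 48 and one of its 11178 minimal vectors has rank 5
-/

set_option autoImplicit false

namespace Cfsg.Agent.Helper7
open Cfsg Cfsg.Agent.Helper91

/-! ### Enumeration of the 11178 vectors -/

/-- the codes of the 11178 vectors -/
def out40 : List ℕ := dfsN acts40 (codeV root40L) cert40 [] [codeV root40L]

theorem X40_inv (us : List leechLattice) (hu : u40 ∈ us) :
    ∀ g : Equiv.Perm leechLattice, g ∈ Co0 → (∀ u ∈ us, g u = u) →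
      ∀ x ∈ X40 u40, g x ∈ X40 u40 := by
  intro g hg hgu x hx
  have hu : g u40 = u40 := hgu u40 hu
  refine ⟨by rw [hg.2]; exact hx.1, ?_⟩
  have := co0_dot g hg u40 x
  rw [hu] at this
  rw [this]
  exact hx.2

theorem enum40 : ∃ Y : ℕ → leechLattice, EnumOK [u40] root40 (X40 u40) out40 Y := by
  apply orbit_enum (us := [u40]) (ul := [u40L]) _ goodActs40 root40 _ root40L rfl cert40
    (X40 u40) 11178 (by norm_num) (ncard_X40 u40 sqNorm_u40) ⟨sqNorm_root40, dot_root40⟩ _ len40
    idx40 sort40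
  · exact List.Forall₂.cons ⟨rfl, by rw [sqNorm_u40]; norm_num⟩ List.Forall₂.nil
  · rw [sqNorm_root40]; norm_num
  · exact X40_inv _ List.mem_cons_self

/-! ### The suborbits, cut out by the inner product with the root -/

/-- the vectors of the 11178 with a given inner product with one of them -/
def B41 (u x : leechLattice) (d : ℤ) : Set leechLattice :=
  {y | y ∈ X40 u ∧ dotInt x.1 y.1 = d}

/-- sum of the digits at positions 0 and 2 of a packed vector -/
def cls41 : ℕ → ℕ := fun c => Nat.add (Nat.mod c 64) (Nat.mod (Nat.div c 4096) 64)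

theorem dotC_root40 (c : ℕ) : dotC root40L c = 256 - 4 * (cls41 c : ℤ) := by
  unfold dotC cls41
  simp [root40L, List.range_succ, digitN]
  have h1 : c.mod 64 = c % 64 := rfl
  have h2 : (c.div 4096).mod 64 = c / 4096 % 64 := rfl
  rw [h1, h2]
  push_cast
  ring

theorem dotC_root40_iff (c m : ℕ) (d : ℤ) (hd : d = 256 - 4 * (m : ℤ)) :
    dotC root40L c = d ↔ Nat.beq (cls41 c) m = true := by
  rw [dotC_root40, hd, Nat.beq_eq]
  constructor
  · intro h; omega
  · intro h; rw [h]

theorem ncard_B41_base (d : ℤ) (m : ℕ) (hd : d = 256 - 4 * (m : ℤ)) (n : ℕ)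
    (h : (out40.filter fun c => Nat.beq (cls41 c) m).length = n) :
    (B41 u40 root40 d).ncard = n := by
  obtain ⟨Y, hY⟩ := enum40
  rw [← h, ← hY.ncard_filter (fun x => dotInt root40.1 x.1 = d)
    (fun c => Nat.beq (cls41 c) m)]
  · rfl
  · intro c hc
    obtain ⟨v, hv, hvc⟩ := hY.code c hc
    have hn : sqNorm (Y c).1 < 1024 := by rw [(hY.mem c hc).1]; norm_num
    rw [dotInt_eq_dotC (w := root40) rfl hv hn, hvc]
    exact dotC_root40_iff c m d hd

set_option maxRecDepth 1000000 in
theorem count41a : (out40.filter fun c => Nat.beq (cls41 c) 66).length = 352 := by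
  decide +kernel

set_option maxRecDepth 1000000 in
theorem count41b : (out40.filter fun c => Nat.beq (cls41 c) 60).length = 1100 := by
  decide +kernel

set_option maxRecDepth 1000000 in
theorem count41c : (out40.filter fun c => Nat.beq (cls41 c) 64).length = 4125 := by
  decide +kernel

set_option maxRecDepth 1000000 in
theorem count41d : (out40.filter fun c => Nat.beq (cls41 c) 62).length = 5600 := by
  decide +kernel

set_option maxRecDepth 1000000 in
theorem count41_all : (out40.all fun c => Nat.beq (cls41 c) 56 || Nat.beq (cls41 c) 66 ||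
    Nat.beq (cls41 c) 60 || Nat.beq (cls41 c) 64 || Nat.beq (cls41 c) 62) = true := by
  decide +kernel

theorem dot_values_base (y : leechLattice) (hy : y ∈ X40 u40) :
    dotInt root40.1 y.1 = 32 ∨ dotInt root40.1 y.1 = -8 ∨ dotInt root40.1 y.1 = 16 ∨
      dotInt root40.1 y.1 = 0 ∨ dotInt root40.1 y.1 = 8 := by
  obtain ⟨Y, hY⟩ := enum40
  obtain ⟨c, hc, rfl⟩ := hY.surj y hy
  obtain ⟨v, hv, hvc⟩ := hY.code c hc
  have hn : sqNorm (Y c).1 < 1024 := by rw [(hY.mem c hc).1]; norm_num
  have h := List.all_eq_true.mp count41_all c hc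
  simp only [Bool.or_eq_true, Nat.beq_eq] at h
  rw [dotInt_eq_dotC (w := root40) rfl hv hn, hvc, dotC_root40]
  omega

/-! ### Transport by automorphisms -/

theorem B41_map (k : Equiv.Perm leechLattice) (hk : k ∈ Co0) (u x : leechLattice) (d : ℤ)
    (y : leechLattice) (hy : y ∈ B41 u x d) : k y ∈ B41 (k u) (k x) d :=
  ⟨⟨by rw [hk.2]; exact hy.1.1, by rw [co0_dot k hk]; exact hy.1.2⟩,
    by rw [co0_dot k hk]; exact hy.2⟩

theorem ncard_B41_map (k : Equiv.Perm leechLattice) (hk : k ∈ Co0) (u x : leechLattice) (d : ℤ) :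
    (B41 (k u) (k x) d).ncard = (B41 u x d).ncard := by
  symm
  apply Set.ncard_congr (fun y _ => k y)
  · intro y hy
    exact B41_map k hk u x d y hy
  · intro a b _ _ hab
    exact k.injective hab
  · intro y hy
    refine ⟨k⁻¹ y, ?_, by simp⟩
    have := B41_map k⁻¹ (Co0.inv_mem hk) (k u) (k x) d y hy
    simpa using this

theorem eq_of_dot32 (x y : leechLattice) (hx : sqNorm x.1 = 32) (hy : sqNorm y.1 = 32)
    (h : dotInt x.1 y.1 = 32) : y = x := by
  have h0 : sqNorm (x.1 - y.1) = 0 := by rw [sqNorm_sub, hx, hy, h]; norm_num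
  unfold sqNorm at h0
  rw [Finset.sum_eq_zero_iff_of_nonneg (fun i _ => sq_nonneg _)] at h0
  apply Subtype.ext
  funext i
  have h1 := h0 i (Finset.mem_univ i)
  have h2 : (x.1 - y.1) i = 0 := by simpa using h1
  rw [Pi.sub_apply] at h2
  omega

/-! ### The generators of the stabiliser of the two base vectors -/

theorem baseOK41 : BaseOK [u40, root40] [u40L, root40L] :=
  List.Forall₂.cons ⟨rfl, by rw [sqNorm_u40]; norm_num⟩
    (List.Forall₂.cons ⟨rfl, by rw [sqNorm_root40]; norm_num⟩ List.Forall₂.nil)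

set_option maxRecDepth 1000000 in
theorem goodActs41 : GoodActs ([u40L, root40L].map codeV) acts41 := by
  intro a ha
  simp only [acts41, List.mem_cons, List.not_mem_nil, or_false] at ha
  rcases ha with rfl | rfl | rfl | rfl | rfl
  · refine ⟨?_, by decide +kernel⟩
    rw [m41_0_f_eq]
    exact goodActN_monoT m41_0_t m41_0_l m41_0_li m41_0_c (by decide +kernel) (by decide +kernel)
      (by decide +kernel) (by decide +kernel)
  · refine ⟨?_, by decide +kernel⟩
    rw [m41_1_f_eq]
    exact goodActN_monoT m41_1_t m41_1_l m41_1_li m41_1_c (by decide +kernel) (by decide +kernel)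
      (by decide +kernel) (by decide +kernel)
  · refine ⟨?_, by decide +kernel⟩
    rw [m41_2_f_eq]
    exact goodActN_monoT m41_2_t m41_2_l m41_2_li m41_2_c (by decide +kernel) (by decide +kernel)
      (by decide +kernel) (by decide +kernel)
  · exact ⟨(goodActs40 _ (by simp [acts40])).1, by decide +kernel⟩
  · exact ⟨goodActN_word goodActsX _, by decide +kernel⟩

theorem B41_inv (d : ℤ) :
    ∀ g : Equiv.Perm leechLattice, g ∈ Co0 → (∀ u ∈ [u40, root40], g u = u) →
      ∀ x ∈ B41 u40 root40 d, g x ∈ B41 u40 root40 d := by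
  intro g hg hgu x hx
  have := B41_map g hg u40 root40 d x hx
  rwa [hgu u40 List.mem_cons_self,
    hgu root40 (List.mem_cons_of_mem _ List.mem_cons_self)] at this

/-- the enumeration of a suborbit from a traversal certificate -/
theorem enum41 (rl : List ℤ) (hr : vecOf rl ∈ leechLattice) (cert : List (ℕ × ℕ))
    (idx : List ℕ) (d : ℤ) (m : ℕ) (hd : d = 256 - 4 * (m : ℤ)) (n : ℕ) (hn : 0 < n)
    (hcount : (out40.filter fun c => Nat.beq (cls41 c) m).length = n)
    (hnorm : sqNorm (vecOf rl) = 32)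
    (hmem : (⟨vecOf rl, hr⟩ : leechLattice) ∈ B41 u40 root40 d)
    (hlen : (dfsN acts41 (codeV rl) cert [] [codeV rl]).length = n)
    (hsort : nodupCheck (dfsN acts41 (codeV rl) cert [] [codeV rl]) idx = true) :
    ∃ Y : ℕ → leechLattice, EnumOK [u40, root40] ⟨vecOf rl, hr⟩ (B41 u40 root40 d)
      (dfsN acts41 (codeV rl) cert [] [codeV rl]) Y := by
  apply orbit_enum baseOK41 goodActs41 ⟨vecOf rl, hr⟩ _ rl rfl cert
    (B41 u40 root40 d) n hn (ncard_B41_base d m hd n hcount) hmem (B41_inv d) hlen idx hsort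
  show sqNorm (vecOf rl) < 1024
  rw [hnorm]; norm_num

theorem r41aL_mem : vecOf r41aL ∈ leechLattice :=
  vecOf_mem r41aL 1 16777215 (by decide +kernel)

theorem r41bL_mem : vecOf r41bL ∈ leechLattice :=
  vecOf_mem r41bL 0 0 (by decide +kernel)

theorem r41cL_mem : vecOf r41cL ∈ leechLattice :=
  vecOf_mem r41cL 0 5279 (by decide +kernel)

theorem r41dL_mem : vecOf r41dL ∈ leechLattice :=
  vecOf_mem r41dL 1 15474682 (by decide +kernel)

/-- the roots of the four suborbits -/
def r41a : leechLattice := ⟨vecOf r41aL, r41aL_mem⟩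
def r41b : leechLattice := ⟨vecOf r41bL, r41bL_mem⟩
def r41c : leechLattice := ⟨vecOf r41cL, r41cL_mem⟩
def r41d : leechLattice := ⟨vecOf r41dL, r41dL_mem⟩

theorem r41a_mem : r41a ∈ B41 u40 root40 (-8) :=
  ⟨⟨by decide +kernel, by decide +kernel⟩, by decide +kernel⟩

theorem r41b_mem : r41b ∈ B41 u40 root40 16 :=
  ⟨⟨by decide +kernel, by decide +kernel⟩, by decide +kernel⟩

theorem r41c_mem : r41c ∈ B41 u40 root40 0 :=
  ⟨⟨by decide +kernel, by decide +kernel⟩, by decide +kernel⟩

theorem r41d_mem : r41d ∈ B41 u40 root40 8 :=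
  ⟨⟨by decide +kernel, by decide +kernel⟩, by decide +kernel⟩

set_option maxRecDepth 1000000 in
theorem len41a : (dfsN acts41 (codeV r41aL) cert41a [] [codeV r41aL]).length = 352 := by
  decide +kernel

set_option maxRecDepth 1000000 in
theorem sort41a :
    nodupCheck (dfsN acts41 (codeV r41aL) cert41a [] [codeV r41aL]) idx41a = true := by
  decide +kernel

set_option maxRecDepth 1000000 in
theorem len41b : (dfsN acts41 (codeV r41bL) cert41b [] [codeV r41bL]).length = 1100 := by
  decide +kernel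

set_option maxRecDepth 1000000 in
theorem sort41b :
    nodupCheck (dfsN acts41 (codeV r41bL) cert41b [] [codeV r41bL]) idx41b = true := by
  decide +kernel

set_option maxRecDepth 1000000 in
theorem len41c : (dfsN acts41 (codeV r41cL) cert41c [] [codeV r41cL]).length = 4125 := by
  decide +kernel

set_option maxRecDepth 1000000 in
theorem sort41c :
    nodupCheck (dfsN acts41 (codeV r41cL) cert41c [] [codeV r41cL]) idx41c = true := by
  decide +kernel

set_option maxRecDepth 1000000 in
theorem len41d : (dfsN acts41 (codeV r41dL) cert41d [] [codeV r41dL]).length = 5600 := by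
  decide +kernel

set_option maxRecDepth 1000000 in
theorem sort41d :
    nodupCheck (dfsN acts41 (codeV r41dL) cert41d [] [codeV r41dL]) idx41d = true := by
  decide +kernel

/-- transitivity of the joint stabiliser on a suborbit, from an enumeration -/
theorem trans41_of_enum {r : leechLattice} {d : ℤ} {out : List ℕ} {Y : ℕ → leechLattice}
    (h : EnumOK [u40, root40] r (B41 u40 root40 d) out Y) (hr : r ∈ B41 u40 root40 d) :
    ∀ y ∈ B41 u40 root40 d, ∃ g : Equiv.Perm leechLattice, g ∈ Co0 ∧ g u40 = u40 ∧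
      g root40 = root40 ∧ g r = y := by
  intro y hy
  obtain ⟨g, hg, hgu, hgr⟩ := h.trans r y hr hy
  exact ⟨g, hg, hgu u40 List.mem_cons_self,
    hgu root40 (List.mem_cons_of_mem _ List.mem_cons_self), hgr⟩

theorem trans41a : ∀ y ∈ B41 u40 root40 (-8), ∃ g : Equiv.Perm leechLattice, g ∈ Co0 ∧
    g u40 = u40 ∧ g root40 = root40 ∧ g r41a = y := by
  obtain ⟨Y, hY⟩ := enum41 r41aL r41aL_mem cert41a idx41a (-8) 66 (by norm_num) 352 (by norm_num) count41a
    (by decide +kernel) r41a_mem len41a sort41a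
  exact trans41_of_enum hY r41a_mem

theorem trans41b : ∀ y ∈ B41 u40 root40 16, ∃ g : Equiv.Perm leechLattice, g ∈ Co0 ∧
    g u40 = u40 ∧ g root40 = root40 ∧ g r41b = y := by
  obtain ⟨Y, hY⟩ := enum41 r41bL r41bL_mem cert41b idx41b 16 60 (by norm_num) 1100 (by norm_num) count41b
    (by decide +kernel) r41b_mem len41b sort41b
  exact trans41_of_enum hY r41b_mem

theorem trans41c : ∀ y ∈ B41 u40 root40 0, ∃ g : Equiv.Perm leechLattice, g ∈ Co0 ∧
    g u40 = u40 ∧ g root40 = root40 ∧ g r41c = y := by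
  obtain ⟨Y, hY⟩ := enum41 r41cL r41cL_mem cert41c idx41c 0 64 (by norm_num) 4125 (by norm_num) count41c
    (by decide +kernel) r41c_mem len41c sort41c
  exact trans41_of_enum hY r41c_mem

theorem trans41d : ∀ y ∈ B41 u40 root40 8, ∃ g : Equiv.Perm leechLattice, g ∈ Co0 ∧
    g u40 = u40 ∧ g root40 = root40 ∧ g r41d = y := by
  obtain ⟨Y, hY⟩ := enum41 r41dL r41dL_mem cert41d idx41d 8 62 (by norm_num) 5600 (by norm_num) count41d
    (by decide +kernel) r41d_mem len41d sort41d
  exact trans41_of_enum hY r41d_mem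

/-! ### The general position -/

theorem exists_base_map41 (u x : leechLattice) (hu : sqNorm u.1 = 48) (hx : x ∈ X40 u) :
    ∃ k : Equiv.Perm leechLattice, k ∈ Co0 ∧ k u40 = u ∧ k root40 = x := by
  obtain ⟨k1, hk1, hk1u⟩ := co0_trans48 u40 u sqNorm_u40 hu
  have h1 : k1 root40 ∈ X40 u := by
    refine ⟨by rw [hk1.2]; exact sqNorm_root40, ?_⟩
    rw [← hk1u, co0_dot k1 hk1]
    exact dot_root40
  obtain ⟨g, hg, hgu, hgx⟩ := trans40 u hu (k1 root40) x h1 hx
  refine ⟨g * k1, Co0.mul_mem hg hk1, ?_, ?_⟩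
  · rw [Equiv.Perm.mul_apply, hk1u, hgu]
  · rw [Equiv.Perm.mul_apply, hgx]

/-- the orbits of the joint stabiliser are cut out by the inner product -/
theorem orbit41 (u x : leechLattice) (k : Equiv.Perm leechLattice) (hk : k ∈ Co0)
    (hku : k u40 = u) (hkx : k root40 = x) (d : ℤ) (r : leechLattice)
    (hr : r ∈ B41 u40 root40 d)
    (htrans : ∀ y ∈ B41 u40 root40 d, ∃ g : Equiv.Perm leechLattice, g ∈ Co0 ∧ g u40 = u40 ∧
      g root40 = root40 ∧ g r = y) :
    MulAction.orbit ↥(MulAction.stabilizer ↥Co0 u ⊓ MulAction.stabilizer ↥Co0 x) (k r) =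
      B41 u x d := by
  have hkr : k r ∈ B41 u x d := by
    have := B41_map k hk u40 root40 d r hr
    rwa [hku, hkx] at this
  ext y
  rw [MulAction.mem_orbit_iff]
  constructor
  · rintro ⟨⟨g, hgmem⟩, rfl⟩
    obtain ⟨hgu, hgx⟩ := Subgroup.mem_inf.mp hgmem
    have hgu' : g.1 u = u := MulAction.mem_stabilizer_iff.mp hgu
    have hgx' : g.1 x = x := MulAction.mem_stabilizer_iff.mp hgx
    have := B41_map g.1 g.2 u x d (k r) hkr
    rw [hgu', hgx'] at this
    exact this
  · intro hy
    have hkinv := Co0.inv_mem hk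
    have e1 : k⁻¹ u = u40 := by rw [← hku]; simp
    have e2 : k⁻¹ x = root40 := by rw [← hkx]; simp
    have hy' := B41_map k⁻¹ hkinv u x d y hy
    rw [e1, e2] at hy'
    obtain ⟨g, hg, hgu, hgx, hgr⟩ := htrans _ hy'
    have hmem : k * g * k⁻¹ ∈ Co0 := Co0.mul_mem (Co0.mul_mem hk hg) hkinv
    have h1 : (k * g * k⁻¹) u = u := by
      simp only [Equiv.Perm.mul_apply]
      rw [e1, hgu, hku]
    have h2 : (k * g * k⁻¹) x = x := by
      simp only [Equiv.Perm.mul_apply]
      rw [e2, hgx, hkx]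
    have h3 : (k * g * k⁻¹) (k r) = y := by
      have e3 : k⁻¹ (k r) = r := by simp
      simp only [Equiv.Perm.mul_apply]
      rw [e3, hgr]
      simp
    refine ⟨⟨⟨k * g * k⁻¹, hmem⟩, Subgroup.mem_inf.mpr
      ⟨MulAction.mem_stabilizer_iff.mpr h1, MulAction.mem_stabilizer_iff.mpr h2⟩⟩, h3⟩

/-- The stabiliser of a vector of norm 48 and one of the 11178 minimal vectors attached to it
has five orbits on these vectors, of sizes 1, 352, 1100, 4125 and 5600. -/
theorem rank5_11178 (u x : leechLattice) (hu : sqNorm u.1 = 48) (hx : x ∈ X40 u) :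
    ∃ y₁ ∈ X40 u, ∃ y₂ ∈ X40 u, ∃ y₃ ∈ X40 u, ∃ y₄ ∈ X40 u,
      (MulAction.orbit ↥(MulAction.stabilizer ↥Co0 u ⊓ MulAction.stabilizer ↥Co0 x)
        y₁).ncard = 352 ∧
      (MulAction.orbit ↥(MulAction.stabilizer ↥Co0 u ⊓ MulAction.stabilizer ↥Co0 x)
        y₂).ncard = 1100 ∧
      (MulAction.orbit ↥(MulAction.stabilizer ↥Co0 u ⊓ MulAction.stabilizer ↥Co0 x)
        y₃).ncard = 4125 ∧
      (MulAction.orbit ↥(MulAction.stabilizer ↥Co0 u ⊓ MulAction.stabilizer ↥Co0 x)
        y₄).ncard = 5600 ∧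
      X40 u = {x} ∪
        MulAction.orbit ↥(MulAction.stabilizer ↥Co0 u ⊓ MulAction.stabilizer ↥Co0 x) y₁ ∪
        MulAction.orbit ↥(MulAction.stabilizer ↥Co0 u ⊓ MulAction.stabilizer ↥Co0 x) y₂ ∪
        MulAction.orbit ↥(MulAction.stabilizer ↥Co0 u ⊓ MulAction.stabilizer ↥Co0 x) y₃ ∪
        MulAction.orbit ↥(MulAction.stabilizer ↥Co0 u ⊓ MulAction.stabilizer ↥Co0 x) y₄ := by
  obtain ⟨k, hk, hku, hkx⟩ := exists_base_map41 u x hu hx
  have ha := orbit41 u x k hk hku hkx (-8) r41a r41a_mem trans41a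
  have hb := orbit41 u x k hk hku hkx 16 r41b r41b_mem trans41b
  have hc := orbit41 u x k hk hku hkx 0 r41c r41c_mem trans41c
  have hd := orbit41 u x k hk hku hkx 8 r41d r41d_mem trans41d
  have hmemX : ∀ (d : ℤ) (r : leechLattice), r ∈ B41 u40 root40 d → k r ∈ X40 u := by
    intro d r hr
    have := B41_map k hk u40 root40 d r hr
    rw [hku, hkx] at this
    exact this.1
  have hn : ∀ d : ℤ, (B41 u x d).ncard = (B41 u40 root40 d).ncard := by
    intro d
    rw [← hku, ← hkx]
    exact ncard_B41_map k hk u40 root40 d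
  refine ⟨k r41a, hmemX _ _ r41a_mem, k r41b, hmemX _ _ r41b_mem, k r41c, hmemX _ _ r41c_mem,
    k r41d, hmemX _ _ r41d_mem, ?_⟩
  rw [ha, hb, hc, hd]
  refine ⟨by rw [hn, ncard_B41_base (-8) 66 (by norm_num) 352 count41a],
    by rw [hn, ncard_B41_base 16 60 (by norm_num) 1100 count41b],
    by rw [hn, ncard_B41_base 0 64 (by norm_num) 4125 count41c],
    by rw [hn, ncard_B41_base 8 62 (by norm_num) 5600 count41d], ?_⟩
  ext y
  simp only [Set.mem_union, Set.mem_singleton_iff]
  constructor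
  · intro hy
    have hkinv := Co0.inv_mem hk
    have e1 : k⁻¹ u = u40 := by rw [← hku]; simp
    have hy' : k⁻¹ y ∈ X40 u40 := by
      refine ⟨by rw [hkinv.2]; exact hy.1, ?_⟩
      rw [← e1, co0_dot k⁻¹ hkinv]
      exact hy.2
    have hdv := dot_values_base (k⁻¹ y) hy'
    have e : dotInt root40.1 (k⁻¹ y).1 = dotInt x.1 y.1 := by
      have := co0_dot k hk root40 (k⁻¹ y)
      rw [hkx] at this
      rw [← this]
      simp
    rw [e] at hdv
    rcases hdv with h | h | h | h | h
    · left; left; left; left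
      exact eq_of_dot32 x y hx.1 hy.1 h
    · left; left; left; right
      exact ⟨hy, h⟩
    · left; left; right
      exact ⟨hy, h⟩
    · left; right
      exact ⟨hy, h⟩
    · right
      exact ⟨hy, h⟩
  · rintro ((((h | h) | h) | h) | h)
    · rw [h]; exact hx
    · exact h.1
    · exact h.1
    · exact h.1
    · exact h.1

end Cfsg.Agent.Helper7
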