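import Cfsg.Agent.Lib.Helper7.HS100

/-!
# A fixed-point-free involution on the 100 vectors of the Higman-Sims configuration
-/

set_option autoImplicit false

namespace Cfsg.Agent.Helper7
open Cfsg Cfsg.Agent.Helper91 Cfsg.Agent.Helper92

theorem inv100_tabOK : tabOK inv100_l inv100_li = true := by decide +kernel

/-- the permutation of the involution -/
def invσ : Equiv.Perm GolayPt := permOfTab inv100_l inv100_li inv100_tabOK

theorem invσ_mem : invσ ∈ M24 := permOfTab_mem _ _ _ (by decide +kernel)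

theorem inv100_code : ofMask inv100_c ∈ Code := ofMask_code _ (by decide +kernel)

/-- the monomial involution -/
def gInv : Equiv.Perm leechLattice := monoPerm invσ (ofMask inv100_c) invσ_mem inv100_code

theorem gInv_mem : gInv ∈ Co0 := monoPerm_mem _ _ _ _

theorem gInv_val (x : leechLattice) (v : List ℤ) (hx : x.1 = vecOf v) :
    (gInv x).1 = vecOf (monoL inv100_li inv100_c v) := by
  unfold gInv
  rw [monoPerm_val, hx]
  exact vecOf_monoL inv100_l inv100_li inv100_tabOK inv100_c v

theorem gInv_u40 : gInv u40 = u40 := by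
  apply Subtype.ext
  rw [gInv_val u40 u40L rfl]
  have : monoL inv100_li inv100_c u40L = u40L := by decide +kernel
  rw [this]; rfl

theorem gInv_w40 : gInv w40 = w40 := by
  apply Subtype.ext
  rw [gInv_val w40 w40L rfl]
  have : monoL inv100_li inv100_c w40L = w40L := by decide +kernel
  rw [this]; rfl

theorem invσ_sq : ∀ p : GolayPt, invσ.symm (invσ.symm p) = p ∧
    (inv100_c.testBit (idx p) = inv100_c.testBit (idx (invσ.symm p))) := by
  decide +kernel

theorem gInv_sq (x : leechLattice) : gInv (gInv x) = x := by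
  apply Subtype.ext
  unfold gInv
  rw [monoPerm_val, monoPerm_val]
  funext i
  rw [signedPerm_apply, signedPerm_apply]
  obtain ⟨h1, h2⟩ := invσ_sq i
  rw [h1]
  have hm : (i ∈ ofMask inv100_c) ↔ (invσ.symm i ∈ ofMask inv100_c) := by
    rw [mem_ofMask, mem_ofMask, h2]
  by_cases hi : i ∈ ofMask inv100_c
  · rw [if_pos hi, if_pos (hm.mp hi)]; ring
  · rw [if_neg hi, if_neg (fun h => hi (hm.mpr h))]

theorem inv100_t_eq : inv100_t =
    (List.range 24).map fun i => (64 ^ (inv100_li.getD i 0), inv100_c.testBit i) := by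
  decide +kernel

set_option maxRecDepth 1000000 in
theorem inv100_nofix : ∀ c ∈ out100, inv100_f c ≠ c := by decide +kernel

theorem gInv_nofix (x : leechLattice) (hx : x ∈ X100 u40 w40) : gInv x ≠ x := by
  obtain ⟨Y, hY⟩ := enum100
  obtain ⟨c, hc, rfl⟩ := hY.surj x hx
  obtain ⟨v, hv, hvc⟩ := hY.code c hc
  intro hfix
  have hn : sqNorm (Y c).1 < 1024 := by rw [(hY.mem c hc).1]; norm_num
  have hB : Bounded v := bounded_of_norm hv hn
  have h1 : vecOf (monoL inv100_li inv100_c v) = vecOf v := by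
    rw [← gInv_val (Y c) v hv, hfix, hv]
  have h2 := codeV_congr h1
  rw [← monoN_codeV inv100_li (fun i hi => (tabOK_spec inv100_tabOK i hi).2.1) inv100_c v hB,
    hvc, ← monoT_eq inv100_t inv100_li inv100_c inv100_t_eq, ← inv100_f_eq] at h2
  exact inv100_nofix c hc h2

/-- Some involution fixing both vectors has no fixed point on the 100 vectors. -/
theorem inv100 (v w : leechLattice) (hv : sqNorm v.1 = 48) (hw : sqNorm w.1 = 48)
    (hvw : dotInt v.1 w.1 = -32) :
    ∃ g : Equiv.Perm leechLattice, g ∈ Co0 ∧ g v = v ∧ g w = w ∧ g * g = 1 ∧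
      ∀ x ∈ X100 v w, g x ≠ x := by
  obtain ⟨k, hk, hkv, hkw⟩ := pair_trans48 u40 w40 v w sqNorm_u40 sqNorm_w40 dot_u40_w40 hv hw hvw
  have hkinv : k⁻¹ ∈ Co0 := Co0.inv_mem hk
  have e1 : k⁻¹ v = u40 := by rw [← hkv]; simp
  have e2 : k⁻¹ w = w40 := by rw [← hkw]; simp
  refine ⟨k * gInv * k⁻¹, Co0.mul_mem (Co0.mul_mem hk gInv_mem) hkinv, ?_, ?_, ?_, ?_⟩
  · simp only [Equiv.Perm.mul_apply]
    rw [e1, gInv_u40, hkv]
  · simp only [Equiv.Perm.mul_apply]
    rw [e2, gInv_w40, hkw]
  · apply Equiv.ext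
    intro x
    have h1 : k⁻¹ (k (gInv (k⁻¹ x))) = gInv (k⁻¹ x) := by simp
    simp only [Equiv.Perm.mul_apply, Equiv.Perm.one_apply]
    rw [h1, gInv_sq]
    simp
  · intro x hx hfix
    have hy := X100_map k⁻¹ hkinv v w x hx
    rw [e1, e2] at hy
    apply gInv_nofix (k⁻¹ x) hy
    simp only [Equiv.Perm.mul_apply] at hfix
    have := congrArg (fun y => k⁻¹ y) hfix
    simpa using this

end Cfsg.Agent.Helper7
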