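import Cfsg.Agent.Lib.Helper7.Hexads
import Cfsg.Agent.Lib.Helper7.M12

set_option autoImplicit false

namespace Cfsg.Agent.Helper7
open Cfsg
open scoped Pointwise

theorem hex_count6 : (codeList.filter fun m =>
    Nat.beq (popcF m) 8 && Nat.beq (popcF (Nat.land m dodRoot)) 6).length = 132 := by
  decide +kernel

theorem hex_count2 : (codeList.filter fun m =>
    Nat.beq (popcF m) 8 && Nat.beq (popcF (Nat.land m dodRoot)) 2).length = 132 := by
  decide +kernel

theorem hex_count4 : (codeList.filter fun m =>
    Nat.beq (popcF m) 8 && Nat.beq (popcF (Nat.land m dodRoot)) 4).length = 495 := by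
  decide +kernel

theorem inter_count0 (k n : ℕ) (h : (codeList.filter fun m =>
    Nat.beq (popcF m) 8 && Nat.beq (popcF (Nat.land m dodRoot)) k).length = n) :
    {o : Finset GolayPt | o ∈ octads ∧ (o ∩ D0).card = k}.ncard = n := by
  have := ncard_code_filter (fun b => b.card = 8 ∧ (b ∩ D0).card = k)
    (fun m => Nat.beq (popcF m) 8 && Nat.beq (popcF (Nat.land m dodRoot)) k) (by
      intro m _
      rw [Bool.and_eq_true, Nat.beq_eq, Nat.beq_eq, card_ofMask', ← ofMask_land, card_ofMask'])
  rw [h] at this
  rw [← this]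
  congr 1
  ext o
  simp only [Set.mem_ofPred_eq, mem_octads_iff]
  tauto

theorem smul_inter (g : Equiv.Perm GolayPt) (a b : Finset GolayPt) :
    g • (a ∩ b) = g • a ∩ g • b := by
  rw [smul_finset_eq, smul_finset_eq, smul_finset_eq, Finset.image_inter _ _ g.injective]

theorem card_smul (g : Equiv.Perm GolayPt) (a : Finset GolayPt) : (g • a).card = a.card := by
  rw [smul_finset_eq, Finset.card_image_of_injective _ g.injective]

/-- The number of octads meeting a dodecad in `k` points does not depend on the dodecad. -/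
theorem inter_count {d : Finset GolayPt} (hd : d ∈ dodecads) (k n : ℕ)
    (h : {o : Finset GolayPt | o ∈ octads ∧ (o ∩ D0).card = k}.ncard = n) :
    {o : Finset GolayPt | o ∈ octads ∧ (o ∩ d).card = k}.ncard = n := by
  obtain ⟨g, hg, rfl⟩ := dodecad_trans D0_mem hd
  rw [← h]
  have : {o : Finset GolayPt | o ∈ octads ∧ (o ∩ g • D0).card = k} =
      (fun o => g • o) '' {o : Finset GolayPt | o ∈ octads ∧ (o ∩ D0).card = k} := by
    ext o
    simp only [Set.mem_ofPred_eq, Set.mem_image]
    constructor
    · rintro ⟨ho, hc⟩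
      refine ⟨g⁻¹ • o, ⟨smul_mem_octads (M24.inv_mem hg) ho, ?_⟩, smul_inv_smul g o⟩
      rw [← card_smul g, smul_inter, smul_inv_smul]
      exact hc
    · rintro ⟨o', ⟨ho', hc⟩, rfl⟩
      refine ⟨smul_mem_octads hg ho', ?_⟩
      rw [← smul_inter, card_smul]
      exact hc
  rw [this]
  exact Set.ncard_image_of_injective _ (MulAction.injective g)

end Cfsg.Agent.Helper7
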