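import Cfsg.Agent.Lib.Helper7.M24Trans
import Cfsg.Agent.Lib.Helper7.M12Card

set_option autoImplicit false

namespace Cfsg.Agent.Helper7
open Cfsg
open scoped Pointwise

/-- Every five points lie in an octad. -/
theorem exists_octad_of_five (s : Finset GolayPt) (hs : s.card = 5) : ∃ o ∈ octads, s ⊆ o := by
  have hb : ([23, 0, 1, 2, 3].map pt).Nodup := by decide
  obtain ⟨g, hg, hgm⟩ := m24_five_trans ([23, 0, 1, 2, 3].map pt) s.toList hb s.nodup_toList
    (by simp [hs]) (by simp)
  refine ⟨g • ofMask baseOct, smul_mem_octads hg (isOct_spec baseOct_isOct), ?_⟩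
  intro x hx
  rw [← Finset.mem_toList, ← hgm, List.mem_map] at hx
  obtain ⟨b, hb', rfl⟩ := hx
  rw [smul_finset_eq]
  apply Finset.mem_image_of_mem
  revert b
  decide +kernel

/-- Every five points lie in exactly one octad. -/
theorem existsUnique_octad_of_five (s : Finset GolayPt) (hs : s.card = 5) :
    ∃! o, o ∈ octads ∧ s ⊆ o := by
  obtain ⟨o, ho, hso⟩ := exists_octad_of_five s hs
  refine ⟨o, ⟨ho, hso⟩, ?_⟩
  rintro o' ⟨ho', hso'⟩
  apply octad_eq_of_inter ho' ho
  rw [← hs]
  exact Finset.card_le_card (Finset.subset_inter hso' hso)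

theorem octads_steiner : IsSteinerSystem 5 8 octads :=
  ⟨fun b hb => ((mem_octads_iff b).mp hb).2, existsUnique_octad_of_five⟩

/-- An octad meets a dodecad in 2, 4 or 6 points. -/
theorem inter_dodecad_card {o d : Finset GolayPt} (ho : o ∈ octads) (hd : d ∈ dodecads) :
    (o ∩ d).card = 2 ∨ (o ∩ d).card = 4 ∨ (o ∩ d).card = 6 := by
  rw [mem_octads_iff] at ho
  rw [mem_dodecads_iff] at hd
  have h1 := weight_cases _ (symmDiff_mem_supports ho.1 hd.1)
  have h2 := card_symmDiff_add o d
  have h3 : (o ∩ d).card ≤ o.card := Finset.card_le_card Finset.inter_subset_left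
  omega

end Cfsg.Agent.Helper7
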