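import Cfsg.Agent.Lib.Helper7.Co0Orb

/-!
# Automorphisms of the Leech lattice acting on explicit lists of coordinates
-/

set_option autoImplicit false

namespace Cfsg.Agent.Helper7
open Cfsg Cfsg.Agent.Helper91 Cfsg.Agent.Helper92
open scoped Pointwise

/-! ### Permutations from tables -/

/-- the map of points given by a table -/
def tabFun (l : List ℕ) (p : GolayPt) : GolayPt := pt (l.getD (idx p) 0)

/-- the check that two tables are inverse to each other -/
def tabOK (l li : List ℕ) : Bool :=
  (List.range 24).all fun i => decide (l.getD i 0 < 24) && decide (li.getD i 0 < 24) &&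
    Nat.beq (li.getD (l.getD i 0) 0) i && Nat.beq (l.getD (li.getD i 0) 0) i

theorem tabOK_spec {l li : List ℕ} (h : tabOK l li = true) (i : ℕ) (hi : i < 24) :
    l.getD i 0 < 24 ∧ li.getD i 0 < 24 ∧ li.getD (l.getD i 0) 0 = i ∧ l.getD (li.getD i 0) 0 = i := by
  unfold tabOK at h
  rw [List.all_eq_true] at h
  have := h i (List.mem_range.mpr hi)
  simp only [Bool.and_eq_true, decide_eq_true_eq, Nat.beq_eq] at this
  exact ⟨this.1.1.1, this.1.1.2, this.1.2, this.2⟩

/-- the permutation with a given table -/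
def permOfTab (l li : List ℕ) (h : tabOK l li = true) : Equiv.Perm GolayPt where
  toFun := tabFun l
  invFun := tabFun li
  left_inv p := by
    obtain ⟨h1, -, h3, -⟩ := tabOK_spec h (idx p) (idx_lt p)
    unfold tabFun
    rw [idx_pt _ h1, h3, pt_idx]
  right_inv p := by
    obtain ⟨-, h2, -, h4⟩ := tabOK_spec h (idx p) (idx_lt p)
    unfold tabFun
    rw [idx_pt _ h2, h4, pt_idx]

theorem tab_permOfTab (l li : List ℕ) (h : tabOK l li = true) : Tab (permOfTab l li h) l := by
  intro p
  show idx (pt (l.getD (idx p) 0)) = _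
  rw [idx_pt _ (tabOK_spec h (idx p) (idx_lt p)).1]

theorem idx_permOfTab_symm (l li : List ℕ) (h : tabOK l li = true) (p : GolayPt) :
    idx ((permOfTab l li h).symm p) = li.getD (idx p) 0 := by
  show idx (pt (li.getD (idx p) 0)) = _
  rw [idx_pt _ (tabOK_spec h (idx p) (idx_lt p)).2.1]

/-- the check that a table gives an automorphism of the code -/
def m24OK (l : List ℕ) : Bool :=
  (List.range 23).all fun j => Nat.beq (encMask (permMask l (genMask j))) (permMask l (genMask j))

theorem permOfTab_mem (l li : List ℕ) (h : tabOK l li = true) (hm : m24OK l = true) :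
    permOfTab l li h ∈ M24 := by
  apply mem_M24_of_tab (tab_permOfTab l li h)
  intro j hj
  unfold m24OK at hm
  rw [List.all_eq_true] at hm
  have := hm j (List.mem_range.mpr hj)
  rwa [Nat.beq_eq] at this

/-- the check that a mask is a code word -/
def codeOK (cm : ℕ) : Bool := decide (cm < 2 ^ 24) && Nat.beq (encMask cm) cm

theorem ofMask_code (cm : ℕ) (h : codeOK cm = true) : ofMask cm ∈ Code := by
  unfold codeOK at h
  simp only [Bool.and_eq_true, decide_eq_true_eq, Nat.beq_eq] at h
  exact (ofMask_mem_iff cm h.1).mpr h.2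

/-! ### Actions on lists -/

theorem vecOf_pt (l : List ℤ) (i : ℕ) (hi : i < 24) : vecOf l (pt i) = l.getD i 0 := by
  unfold vecOf
  rw [idx_pt i hi]

/-- a signed permutation acting on a list of coordinates -/
def monoL (li : List ℕ) (cm : ℕ) (v : List ℤ) : List ℤ :=
  (List.range 24).map fun i =>
    if cm.testBit i = true then -(v.getD (li.getD i 0) 0) else v.getD (li.getD i 0) 0

theorem vecOf_monoL (l li : List ℕ) (h : tabOK l li = true) (cm : ℕ) (v : List ℤ) :
    signedPerm (permOfTab l li h) (ofMask cm) (vecOf v) = vecOf (monoL li cm v) := by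
  funext i
  rw [signedPerm_apply]
  unfold vecOf monoL
  rw [getD_map_range _ _ _ _ (idx_lt i), idx_permOfTab_symm]
  by_cases hc : cm.testBit (idx i) = true
  · rw [if_pos hc, if_pos ((mem_ofMask cm i).mpr hc)]
  · rw [if_neg hc, if_neg (fun h' => hc ((mem_ofMask cm i).mp h'))]

/-- the sum of the entries of a list over a tetrad -/
def tsumL (v : List ℤ) (k : ℕ) : ℤ :=
  ((List.range 24).map fun j => if tetTab.getD j 0 = k then v.getD j 0 else 0).sum

theorem tsum_vecOf (v : List ℤ) (k : ℕ) : tsum (vecOf v) k = tsumL v k := by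
  unfold tsum tsumL
  rw [sum_allPts]
  unfold allPts
  rw [List.map_map]
  apply congrArg
  apply List.map_congr_left
  intro j hj
  rw [List.mem_range] at hj
  simp only [Function.comp_apply]
  unfold tet
  rw [idx_pt j hj, vecOf_pt v j hj]

/-- the extra automorphism acting on a list of coordinates -/
def xiL (v : List ℤ) : List ℤ :=
  (List.range 24).map fun i =>
    if tetTab.getD i 0 = 0 then -(v.getD i 0 - tsumL v (tetTab.getD i 0) / 2)
    else v.getD i 0 - tsumL v (tetTab.getD i 0) / 2

theorem vecOf_xiL (v : List ℤ) : xiFun (vecOf v) = vecOf (xiL v) := by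
  funext i
  unfold xiFun
  rw [tsum_vecOf]
  unfold xiL
  show _ = ((List.range 24).map _).getD (idx i) 0
  rw [getD_map_range _ _ _ _ (idx_lt i)]
  rfl

/-! ### Good actions -/

/-- a map of lists realised by an automorphism of the lattice -/
def GoodAct (f : List ℤ → List ℤ) : Prop :=
  ∃ g : Equiv.Perm leechLattice, g ∈ Co0 ∧
    ∀ (x : leechLattice) (v : List ℤ), x.1 = vecOf v → (g x).1 = vecOf (f v)

theorem goodAct_id : GoodAct id := ⟨1, Co0.one_mem, fun _ _ h => h⟩

theorem GoodAct.comp {f f' : List ℤ → List ℤ} (h : GoodAct f) (h' : GoodAct f') :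
    GoodAct (f' ∘ f) := by
  obtain ⟨g, hg, hgf⟩ := h
  obtain ⟨g', hg', hgf'⟩ := h'
  exact ⟨g' * g, Co0.mul_mem hg' hg, fun x v hx => hgf' (g x) (f v) (hgf x v hx)⟩

theorem goodAct_mono (l li : List ℕ) (cm : ℕ) (h : tabOK l li = true) (hm : m24OK l = true)
    (hc : codeOK cm = true) : GoodAct (monoL li cm) := by
  refine ⟨monoPerm (permOfTab l li h) (ofMask cm) (permOfTab_mem l li h hm) (ofMask_code cm hc),
    monoPerm_mem _ _ _ _, fun x v hx => ?_⟩
  rw [monoPerm_val, hx, vecOf_monoL]

theorem goodAct_xi : GoodAct xiL :=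
  ⟨xiPerm, xiPerm_mem, fun x v hx => by rw [xiPerm_val, hx, vecOf_xiL]⟩

end Cfsg.Agent.Helper7
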