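import Cfsg.Agent.Lib.Helper7.LeechCount
import Cfsg.Agent.Lib.Helper7.LeechShapes

/-!
# Counting lattice vectors of given norm with coordinate conditions depending on the point

A generalisation of `LeechCount`: the Boolean condition on a coordinate may depend on the
coordinate for finitely many special points.
-/

set_option autoImplicit false

namespace Cfsg.Agent.Helper7
open Cfsg Cfsg.Agent.Helper91

/-! ### Grouping a sum by a key -/

theorem sum_by_key {κ : Type*} [DecidableEq κ] (l : List ℕ) (f : ℕ → κ) (g : κ → ℕ) :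
    (l.map (fun a => g (f a))).sum =
      ((l.map f).dedup.map (fun k => l.countP (fun a => decide (f a = k)) * g k)).sum := by
  have h1 : l.map (fun a => g (f a)) = (l.map f).map g := by
    rw [List.map_map]; rfl
  have h2 : (l.map f).dedup.toFinset = (l.map f).toFinset := by
    ext k; simp
  rw [h1, Finset.sum_list_map_count, ← List.sum_toFinset _ (List.nodup_dedup _), h2]
  apply Finset.sum_congr rfl
  intro k _
  rw [smul_eq_mul, List.count_eq_countP, List.countP_map]
  congr 2

theorem sum_by_keys {κ : Type*} [DecidableEq κ] (l : List ℕ) (f : ℕ → κ) (g : κ → ℕ)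
    (keys : List κ) (hk : keys.Nodup) (hcov : ∀ a ∈ l, f a ∈ keys) :
    (l.map (fun a => g (f a))).sum =
      (keys.map (fun k => l.countP (fun a => decide (f a = k)) * g k)).sum := by
  have h1 : l.map (fun a => g (f a)) = (l.map f).map g := by
    rw [List.map_map]; rfl
  rw [h1, Finset.sum_list_map_count, ← List.sum_toFinset _ hk]
  have hsub : (l.map f).toFinset ⊆ keys.toFinset := by
    intro k hk'
    rw [List.mem_toFinset, List.mem_map] at hk'
    obtain ⟨a, ha, rfl⟩ := hk'
    exact List.mem_toFinset.mpr (hcov a ha)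
  rw [← Finset.sum_subset hsub]
  · apply Finset.sum_congr rfl
    intro k _
    rw [smul_eq_mul, List.count_eq_countP, List.countP_map]
    congr 2
  · intro k _ hk'
    rw [List.mem_toFinset] at hk'
    rw [List.countP_eq_zero.mpr, Nat.zero_mul]
    intro a ha
    rw [decide_eq_true_eq]
    rintro rfl
    exact hk' (List.mem_map.mpr ⟨a, ha, rfl⟩)

/-! ### Sums along a complete duplicate-free list -/

theorem sum_list_all {M : Type*} [AddCommMonoid M] (L : List GolayPt) (hnd : L.Nodup)
    (hall : ∀ p, p ∈ L) (f : GolayPt → M) : (L.map f).sum = ∑ i, f i := by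
  rw [← List.sum_toFinset f hnd]
  congr 1
  exact Finset.eq_univ_iff_forall.mpr (fun p => List.mem_toFinset.mpr (hall p))

theorem QL_list (L : List GolayPt) (hnd : L.Nodup) (hall : ∀ p, p ∈ L) (x : GolayPt → ℤ)
    (n r : ℕ) : QL n r (L.map x) ↔ sqNorm x = n ∧ (∑ i, x i) % 8 = r := by
  rw [← QL_ordS ∅ x n r]
  unfold QL
  rw [List.map_map, List.map_map, List.map_map, List.map_map, sum_list_all L hnd hall,
    sum_list_all L hnd hall, sum_ordS, sum_ordS]

/-! ### Tables over a prefix -/

/-- the dynamic programme over a prefix of value lists, on top of a given table -/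
def tabsOn : List (List ℤ) → List (List ℕ) → List (List ℕ)
  | [], T => T
  | V :: Vs, T => tab (stepC (V.map encT) (look (tabsOn Vs T)))

theorem tabs_append (A B : List (List ℤ)) : tabs (A ++ B) = tabsOn A (tabs B) := by
  induction A with
  | nil => rfl
  | cons V Vs ih => simp only [List.cons_append, tabs, tabsOn, ih]

/-! ### The general fibre -/

/-- the fibre over a parity and a code word, with a condition depending on the point -/
def fibG (R : GolayPt → ℤ → Bool) (n e : ℕ) (S : Finset GolayPt) : Set (GolayPt → ℤ) :=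
  {x | x ∈ fibL (fun _ => true) n e S ∧ ∀ i, R i (x i) = true}

theorem leech_decompG (R : GolayPt → ℤ → Bool) (n : ℕ) :
    {x : GolayPt → ℤ | x ∈ leechLattice ∧ sqNorm x = n ∧ ∀ i, R i (x i) = true} =
      ⋃ k ∈ (fibKeys : Set (ℕ × Finset GolayPt)), fibG R n k.1 k.2 := by
  have h := leech_decomp (fun _ => true) n
  ext x
  have hx : x ∈ {x : GolayPt → ℤ | x ∈ leechLattice ∧ sqNorm x = n ∧
      ∀ i, (fun _ : ℤ => true) (x i) = true} ↔
      x ∈ ⋃ k ∈ (fibKeys : Set (ℕ × Finset GolayPt)), fibL (fun _ => true) n k.1 k.2 := by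
    rw [h]
  simp only [Set.mem_ofPred_eq, Set.mem_iUnion, Finset.mem_coe, exists_prop, implies_true,
    and_true] at hx
  simp only [Set.mem_ofPred_eq, Set.mem_iUnion, Finset.mem_coe, exists_prop, fibG]
  constructor
  · rintro ⟨h1, h2, h3⟩
    obtain ⟨k, hk, hxk⟩ := hx.mp ⟨h1, h2⟩
    exact ⟨k, hk, hxk, h3⟩
  · rintro ⟨k, hk, hxk, h3⟩
    obtain ⟨h1, h2⟩ := hx.mpr ⟨k, hk, hxk⟩
    exact ⟨h1, h2, h3⟩

theorem fibG_subset (R : GolayPt → ℤ → Bool) (n e : ℕ) (S : Finset GolayPt) :
    fibG R n e S ⊆ fibL (fun _ => true) n e S := fun _ hx => hx.1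

/-- the list of values allowed at a point -/
def valsG (R : GolayPt → ℤ → Bool) (e : ℕ) (S : Finset GolayPt) (i : GolayPt) : List ℤ :=
  (if i ∈ S then vRes ((e : ℤ) + 2) else vRes (e : ℤ)).filter (R i)

theorem valsG_nodup (R : GolayPt → ℤ → Bool) (e : ℕ) (S : Finset GolayPt) (i : GolayPt) :
    (valsG R e S i).Nodup := by
  unfold valsG
  split_ifs <;> exact (vRes_nodup _).filter _

theorem fibG_eq (R : GolayPt → ℤ → Bool) (n : ℕ) (hn : n < 65) (e : ℕ) (he : e < 2)
    (S : Finset GolayPt) (L : List GolayPt) (hnd : L.Nodup) (hall : ∀ p, p ∈ L) :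
    fibG R n e S = {x : GolayPt → ℤ | (∀ i, x i ∈ valsG R e S i) ∧ QL n (4 * e) (L.map x)} := by
  ext x
  unfold fibG
  rw [fibL_eq (fun _ => true) n hn e he S]
  simp only [Set.mem_ofPred_eq, QL_list L hnd hall, QL_ordS, valsG]
  constructor
  · rintro ⟨⟨h1, h2⟩, h3⟩
    refine ⟨fun i => ?_, h2⟩
    have hi := h1 i
    split_ifs at hi ⊢ with hS
    · rw [List.mem_filter] at hi ⊢
      exact ⟨hi.1, h3 i⟩
    · rw [List.mem_filter] at hi ⊢
      exact ⟨hi.1, h3 i⟩
  · rintro ⟨h1, h2⟩
    refine ⟨⟨fun i => ?_, h2⟩, fun i => ?_⟩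
    · have hi := h1 i
      split_ifs at hi ⊢ with hS
      · rw [List.mem_filter] at hi ⊢
        exact ⟨hi.1, rfl⟩
      · rw [List.mem_filter] at hi ⊢
        exact ⟨hi.1, rfl⟩
    · have hi := h1 i
      split_ifs at hi with hS
      · exact (List.mem_filter.mp hi).2
      · exact (List.mem_filter.mp hi).2

theorem ncard_fibG (R : GolayPt → ℤ → Bool) (n : ℕ) (hn : n < 65) (e : ℕ) (he : e < 2)
    (S : Finset GolayPt) (L : List GolayPt) (hnd : L.Nodup) (hall : ∀ p, p ∈ L) :
    (fibG R n e S).ncard = look (tabs (L.map (valsG R e S))) n (4 * e) := by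
  rw [fibG_eq R n hn e he S L hnd hall,
    ncard_fun_eq_countP L hnd hall (valsG R e S) (valsG_nodup R e S) (QL n (4 * e)),
    countP_vecs _ _ _ hn (by omega)]

/-! ### Special points first -/

/-- the points outside a list -/
def restPts (sp : List GolayPt) : List GolayPt := allPts.filter fun p => decide (p ∉ sp)

theorem mem_restPts (sp : List GolayPt) (p : GolayPt) : p ∈ restPts sp ↔ p ∉ sp := by
  unfold restPts
  rw [List.mem_filter, decide_eq_true_eq]
  exact ⟨fun h => h.2, fun h => ⟨mem_allPts p, h⟩⟩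

/-- the ordering: special points, then the remaining points of `S`, then the others -/
def ordSp (sp : List GolayPt) (S : Finset GolayPt) : List GolayPt :=
  sp ++ ((restPts sp).filter (fun p => decide (p ∈ S)) ++
    (restPts sp).filter (fun p => !decide (p ∈ S)))

theorem ordSp_perm (sp : List GolayPt) (S : Finset GolayPt) :
    (ordSp sp S).Perm (sp ++ restPts sp) :=
  List.Perm.append_left _ (List.filter_append_perm _ _)

theorem ordSp_nodup (sp : List GolayPt) (hsp : sp.Nodup) (S : Finset GolayPt) :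
    (ordSp sp S).Nodup := by
  rw [(ordSp_perm sp S).nodup_iff, List.nodup_append]
  refine ⟨hsp, allPts_nodup.filter _, ?_⟩
  intro a ha b hb hab
  subst hab
  exact (mem_restPts sp a).mp hb ha

theorem mem_ordSp (sp : List GolayPt) (S : Finset GolayPt) (p : GolayPt) : p ∈ ordSp sp S := by
  rw [(ordSp_perm sp S).mem_iff, List.mem_append, mem_restPts]
  exact em _

theorem ordSp_map (sp : List GolayPt) (S : Finset GolayPt) (R : GolayPt → ℤ → Bool)
    (R0 : ℤ → Bool) (hR : ∀ i, i ∉ sp → R i = R0) (e : ℕ) :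
    (ordSp sp S).map (valsG R e S) = sp.map (valsG R e S) ++
      (List.replicate ((restPts sp).filter (fun p => decide (p ∈ S))).length
        ((vRes ((e : ℤ) + 2)).filter R0) ++
      (List.replicate ((restPts sp).filter (fun p => !decide (p ∈ S))).length
        ((vRes (e : ℤ)).filter R0) ++ [])) := by
  unfold ordSp
  rw [List.map_append, List.map_append, List.append_nil]
  congr 2
  · rw [← List.map_const']
    apply List.map_congr_left
    intro i hi
    rw [List.mem_filter, decide_eq_true_eq, mem_restPts] at hi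
    unfold valsG
    rw [if_pos hi.2, hR i hi.1]
  · rw [← List.map_const']
    apply List.map_congr_left
    intro i hi
    rw [List.mem_filter, mem_restPts] at hi
    have h2 : i ∉ S := by simpa using hi.2
    unfold valsG
    rw [if_neg h2, hR i hi.1]

/-- the number of ordinary points inside the code word of a mask -/
def kIn (sp : List GolayPt) (m : ℕ) : ℕ :=
  ((restPts sp).filter fun p => m.testBit (idx p)).length

/-- the number of ordinary points outside the code word of a mask -/
def kOut (sp : List GolayPt) (m : ℕ) : ℕ :=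
  ((restPts sp).filter fun p => !m.testBit (idx p)).length

/-- the data of a mask on which the count of its fibre depends -/
def keyOf (sp : List GolayPt) (m : ℕ) : ℕ × ℕ × List Bool :=
  (kIn sp m, kOut sp m, sp.map fun p => m.testBit (idx p))

/-- the value lists of the special points -/
def spLists (R : GolayPt → ℤ → Bool) (e : ℕ) : List GolayPt → List Bool → List (List ℤ)
  | p :: ps, b :: bs =>
      ((if b = true then vRes ((e : ℤ) + 2) else vRes (e : ℤ)).filter (R p)) :: spLists R e ps bs
  | _, _ => []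

theorem spLists_eq (R : GolayPt → ℤ → Bool) (e : ℕ) (m : ℕ) : ∀ sp : List GolayPt,
    sp.map (valsG R e (ofMask m)) = spLists R e sp (sp.map fun p => m.testBit (idx p))
  | [] => rfl
  | p :: ps => by
      rw [List.map_cons, List.map_cons, spLists, spLists_eq R e m ps]
      congr 1
      unfold valsG
      by_cases h : m.testBit (idx p) = true
      · rw [if_pos h, if_pos ((mem_ofMask m p).mpr h)]
      · rw [if_neg h, if_neg (fun h' => h ((mem_ofMask m p).mp h'))]

/-- the number computed by the dynamic programme for a key -/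
def fibNumG (sp : List GolayPt) (R : GolayPt → ℤ → Bool) (R0 : ℤ → Bool) (n e : ℕ)
    (key : ℕ × ℕ × List Bool) : ℕ :=
  look (tabsOn (spLists R e sp key.2.2)
    (iterT (((vRes ((e : ℤ) + 2)).filter R0).map encT) key.1
      (iterT (((vRes (e : ℤ)).filter R0).map encT) key.2.1 (tab baseC)))) n (4 * e)

theorem ncard_fibG_mask (sp : List GolayPt) (hsp : sp.Nodup) (R : GolayPt → ℤ → Bool)
    (R0 : ℤ → Bool) (hR : ∀ i, i ∉ sp → R i = R0) (n : ℕ) (hn : n < 65) (e : ℕ) (he : e < 2)
    (m : ℕ) : (fibG R n e (ofMask m)).ncard = fibNumG sp R R0 n e (keyOf sp m) := by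
  rw [ncard_fibG R n hn e he (ofMask m) (ordSp sp (ofMask m)) (ordSp_nodup sp hsp _)
    (mem_ordSp sp _), ordSp_map sp _ R R0 hR e, tabs_append, tabs_replicate_append,
    tabs_replicate_append, spLists_eq]
  have h1 : (restPts sp).filter (fun p => decide (p ∈ ofMask m)) =
      (restPts sp).filter fun p => m.testBit (idx p) := by
    apply List.filter_congr
    intro p _
    by_cases h : m.testBit (idx p) = true
    · rw [h, decide_eq_true ((mem_ofMask m p).mpr h)]
    · rw [Bool.not_eq_true] at h
      rw [h, decide_eq_false (fun h' => by rw [mem_ofMask, h] at h'; exact Bool.false_ne_true h')]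
  have h2 : (restPts sp).filter (fun p => !decide (p ∈ ofMask m)) =
      (restPts sp).filter fun p => !m.testBit (idx p) := by
    apply List.filter_congr
    intro p _
    by_cases h : m.testBit (idx p) = true
    · rw [h, decide_eq_true ((mem_ofMask m p).mpr h)]
    · rw [Bool.not_eq_true] at h
      rw [h, decide_eq_false (fun h' => by rw [mem_ofMask, h] at h'; exact Bool.false_ne_true h')]
  rw [h1, h2]
  rfl

/-! ### The total count -/

/-- the keys of the code words with their multiplicities -/
def keyCounts (sp : List GolayPt) : List ((ℕ × ℕ × List Bool) × ℕ) :=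
  (codeList.map (keyOf sp)).dedup.map fun k =>
    (k, codeList.countP fun a => decide (keyOf sp a = k))

/-- a sum over the keys with multiplicities -/
def grp (kc : List ((ℕ × ℕ × List Bool) × ℕ)) (g : ℕ × ℕ × List Bool → ℕ) : ℕ :=
  (kc.map fun p => p.2 * g p.1).sum

/-- the number of lattice vectors of norm `n` with the conditions `R` -/
def leechNumG (sp : List GolayPt) (kc : List ((ℕ × ℕ × List Bool) × ℕ))
    (R : GolayPt → ℤ → Bool) (R0 : ℤ → Bool) (n : ℕ) : ℕ :=
  grp kc (fibNumG sp R R0 n 0) + grp kc (fibNumG sp R R0 n 1)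

theorem sum_codeFinset_key (sp : List GolayPt) (f : Finset GolayPt → ℕ)
    (g : ℕ × ℕ × List Bool → ℕ) (h : ∀ m, f (ofMask m) = g (keyOf sp m)) :
    ∑ S ∈ codeFinset, f S = grp (keyCounts sp) g := by
  unfold codeFinset
  rw [List.sum_toFinset _ codeList_map_nodup, List.map_map]
  have : codeList.map (f ∘ ofMask) = codeList.map (fun m => g (keyOf sp m)) := by
    apply List.map_congr_left
    intro m _
    exact h m
  rw [this, sum_by_key]
  unfold grp keyCounts
  rw [List.map_map]
  rfl

theorem fibG_finite (R : GolayPt → ℤ → Bool) (n : ℕ) (hn : n < 65) (e : ℕ)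
    (S : Finset GolayPt) : (fibG R n e S).Finite :=
  (fibL_finite (fun _ => true) n hn e S).subset (fibG_subset R n e S)

theorem leech_ncardG (sp : List GolayPt) (hsp : sp.Nodup) (R : GolayPt → ℤ → Bool)
    (R0 : ℤ → Bool) (hR : ∀ i, i ∉ sp → R i = R0) (n : ℕ) (hn : n < 65) :
    {x : GolayPt → ℤ | x ∈ leechLattice ∧ sqNorm x = n ∧ ∀ i, R i (x i) = true}.ncard =
      leechNumG sp (keyCounts sp) R R0 n := by
  rw [leech_decompG, Set.Finite.ncard_biUnion (Finset.finite_toSet _)
    (fun k _ => fibG_finite R n hn k.1 k.2), finsum_mem_coe_finset]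
  · unfold fibKeys
    rw [Finset.sum_product, Finset.sum_pair (by decide)]
    simp only
    rw [sum_codeFinset_key sp (fun S => (fibG R n 0 S).ncard) (fibNumG sp R R0 n 0)
        (fun m => ncard_fibG_mask sp hsp R R0 hR n hn 0 (by norm_num) m),
      sum_codeFinset_key sp (fun S => (fibG R n 1 S).ncard) (fibNumG sp R R0 n 1)
        (fun m => ncard_fibG_mask sp hsp R R0 hR n hn 1 (by norm_num) m)]
    rfl
  · intro k hk k' hk' hne
    exact (fibL_disjoint (fun _ => true) n k.1 k'.1 ((mem_fibKeys k).mp hk).1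
      ((mem_fibKeys k').mp hk').1 k.2 k'.2 hne).mono (fibG_subset R n _ _) (fibG_subset R n _ _)

/-! ### Numeric keys, fast for the kernel -/

/-- the bits of a mask at a list of positions, as a number -/
def bitsNum (spIdx : List ℕ) (m : ℕ) : ℕ :=
  spIdx.foldr (fun i acc => (m.testBit i).toNat + 2 * acc) 0

/-- the first bits of a number -/
def bitsOf : ℕ → ℕ → List Bool
  | 0, _ => []
  | k + 1, b => b.testBit 0 :: bitsOf k (b / 2)

theorem bitsOf_bitsNum (m : ℕ) : ∀ sp : List GolayPt,
    bitsOf sp.length (bitsNum (sp.map idx) m) = sp.map fun p => m.testBit (idx p)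
  | [] => rfl
  | p :: ps => by
      have ih := bitsOf_bitsNum m ps
      simp only [List.map_cons, List.length_cons, bitsNum, List.foldr_cons, bitsOf] at ih ⊢
      congr 1
      · cases m.testBit (idx p) <;> simp [Nat.testBit_zero]
      · rw [← ih]
        congr 1
        cases m.testBit (idx p) <;> simp
        omega

/-- the numeric key of a mask -/
def keyN (spIdx : List ℕ) (rm : ℕ) (m : ℕ) : ℕ := popcF (Nat.land m rm) + 32 * bitsNum spIdx m

/-- decoding the numeric key -/
def decKey (len : ℕ) (rm : ℕ) (k : ℕ) : ℕ × ℕ × List Bool :=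
  (k % 32, popcF rm - k % 32, bitsOf len (k / 32))

theorem popcF_le (n : ℕ) : popcF n ≤ 24 := by
  rw [← card_ofMask']
  exact (Finset.card_le_univ _).trans (by decide)

theorem kIn_eq (sp : List GolayPt) (rm : ℕ) (hrm : ∀ p, rm.testBit (idx p) = decide (p ∉ sp))
    (m : ℕ) : kIn sp m = popcF (Nat.land m rm) := by
  rw [← card_ofMask', ← length_filter_mem]
  unfold kIn restPts
  rw [List.filter_filter]
  congr 1
  apply List.filter_congr
  intro p _
  have h : Nat.land m rm = m &&& rm := rfl
  rw [h]
  have hp := hrm p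
  by_cases h1 : m.testBit (idx p) = true <;> by_cases h2 : p ∈ sp <;>
    simp [h1, h2, mem_ofMask, Nat.testBit_and, hp]

theorem restPts_length (sp : List GolayPt) (rm : ℕ)
    (hrm : ∀ p, rm.testBit (idx p) = decide (p ∉ sp)) : (restPts sp).length = popcF rm := by
  rw [← card_ofMask', ← length_filter_mem]
  unfold restPts
  congr 1
  apply List.filter_congr
  intro p _
  have hp := hrm p
  by_cases h2 : p ∈ sp <;> simp [h2, mem_ofMask, hp]

theorem kOut_eq (sp : List GolayPt) (rm : ℕ) (hrm : ∀ p, rm.testBit (idx p) = decide (p ∉ sp))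
    (m : ℕ) : kOut sp m = popcF rm - popcF (Nat.land m rm) := by
  rw [← kIn_eq sp rm hrm m, ← restPts_length sp rm hrm]
  have h := (List.filter_append_perm (fun p => m.testBit (idx p)) (restPts sp)).length_eq
  rw [List.length_append] at h
  unfold kOut kIn
  omega

theorem keyOf_eq (sp : List GolayPt) (rm : ℕ) (hrm : ∀ p, rm.testBit (idx p) = decide (p ∉ sp))
    (m : ℕ) : keyOf sp m = decKey sp.length rm (keyN (sp.map idx) rm m) := by
  have h1 := popcF_le (Nat.land m rm)
  unfold keyOf decKey keyN
  have e1 : (popcF (Nat.land m rm) + 32 * bitsNum (sp.map idx) m) % 32 = popcF (Nat.land m rm) := by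
    omega
  have e2 : (popcF (Nat.land m rm) + 32 * bitsNum (sp.map idx) m) / 32 = bitsNum (sp.map idx) m := by
    omega
  rw [e1, e2, bitsOf_bitsNum, kIn_eq sp rm hrm, kOut_eq sp rm hrm]

/-- the numeric keys of the code words with their multiplicities -/
def keyCountsN (keys : List ℕ) (spIdx : List ℕ) (rm : ℕ) : List (ℕ × ℕ) :=
  keys.map fun k => (k, codeList.countP fun a => decide (keyN spIdx rm a = k))

/-- a sum over the numeric keys with multiplicities -/
def grpN (kc : List (ℕ × ℕ)) (g : ℕ → ℕ) : ℕ := (kc.map fun p => p.2 * g p.1).sum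

/-- the number of lattice vectors of norm `n` with the conditions `R`, via numeric keys -/
def leechNumN (sp : List GolayPt) (rm : ℕ) (kc : List (ℕ × ℕ))
    (R : GolayPt → ℤ → Bool) (R0 : ℤ → Bool) (n : ℕ) : ℕ :=
  grpN kc (fun k => fibNumG sp R R0 n 0 (decKey sp.length rm k)) +
  grpN kc (fun k => fibNumG sp R R0 n 1 (decKey sp.length rm k))

theorem sum_codeFinset_keyN (sp : List GolayPt) (rm : ℕ)
    (hrm : ∀ p, rm.testBit (idx p) = decide (p ∉ sp)) (keys : List ℕ) (hk : keys.Nodup)
    (hcov : ∀ a ∈ codeList, keyN (sp.map idx) rm a ∈ keys) (f : Finset GolayPt → ℕ)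
    (g : ℕ × ℕ × List Bool → ℕ) (h : ∀ m, f (ofMask m) = g (keyOf sp m)) :
    ∑ S ∈ codeFinset, f S =
      grpN (keyCountsN keys (sp.map idx) rm) (fun k => g (decKey sp.length rm k)) := by
  unfold codeFinset
  rw [List.sum_toFinset _ codeList_map_nodup, List.map_map]
  have : codeList.map (f ∘ ofMask) =
      codeList.map (fun m => (fun k => g (decKey sp.length rm k)) (keyN (sp.map idx) rm m)) := by
    apply List.map_congr_left
    intro m _
    simp only [Function.comp_apply]
    rw [h m, keyOf_eq sp rm hrm]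
  rw [this, sum_by_keys codeList (keyN (sp.map idx) rm) (fun k => g (decKey sp.length rm k))
    keys hk hcov]
  unfold grpN keyCountsN
  rw [List.map_map]
  rfl

theorem leech_ncardN (sp : List GolayPt) (hsp : sp.Nodup) (rm : ℕ)
    (hrm : ∀ p, rm.testBit (idx p) = decide (p ∉ sp)) (keys : List ℕ) (hk : keys.Nodup)
    (hcov : ∀ a ∈ codeList, keyN (sp.map idx) rm a ∈ keys) (R : GolayPt → ℤ → Bool)
    (R0 : ℤ → Bool) (hR : ∀ i, i ∉ sp → R i = R0) (n : ℕ) (hn : n < 65) :
    {x : GolayPt → ℤ | x ∈ leechLattice ∧ sqNorm x = n ∧ ∀ i, R i (x i) = true}.ncard =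
      leechNumN sp rm (keyCountsN keys (sp.map idx) rm) R R0 n := by
  rw [leech_decompG, Set.Finite.ncard_biUnion (Finset.finite_toSet _)
    (fun k _ => fibG_finite R n hn k.1 k.2), finsum_mem_coe_finset]
  · unfold fibKeys
    rw [Finset.sum_product, Finset.sum_pair (by decide)]
    simp only
    rw [sum_codeFinset_keyN sp rm hrm keys hk hcov (fun S => (fibG R n 0 S).ncard)
        (fibNumG sp R R0 n 0) (fun m => ncard_fibG_mask sp hsp R R0 hR n hn 0 (by norm_num) m),
      sum_codeFinset_keyN sp rm hrm keys hk hcov (fun S => (fibG R n 1 S).ncard)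
        (fibNumG sp R R0 n 1) (fun m => ncard_fibG_mask sp hsp R R0 hR n hn 1 (by norm_num) m)]
    rfl
  · intro k hk k' hk' hne
    exact (fibL_disjoint (fun _ => true) n k.1 k'.1 ((mem_fibKeys k).mp hk).1
      ((mem_fibKeys k').mp hk').1 k.2 k'.2 hne).mono (fibG_subset R n _ _) (fibG_subset R n _ _)

/-! ### Prescribed values at special points -/

/-- the condition that the coordinates listed in `al` have the listed values -/
def Rat (al : List (GolayPt × ℤ)) (i : GolayPt) (z : ℤ) : Bool :=
  al.all fun pv => !decide (pv.1 = i) || decide (z = pv.2)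

theorem Rat_iff (al : List (GolayPt × ℤ)) (x : GolayPt → ℤ) :
    (∀ i, Rat al i (x i) = true) ↔ ∀ pv ∈ al, x pv.1 = pv.2 := by
  unfold Rat
  simp only [List.all_eq_true, Bool.or_eq_true, Bool.not_eq_true', decide_eq_false_iff_not,
    decide_eq_true_eq]
  constructor
  · intro h pv hpv
    rcases h pv.1 pv hpv with h1 | h1
    · exact absurd rfl h1
    · exact h1
  · intro h i pv hpv
    by_cases hi : pv.1 = i
    · right; rw [← hi]; exact h pv hpv
    · left; exact hi

theorem Rat_of_not_mem (al : List (GolayPt × ℤ)) (i : GolayPt) (hi : i ∉ al.map Prod.fst) :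
    Rat al i = fun _ => true := by
  funext z
  unfold Rat
  rw [List.all_eq_true]
  intro pv hpv
  have : pv.1 ≠ i := by
    rintro rfl
    exact hi (List.mem_map.mpr ⟨pv, hpv, rfl⟩)
  simp [this]

/-- the number of lattice vectors of norm `n` with prescribed coordinates -/
def leechNumAt (rm : ℕ) (kc : List (ℕ × ℕ)) (al : List (GolayPt × ℤ)) (n : ℕ) : ℕ :=
  leechNumN (al.map Prod.fst) rm kc (Rat al) (fun _ => true) n

theorem leech_ncard_at (al : List (GolayPt × ℤ)) (hal : (al.map Prod.fst).Nodup) (rm : ℕ)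
    (hrm : ∀ p, rm.testBit (idx p) = decide (p ∉ al.map Prod.fst)) (keys : List ℕ)
    (hk : keys.Nodup) (hcov : ∀ a ∈ codeList, keyN ((al.map Prod.fst).map idx) rm a ∈ keys)
    (n : ℕ) (hn : n < 65) :
    {x : GolayPt → ℤ | x ∈ leechLattice ∧ sqNorm x = n ∧ ∀ pv ∈ al, x pv.1 = pv.2}.ncard =
      leechNumAt rm (keyCountsN keys ((al.map Prod.fst).map idx) rm) al n := by
  unfold leechNumAt
  rw [← leech_ncardN (al.map Prod.fst) hal rm hrm keys hk hcov (Rat al) (fun _ => true)
    (fun i hi => Rat_of_not_mem al i hi) n hn]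
  congr 1
  ext x
  simp only [Set.mem_ofPred_eq, Rat_iff]

/-- counting the vectors with a prescribed sum of two coordinates -/
theorem ncard_pair_sum (a b : GolayPt) (hab : a ≠ b) (rm : ℕ)
    (hrm : ∀ p, rm.testBit (idx p) = decide (p ∉ [a, b])) (keys : List ℕ)
    (hk : keys.Nodup) (hcov : ∀ m ∈ codeList, keyN [idx a, idx b] rm m ∈ keys)
    (d : ℤ) (n : ℕ) (hn : n < 65) :
    {x : GolayPt → ℤ | x ∈ leechLattice ∧ sqNorm x = n ∧ x a + x b = d}.ncard =
      ∑ k ∈ Finset.range 17,
        leechNumAt rm (keyCountsN keys [idx a, idx b] rm)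
          [(a, (k : ℤ) - 8), (b, d - ((k : ℤ) - 8))] n := by
  have hset : {x : GolayPt → ℤ | x ∈ leechLattice ∧ sqNorm x = n ∧ x a + x b = d} =
      ⋃ k ∈ ((Finset.range 17 : Finset ℕ) : Set ℕ), {x : GolayPt → ℤ | x ∈ leechLattice ∧
        sqNorm x = n ∧ ∀ pv ∈ [(a, (k : ℤ) - 8), (b, d - ((k : ℤ) - 8))], x pv.1 = pv.2} := by
    ext x
    simp only [Set.mem_ofPred_eq, Set.mem_iUnion, Finset.mem_coe, Finset.mem_range, exists_prop,
      List.mem_cons, List.not_mem_nil, or_false, forall_eq_or_imp, forall_eq]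
    constructor
    · rintro ⟨h1, h2, h3⟩
      have hb := coord_bound x n hn h2 a
      refine ⟨(x a + 8).toNat, by omega, h1, h2, by omega, by omega⟩
    · rintro ⟨k, -, h1, h2, h3, h4⟩
      exact ⟨h1, h2, by omega⟩
  rw [hset, Set.Finite.ncard_biUnion (Finset.finite_toSet _), finsum_mem_coe_finset]
  · apply Finset.sum_congr rfl
    intro k _
    exact leech_ncard_at [(a, (k : ℤ) - 8), (b, d - ((k : ℤ) - 8))]
      (by simp [hab]) rm hrm keys hk hcov n hn
  · intro k _
    exact (leech_norm_finite n hn).subset (fun x hx => ⟨hx.1, hx.2.1⟩)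
  · intro k _ k' _ hne
    show Disjoint _ _
    rw [Set.disjoint_left]
    intro x hx hx'
    apply hne
    have h1 := hx.2.2 (a, (k : ℤ) - 8) List.mem_cons_self
    have h2 := hx'.2.2 (a, (k' : ℤ) - 8) List.mem_cons_self
    simp only at h1 h2
    omega

end Cfsg.Agent.Helper7
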