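import Cfsg.Agent.Lib.Helper7.LeechMono

/-!
# Conway's extra automorphism of the Leech lattice attached to a sextet
-/

set_option autoImplicit false

namespace Cfsg.Agent.Helper7
open Cfsg Cfsg.Agent.Helper91 Cfsg.Agent.Helper92

/-- the tetrad (numbered 0 to 5) of the sextet containing a point -/
def tetTab : List ℕ := [0, 0, 0, 1, 2, 1, 3, 3, 4, 5, 5, 4, 4, 2, 1, 5, 2, 1, 4, 3, 5, 3, 2, 0]

def tet (p : GolayPt) : ℕ := tetTab.getD (idx p) 0

theorem tet_lt (p : GolayPt) : tet p < 6 := by revert p; decide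

theorem card_tet : ∀ k < 6, (Finset.univ.filter (fun p : GolayPt => tet p = k)).card = 4 := by
  decide

/-- the sum of the coordinates over a tetrad -/
def tsum (x : GolayPt → ℤ) (k : ℕ) : ℤ := ∑ j, if tet j = k then x j else 0

theorem sum_by_tet (f : GolayPt → ℤ) : ∑ i, f i = ∑ k ∈ Finset.range 6, tsum f k := by
  unfold tsum
  rw [Finset.sum_comm]
  apply Finset.sum_congr rfl
  intro i _
  rw [Finset.sum_ite_eq]
  simp [tet_lt]

theorem tsum_add (x y : GolayPt → ℤ) (k : ℕ) : tsum (x + y) k = tsum x k + tsum y k := by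
  unfold tsum
  rw [← Finset.sum_add_distrib]
  apply Finset.sum_congr rfl
  intro j _
  simp only [Pi.add_apply]
  split_ifs <;> simp

theorem tsum_const_mul (m : ℤ) (a : GolayPt → ℤ) (k : ℕ) (hk : k < 6) :
    tsum (fun i => m + 2 * a i) k = 4 * m + 2 * tsum a k := by
  unfold tsum
  have h1 : ∀ j, (if tet j = k then m + 2 * a j else 0) =
      (if tet j = k then m else 0) + 2 * (if tet j = k then a j else 0) := by
    intro j; split_ifs <;> ring
  rw [Finset.sum_congr rfl (fun j _ => h1 j), Finset.sum_add_distrib, ← Finset.mul_sum,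
    ← Finset.sum_filter, Finset.sum_const, card_tet k hk]
  simp

/-- the automorphism on integer vectors (meaningful when the tetrad sums are even) -/
def xiFun (x : GolayPt → ℤ) : GolayPt → ℤ := fun i =>
  if tet i = 0 then -(x i - tsum x (tet i) / 2) else x i - tsum x (tet i) / 2

/-- tetrad sums of a vector in `LP` form -/
theorem tsum_LP {x a : GolayPt → ℤ} {m : ℤ} (h1 : ∀ i, x i = m + 2 * a i) (k : ℕ) (hk : k < 6) :
    tsum x k = 4 * m + 2 * tsum a k := by
  have : x = fun i => m + 2 * a i := funext h1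
  rw [this, tsum_const_mul m a k hk]

theorem xiFun_LP {x a : GolayPt → ℤ} {m : ℤ} (h1 : ∀ i, x i = m + 2 * a i) (i : GolayPt) :
    xiFun x i = if tet i = 0 then -(x i - (2 * m + tsum a (tet i)))
      else x i - (2 * m + tsum a (tet i)) := by
  unfold xiFun
  rw [tsum_LP h1 _ (tet_lt i)]
  have : (4 * m + 2 * tsum a (tet i)) / 2 = 2 * m + tsum a (tet i) := by omega
  rw [this]

theorem tsum_congr {f g : GolayPt → ℤ} (k : ℕ) (h : ∀ j, tet j = k → f j = g j) :
    tsum f k = tsum g k := by
  unfold tsum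
  apply Finset.sum_congr rfl
  intro j _
  split_ifs with hj
  · exact h j hj
  · rfl

theorem tsum_affine (c s : ℤ) (a : GolayPt → ℤ) (k : ℕ) (hk : k < 6) :
    tsum (fun i => c + s * a i) k = 4 * c + s * tsum a k := by
  unfold tsum
  have h1 : ∀ j, (if tet j = k then c + s * a j else 0) =
      (if tet j = k then c else 0) + s * (if tet j = k then a j else 0) := by
    intro j; split_ifs <;> ring
  rw [Finset.sum_congr rfl (fun j _ => h1 j), Finset.sum_add_distrib, ← Finset.mul_sum,
    ← Finset.sum_filter, Finset.sum_const, card_tet k hk]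
  simp

/-- the tetrads as finite sets -/
def tetSet (k : ℕ) : Finset GolayPt := Finset.univ.filter (fun p => tet p = k)

/-- the masks of the unions of the first tetrad with the others -/
def tetPairMask : ℕ → ℕ
  | 1 => 8388615 ||| 147496
  | 2 => 8388615 ||| 4268048
  | 3 => 8388615 ||| 2621632
  | 4 => 8388615 ||| 268544
  | 5 => 8388615 ||| 1082880
  | _ => 0

theorem tetPair_eq : ∀ k, 1 ≤ k → k < 6 → tetSet k ∪ tetSet 0 = ofMask (tetPairMask k) := by
  decide

theorem tetPair_code : ∀ k, 1 ≤ k → k < 6 → encMask (tetPairMask k) = tetPairMask k := by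
  decide

theorem tetPair_lt : ∀ k, 1 ≤ k → k < 6 → tetPairMask k < 2 ^ 24 := by decide

theorem tetPair_mem (k : ℕ) (h1 : 1 ≤ k) (hk : k < 6) : tetSet k ∪ tetSet 0 ∈ Code := by
  rw [tetPair_eq k h1 hk]
  exact (ofMask_mem_iff _ (tetPair_lt k h1 hk)).mpr (tetPair_code k h1 hk)

theorem tetSet_disjoint (k : ℕ) (h1 : 1 ≤ k) : Disjoint (tetSet k) (tetSet 0) := by
  rw [Finset.disjoint_left]
  intro p hp hp'
  unfold tetSet at hp hp'
  rw [Finset.mem_filter] at hp hp'
  omega

/-- tetrad sums modulo 2 count the odd coordinates in the tetrad -/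
theorem tsum_mod_two (a : GolayPt → ℤ) (k : ℕ) :
    (2 : ℤ) ∣ tsum a k - ((support₂ (red a) ∩ tetSet k).card : ℤ) := by
  have hc : ((support₂ (red a) ∩ tetSet k).card : ℤ) =
      ∑ j, if tet j = k then (if Odd (a j) then (1 : ℤ) else 0) else 0 := by
    rw [Finset.card_eq_sum_ones, Nat.cast_sum]
    simp only [Nat.cast_one]
    rw [← Finset.sum_filter, ← Finset.sum_filter]
    apply Finset.sum_congr
    · ext j
      simp only [Finset.mem_inter, tetSet, Finset.mem_filter, Finset.mem_univ, true_and,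
        mem_support₂_red]
      tauto
    · intro _ _; rfl
  rw [hc]
  unfold tsum
  rw [← Finset.sum_sub_distrib]
  apply Finset.dvd_sum
  intro j _
  split_ifs with h1 h2
  · rw [Int.odd_iff] at h2; omega
  · rw [Int.not_odd_iff_even, Int.even_iff] at h2; omega
  · simp

/-- all tetrad sums of a vector reducing to a code word have the same parity -/
theorem tsum_parity (a : GolayPt → ℤ) (ha : red a ∈ golayCode) (k : ℕ) (hk : k < 6) :
    tsum a k % 2 = tsum a 0 % 2 := by
  by_cases h0 : k = 0
  · rw [h0]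
  have h1 : 1 ≤ k := by omega
  have hS : support₂ (red a) ∈ Code := ⟨_, ha, rfl⟩
  have heven := two_dvd_card_inter hS (tetPair_mem k h1 hk)
  rw [Finset.inter_union_distrib_left, Finset.card_union_of_disjoint] at heven
  · have ha1 := tsum_mod_two a k
    have ha0 := tsum_mod_two a 0
    omega
  · exact (tetSet_disjoint k h1).mono Finset.inter_subset_right Finset.inter_subset_right

/-- the word of a tetrad -/
def tetWord (k : ℕ) : GolayPt → ZMod 2 := fun i => if tet i = k then 1 else 0

theorem tetWord_pair_mem (k : ℕ) (h1 : 1 ≤ k) (hk : k < 6) :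
    tetWord k + tetWord 0 ∈ golayCode := by
  have h := tetPair_mem k h1 hk
  rw [mem_supports_iff] at h
  have e : tetWord k + tetWord 0 = indW (tetSet k ∪ tetSet 0) := by
    funext i
    unfold tetWord indW
    simp only [Pi.add_apply, Finset.mem_union, tetSet, Finset.mem_filter, Finset.mem_univ, true_and]
    by_cases hi : tet i = k
    · have : tet i ≠ 0 := by omega
      have hk0 : k ≠ 0 := by omega
      simp [hi, hk0]
    · by_cases hi0 : tet i = 0
      · have hk0 : 0 ≠ k := by omega
        simp [hi0, hk0]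
      · simp [hi, hi0]
  rw [e]
  exact h

/-- The extra automorphism preserves the lattice predicate. -/
theorem xiFun_LP_mem {x : GolayPt → ℤ} (hx : LP x) : LP (xiFun x) := by
  obtain ⟨m, a, h1, h2, h3⟩ := hx
  set p : ℤ := tsum a 0 % 2 with hp
  have hp01 : p = 0 ∨ p = 1 := by omega
  have hpar : ∀ k < 6, tsum a k % 2 = p := fun k hk => tsum_parity a h2 k hk
  -- the half-excesses
  set u : ℕ → ℤ := fun k => (tsum a k - p) / 2 with hu
  have hA : ∀ k < 6, tsum a k = p + 2 * u k := by
    intro k hk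
    have := hpar k hk
    simp only [hu]
    omega
  set m' : ℤ := -(m + p) with hm'
  set a'' : GolayPt → ℤ := fun i =>
    if tet i = 0 then -(a i - u 0) - m' else a i - u (tet i) with ha''
  -- the sum condition in terms of the u's
  have hsum_a : ∑ i, a i = 6 * p + 2 * (u 0 + u 1 + u 2 + u 3 + u 4 + u 5) := by
    rw [sum_by_tet]
    simp only [Finset.sum_range_succ, Finset.sum_range_zero, zero_add]
    rw [hA 0 (by norm_num), hA 1 (by norm_num), hA 2 (by norm_num), hA 3 (by norm_num),
      hA 4 (by norm_num), hA 5 (by norm_num)]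
    ring
  have hsum_x : ∑ i, x i = 24 * m + 2 * ∑ i, a i := by
    rw [Finset.sum_congr rfl (fun i _ => h1 i), Finset.sum_add_distrib, ← Finset.mul_sum]
    simp
  have hu_par : (u 0 + u 1 + u 2 + u 3 + u 4 + u 5 - m') % 2 = 0 := by
    unfold Int.ModEq at h3
    rw [hsum_x, hsum_a] at h3
    omega
  -- the new decomposition
  have hdec : ∀ i, xiFun x i = m' + 2 * a'' i := by
    intro i
    rw [xiFun_LP h1 i, hA (tet i) (tet_lt i)]
    simp only [ha'']
    by_cases hi : tet i = 0
    · rw [if_pos hi, if_pos hi, hi, h1 i]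
      ring
    · rw [if_neg hi, if_neg hi, h1 i]
      ring
  refine ⟨m', a'', hdec, ?_, ?_⟩
  · -- the reduction of a'' is a code word
    have hred : red a'' = red a + ((u 1 : ZMod 2) • (tetWord 1 + tetWord 0) +
        (u 2 : ZMod 2) • (tetWord 2 + tetWord 0) + (u 3 : ZMod 2) • (tetWord 3 + tetWord 0) +
        (u 4 : ZMod 2) • (tetWord 4 + tetWord 0) + (u 5 : ZMod 2) • (tetWord 5 + tetWord 0)) := by
      funext i
      have hmc : ((m' : ℤ) : ZMod 2) = (u 0 : ZMod 2) + (u 1 : ZMod 2) + (u 2 : ZMod 2) +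
          (u 3 : ZMod 2) + (u 4 : ZMod 2) + (u 5 : ZMod 2) := by
        have : (((u 0 + u 1 + u 2 + u 3 + u 4 + u 5 - m' : ℤ)) : ZMod 2) = 0 := by
          rw [ZMod.intCast_zmod_eq_zero_iff_dvd]
          exact Int.dvd_of_emod_eq_zero hu_par
        push_cast at this
        exact (sub_eq_zero.mp this).symm
      simp only [red, Pi.add_apply, Pi.smul_apply, smul_eq_mul, tetWord, ha'']
      have hlt := tet_lt i
      generalize tet i = t at hlt ⊢
      interval_cases t
      all_goals
        simp only [if_true, if_false, Nat.reduceEqDiff, OfNat.ofNat_ne_zero, OfNat.zero_ne_ofNat,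
          Nat.succ_ne_zero]
        push_cast
        try rw [hmc]
        generalize ((a i : ℤ) : ZMod 2) = ai
        generalize ((u 0 : ℤ) : ZMod 2) = b0
        generalize ((u 1 : ℤ) : ZMod 2) = b1
        generalize ((u 2 : ℤ) : ZMod 2) = b2
        generalize ((u 3 : ℤ) : ZMod 2) = b3
        generalize ((u 4 : ℤ) : ZMod 2) = b4
        generalize ((u 5 : ℤ) : ZMod 2) = b5
        revert ai b0 b1 b2 b3 b4 b5
        decide
    rw [hred]
    refine golayCode.add_mem h2 ?_
    refine golayCode.add_mem (golayCode.add_mem (golayCode.add_mem (golayCode.add_mem ?_ ?_) ?_) ?_) ?_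
    · exact golayCode.smul_mem _ (tetWord_pair_mem 1 (by norm_num) (by norm_num))
    · exact golayCode.smul_mem _ (tetWord_pair_mem 2 (by norm_num) (by norm_num))
    · exact golayCode.smul_mem _ (tetWord_pair_mem 3 (by norm_num) (by norm_num))
    · exact golayCode.smul_mem _ (tetWord_pair_mem 4 (by norm_num) (by norm_num))
    · exact golayCode.smul_mem _ (tetWord_pair_mem 5 (by norm_num) (by norm_num))
  · -- the sum condition
    have hs : ∑ i, xiFun x i = 24 * m' + 2 * ∑ i, a'' i := by
      rw [Finset.sum_congr rfl (fun i _ => hdec i), Finset.sum_add_distrib, ← Finset.mul_sum]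
      simp
    have hs0 : tsum a'' 0 = 4 * (u 0 - m') + (-1) * tsum a 0 := by
      rw [← tsum_affine (u 0 - m') (-1) a 0 (by norm_num)]
      apply tsum_congr
      intro j hj
      simp only [ha'', if_pos hj]
      ring
    have hsk : ∀ k, 1 ≤ k → k < 6 → tsum a'' k = 4 * (-u k) + 1 * tsum a k := by
      intro k hk1 hk
      rw [← tsum_affine (-u k) 1 a k hk]
      apply tsum_congr
      intro j hj
      have : tet j ≠ 0 := by omega
      simp only [ha'', if_neg this, hj]
      ring
    have hsa : ∑ i, a'' i = tsum a'' 0 + tsum a'' 1 + tsum a'' 2 + tsum a'' 3 + tsum a'' 4 +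
        tsum a'' 5 := by
      rw [sum_by_tet]
      simp only [Finset.sum_range_succ, Finset.sum_range_zero, zero_add]
    rw [hs, hsa, hs0, hsk 1 (by norm_num) (by norm_num), hsk 2 (by norm_num) (by norm_num),
      hsk 3 (by norm_num) (by norm_num), hsk 4 (by norm_num) (by norm_num),
      hsk 5 (by norm_num) (by norm_num), hA 0 (by norm_num), hA 1 (by norm_num),
      hA 2 (by norm_num), hA 3 (by norm_num), hA 4 (by norm_num), hA 5 (by norm_num)]
    unfold Int.ModEq
    omega

theorem tsum_even_of_LP {x : GolayPt → ℤ} (hx : LP x) (k : ℕ) (hk : k < 6) :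
    (2 : ℤ) ∣ tsum x k := by
  obtain ⟨m, a, h1, -, -⟩ := hx
  rw [tsum_LP h1 k hk]
  exact ⟨2 * m + tsum a k, by ring⟩

theorem xiFun_add {x y : GolayPt → ℤ} (hx : ∀ k < 6, (2 : ℤ) ∣ tsum x k)
    (hy : ∀ k < 6, (2 : ℤ) ∣ tsum y k) : xiFun (x + y) = xiFun x + xiFun y := by
  funext i
  unfold xiFun
  simp only [Pi.add_apply]
  rw [tsum_add, Int.add_ediv_of_dvd_left (hx _ (tet_lt i))]
  split_ifs <;> ring

theorem tsum_lin (f g : GolayPt → ℤ) (c d : ℤ) (k : ℕ) (hk : k < 6) :
    tsum (fun i => f i + c * g i + d) k = tsum f k + c * tsum g k + 4 * d := by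
  unfold tsum
  have h1 : ∀ j, (if tet j = k then f j + c * g j + d else 0) =
      (if tet j = k then f j else 0) + c * (if tet j = k then g j else 0) +
        (if tet j = k then d else 0) := by
    intro j; split_ifs <;> ring
  rw [Finset.sum_congr rfl (fun j _ => h1 j), Finset.sum_add_distrib, Finset.sum_add_distrib,
    ← Finset.mul_sum, ← Finset.sum_filter (fun j => tet j = k) (fun _ => d), Finset.sum_const,
    card_tet k hk]
  simp

theorem sqNorm_xiFun {x : GolayPt → ℤ} (hx : ∀ k < 6, (2 : ℤ) ∣ tsum x k) :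
    sqNorm (xiFun x) = sqNorm x := by
  unfold sqNorm
  rw [sum_by_tet, sum_by_tet (fun i => x i ^ 2)]
  apply Finset.sum_congr rfl
  intro k hk
  rw [Finset.mem_range] at hk
  obtain ⟨h, hh⟩ := hx k hk
  have e1 : tsum (fun i => xiFun x i ^ 2) k =
      tsum (fun i => x i ^ 2 + (-2 * h) * x i + h ^ 2) k := by
    apply tsum_congr
    intro j hj
    unfold xiFun
    rw [hj, hh, Int.mul_ediv_cancel_left _ (by norm_num : (2 : ℤ) ≠ 0)]
    split_ifs <;> ring
  rw [e1, tsum_lin (fun i => x i ^ 2) x (-2 * h) (h ^ 2) k hk, hh]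
  ring

theorem tsum_xiFun {x : GolayPt → ℤ} (hx : ∀ k < 6, (2 : ℤ) ∣ tsum x k) (k : ℕ) (hk : k < 6) :
    tsum (xiFun x) k = if k = 0 then tsum x k else -tsum x k := by
  obtain ⟨h, hh⟩ := hx k hk
  by_cases h0 : k = 0
  · rw [if_pos h0]
    have e1 : tsum (xiFun x) k = tsum (fun i => (0 : ℤ) + (-1) * x i + h) k := by
      apply tsum_congr
      intro j hj
      unfold xiFun
      rw [hj, hh, Int.mul_ediv_cancel_left _ (by norm_num : (2 : ℤ) ≠ 0), if_pos h0]
      ring
    rw [e1, tsum_lin (fun _ => (0 : ℤ)) x (-1) h k hk, hh]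
    unfold tsum
    simp
    ring
  · rw [if_neg h0]
    have e1 : tsum (xiFun x) k = tsum (fun i => (0 : ℤ) + 1 * x i + (-h)) k := by
      apply tsum_congr
      intro j hj
      unfold xiFun
      rw [hj, hh, Int.mul_ediv_cancel_left _ (by norm_num : (2 : ℤ) ≠ 0), if_neg h0]
      ring
    rw [e1, tsum_lin (fun _ => (0 : ℤ)) x 1 (-h) k hk, hh]
    unfold tsum
    simp
    ring

theorem xiFun_xiFun {x : GolayPt → ℤ} (hx : ∀ k < 6, (2 : ℤ) ∣ tsum x k) :
    xiFun (xiFun x) = x := by
  funext i
  have hk := tet_lt i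
  obtain ⟨h, hh⟩ := hx (tet i) hk
  have e2 : xiFun x i = if tet i = 0 then -(x i - h) else x i - h := by
    unfold xiFun
    rw [hh, Int.mul_ediv_cancel_left _ (by norm_num : (2 : ℤ) ≠ 0)]
  have e3 : xiFun (xiFun x) i = if tet i = 0 then -(xiFun x i - tsum (xiFun x) (tet i) / 2)
      else xiFun x i - tsum (xiFun x) (tet i) / 2 := rfl
  rw [e3, tsum_xiFun hx (tet i) hk, e2, hh]
  by_cases h0 : tet i = 0
  · rw [if_pos h0, if_pos h0, if_pos h0, Int.mul_ediv_cancel_left _ (by norm_num : (2 : ℤ) ≠ 0)]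
    ring
  · rw [if_neg h0, if_neg h0, if_neg h0]
    have : -(2 * h) / 2 = -h := by omega
    rw [this]
    ring

/-- Conway's extra automorphism, as a permutation of the lattice -/
def xiPerm : Equiv.Perm leechLattice where
  toFun x := ⟨xiFun x.1, (mem_leechLattice_iff _).mpr
    (xiFun_LP_mem ((mem_leechLattice_iff _).mp x.2))⟩
  invFun x := ⟨xiFun x.1, (mem_leechLattice_iff _).mpr
    (xiFun_LP_mem ((mem_leechLattice_iff _).mp x.2))⟩
  left_inv x := Subtype.ext
    (xiFun_xiFun (fun k hk => tsum_even_of_LP ((mem_leechLattice_iff _).mp x.2) k hk))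
  right_inv x := Subtype.ext
    (xiFun_xiFun (fun k hk => tsum_even_of_LP ((mem_leechLattice_iff _).mp x.2) k hk))

theorem xiPerm_val (x : leechLattice) : ((xiPerm x : leechLattice) : GolayPt → ℤ) = xiFun x.1 := rfl

theorem xiPerm_mem : xiPerm ∈ Co0 := by
  refine ⟨fun v w => ?_, fun v => ?_⟩
  · apply Subtype.ext
    exact xiFun_add (fun k hk => tsum_even_of_LP ((mem_leechLattice_iff _).mp v.2) k hk)
      (fun k hk => tsum_even_of_LP ((mem_leechLattice_iff _).mp w.2) k hk)
  · exact sqNorm_xiFun (fun k hk => tsum_even_of_LP ((mem_leechLattice_iff _).mp v.2) k hk)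

end Cfsg.Agent.Helper7
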