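import Cfsg.Agent.Lib.Helper7.M12

set_option autoImplicit false

namespace Cfsg.Agent.Helper7
open Cfsg
open scoped Pointwise

theorem m11_level1 : ∀ q ∈ m11Targets1, q < 24 ∧ ∃ g ∈ stabL (setStab D0) ([0].map pt), g (pt 1) = pt q :=
  reach_targets (((goodTabs_m12All.subset (tabs' := m11Tabs1) (by decide)).setStab dodRoot
    (by decide +kernel)).stabL [0] (by decide) (by decide)) 1 (by decide) m11Words1 m11Targets1
    (by decide +kernel)

theorem m11_level2 : ∀ q ∈ m11Targets2, q < 24 ∧ ∃ g ∈ stabL (setStab D0) ([0, 1].map pt), g (pt 5) = pt q :=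
  reach_targets (((goodTabs_m12All.subset (tabs' := m11Tabs2) (by decide)).setStab dodRoot
    (by decide +kernel)).stabL [0, 1] (by decide) (by decide)) 5 (by decide) m11Words2 m11Targets2
    (by decide +kernel)

theorem m11_level3 : ∀ q ∈ m11Targets3, q < 24 ∧ ∃ g ∈ stabL (setStab D0) ([0, 1, 5].map pt), g (pt 12) = pt q :=
  reach_targets (((goodTabs_m12All.subset (tabs' := m11Tabs3) (by decide)).setStab dodRoot
    (by decide +kernel)).stabL [0, 1, 5] (by decide) (by decide)) 12 (by decide) m11Words3 m11Targets3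
    (by decide +kernel)

/-- Mask of the complement of the base dodecad. -/
def dodRootC : ℕ := 16748578

theorem ofMask_dodRootC : ofMask dodRootC = D0ᶜ := by
  rw [← ofMask_compl]
  rfl

theorem level_allOn' {G : Subgroup (Equiv.Perm GolayPt)} {b0 : ℕ} {bs : List ℕ} {b : ℕ} {targets : List ℕ}
    (m : ℕ) (h : ∀ q ∈ targets, q < 24 ∧ ∃ g ∈ stabL G ((b0 :: bs).map pt), g (pt b) = pt q)
    (hall : ∀ q < 24, m.testBit q = true → q ∉ bs → q ∈ targets) :
    ∀ q : GolayPt, q ∈ ofMask m → q ∉ bs.map pt →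
      ∃ g ∈ stabL (stabL G [pt b0]) (bs.map pt), g (pt b) = q := by
  intro q hqm hq
  have hq' : idx q ∉ bs := by
    intro hmem
    apply hq
    rw [List.mem_map]
    exact ⟨idx q, hmem, pt_idx q⟩
  obtain ⟨_, g, hg, hgq⟩ := h (idx q) (hall (idx q) (idx_lt q) ((mem_ofMask _ _).mp hqm) hq')
  exact ⟨g, hg, by rw [hgq, pt_idx]⟩

theorem m11_chainTrans :
    ChainTransOn (stabL (setStab D0) [pt 0]) (↑(D0ᶜ)) ([1, 5, 12].map pt) := by
  intro i hi q hqD hq
  simp only [List.length_map, List.length_cons, List.length_nil] at hi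
  rw [Finset.mem_coe, ← ofMask_dodRootC] at hqD
  interval_cases i
  · exact level_allOn' (b0 := 0) (bs := []) dodRootC m11_level1 (by decide) q hqD hq
  · exact level_allOn' (b0 := 0) (bs := [1]) dodRootC m11_level2 (by decide) q hqD hq
  · exact level_allOn' (b0 := 0) (bs := [1, 5]) dodRootC m11_level3 (by decide) q hqD hq

theorem pt0_mem_D0 : pt 0 ∈ D0 := by decide +kernel

/-- The stabiliser of the base dodecad and its point `0` is 3-transitive on the complement. -/
theorem m11_three_trans0 (xs ys : List GolayPt) (hx : xs.Nodup) (hy : ys.Nodup)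
    (hxD : ∀ x ∈ xs, x ∉ D0) (hyD : ∀ x ∈ ys, x ∉ D0)
    (hxl : xs.length = ys.length) (hlen : xs.length ≤ 3) :
    ∃ g ∈ stabL (setStab D0) [pt 0], xs.map g = ys := by
  apply m11_chainTrans.exists_map_map _ xs ys hx hy _ _ hxl (by simpa using hlen)
  · intro g hg x hx
    rw [mem_stabL] at hg
    rw [Finset.mem_coe, Finset.mem_compl] at hx ⊢
    intro h
    exact hx ((setStab_mem_iff hg.1 x).mpr h)
  · intro x hx'
    rw [Finset.mem_coe, Finset.mem_compl]
    exact hxD x hx'
  · intro x hx'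
    rw [Finset.mem_coe, Finset.mem_compl]
    exact hyD x hx'

/-- `M24` is transitive on pairs (dodecad, point on it). -/
theorem exists_flag_map {d : Finset GolayPt} (hd : d ∈ dodecads) {p : GolayPt} (hp : p ∈ d) :
    ∃ h ∈ M24, h • D0 = d ∧ h (pt 0) = p := by
  obtain ⟨h1, hh1, rfl⟩ := dodecad_trans D0_mem hd
  have hp' : h1⁻¹ p ∈ D0 := by
    rw [smul_finset_eq, Finset.mem_image] at hp
    obtain ⟨y, hy, rfl⟩ := hp
    simpa using hy
  obtain ⟨k, hk, hkm⟩ := m12_five_trans0 [pt 0] [h1⁻¹ p] (by simp) (by simp)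
    (by simpa using pt0_mem_D0) (by simpa using hp') rfl (by simp)
  refine ⟨h1 * k, M24.mul_mem hh1 (mem_setStab.mp hk).1, ?_, ?_⟩
  · rw [mul_smul, (mem_setStab.mp hk).2]
  · simp only [List.map_cons, List.map_nil, List.cons.injEq, and_true] at hkm
    rw [Equiv.Perm.mul_apply, hkm]
    simp

/-- The stabiliser of a dodecad and a point on it is 3-transitive on the complement. -/
theorem m11_three_trans {d : Finset GolayPt} (hd : d ∈ dodecads) {p : GolayPt} (hp : p ∈ d)
    (xs ys : List GolayPt) (hx : xs.Nodup) (hy : ys.Nodup)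
    (hxD : ∀ x ∈ xs, x ∉ d) (hyD : ∀ x ∈ ys, x ∉ d)
    (hxl : xs.length = ys.length) (hlen : xs.length ≤ 3) :
    ∃ g ∈ stabL (setStab d) [p], xs.map g = ys := by
  obtain ⟨h, hh, rfl, rfl⟩ := exists_flag_map hd hp
  have hmem : ∀ x, x ∉ h • D0 → h⁻¹ x ∉ D0 := by
    intro x hx hin
    apply hx
    rw [smul_finset_eq, Finset.mem_image]
    exact ⟨h⁻¹ x, hin, by simp⟩
  obtain ⟨g, hg, hgm⟩ := m11_three_trans0 (xs.map ⇑(h⁻¹)) (ys.map ⇑(h⁻¹))
    (hx.map (h⁻¹).injective) (hy.map (h⁻¹).injective)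
    (by
      intro x hx'
      rw [List.mem_map] at hx'
      obtain ⟨y, hy', rfl⟩ := hx'
      exact hmem y (hxD y hy'))
    (by
      intro x hx'
      rw [List.mem_map] at hx'
      obtain ⟨y, hy', rfl⟩ := hx'
      exact hmem y (hyD y hy'))
    (by simpa using hxl) (by simpa using hlen)
  rw [mem_stabL] at hg
  refine ⟨h * g * h⁻¹, mem_stabL.mpr ⟨setStab_conj hh hg.1, ?_⟩, ?_⟩
  · intro b hb
    rw [List.mem_singleton] at hb
    rw [hb]
    simp only [Equiv.Perm.mul_apply]
    have e1 : h⁻¹ (h (pt 0)) = pt 0 := by simp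
    rw [e1, hg.2 (pt 0) (by simp)]
  · have : ys = (ys.map ⇑(h⁻¹)).map h := by
      rw [List.map_map]
      conv_lhs => rw [← List.map_id ys]
      apply List.map_congr_left
      intro b _
      simp
    rw [this, ← hgm, List.map_map, List.map_map]
    apply List.map_congr_left
    intro b _
    simp

end Cfsg.Agent.Helper7
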