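import Cfsg.Agent.Lib.Helper7.M24Data
import Cfsg.Agent.Lib.Helper7.Chain
import Cfsg.Agent.Lib.Helper7.Gens

set_option autoImplicit false

namespace Cfsg.Agent.Helper7
open Cfsg
open scoped Pointwise

theorem GoodTabs.stabL {H : Subgroup (Equiv.Perm GolayPt)} {tabs : List (List ℕ)}
    (h : GoodTabs H tabs) (bs : List ℕ) (hbs : ∀ b ∈ bs, b < 24)
    (hfix : ∀ l ∈ tabs, ∀ b ∈ bs, l.getD b 0 = b) :
    GoodTabs (Cfsg.Agent.Helper7.stabL H (bs.map pt)) tabs := by
  intro l hl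
  obtain ⟨σ, hσ, ht, hlen⟩ := h l hl
  refine ⟨σ, ?_, ht, hlen⟩
  rw [mem_stabL]
  refine ⟨hσ, ?_⟩
  intro p hp
  rw [List.mem_map] at hp
  obtain ⟨b, hb, rfl⟩ := hp
  exact ht.fix b (hbs b hb) (hfix l hl b hb)

/-- The initial tables: the three generators and the inverses of the first and the third. -/
def m24InitTabs : List (List ℕ) := [lShift, lProjInv, lCubeTwist, lShiftInv, lCubeTwistInv]

theorem goodTabs_init (H : Subgroup (Equiv.Perm GolayPt)) (h1 : gShift ∈ H) (h2 : projInv ∈ H)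
    (h3 : cubeTwist ∈ H) : GoodTabs H m24InitTabs := by
  intro l hl
  simp only [m24InitTabs, List.mem_cons, List.not_mem_nil, or_false] at hl
  rcases hl with rfl | rfl | rfl | rfl | rfl
  · exact ⟨_, h1, tab_shift, rfl⟩
  · exact ⟨_, h2, tab_projInv, rfl⟩
  · exact ⟨_, h3, tab_cubeTwist, rfl⟩
  · exact ⟨_, H.inv_mem h1, tab_shift.inv (by decide), rfl⟩
  · exact ⟨_, H.inv_mem h3, tab_cubeTwist.inv (by decide), rfl⟩

theorem m24AllTabs_eq : slpTabs m24Prog m24InitTabs = m24AllTabs := by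
  decide +kernel

theorem goodTabs_all (H : Subgroup (Equiv.Perm GolayPt)) (h1 : gShift ∈ H) (h2 : projInv ∈ H)
    (h3 : cubeTwist ∈ H) : GoodTabs H m24AllTabs := by
  rw [← m24AllTabs_eq]
  exact goodTabs_slp _ _ (goodTabs_init H h1 h2 h3)

section
variable (H : Subgroup (Equiv.Perm GolayPt)) (h1 : gShift ∈ H) (h2 : projInv ∈ H)
  (h3 : cubeTwist ∈ H)
include h1 h2 h3

theorem m24_level0 : ∀ q ∈ m24Targets0, q < 24 ∧ ∃ g ∈ Cfsg.Agent.Helper7.stabL H ([].map pt), g (pt 23) = pt q :=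
  reach_targets (((goodTabs_all H h1 h2 h3).subset (tabs' := m24Tabs0) (by decide)).stabL []
    (by decide) (by decide)) 23 (by decide) m24Words0 m24Targets0 (by decide +kernel)

theorem m24_level1 : ∀ q ∈ m24Targets1, q < 24 ∧ ∃ g ∈ Cfsg.Agent.Helper7.stabL H ([23].map pt), g (pt 0) = pt q :=
  reach_targets (((goodTabs_all H h1 h2 h3).subset (tabs' := m24Tabs1) (by decide)).stabL [23]
    (by decide) (by decide)) 0 (by decide) m24Words1 m24Targets1 (by decide +kernel)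

theorem m24_level2 : ∀ q ∈ m24Targets2, q < 24 ∧ ∃ g ∈ Cfsg.Agent.Helper7.stabL H ([23, 0].map pt), g (pt 1) = pt q :=
  reach_targets (((goodTabs_all H h1 h2 h3).subset (tabs' := m24Tabs2) (by decide)).stabL [23, 0]
    (by decide) (by decide)) 1 (by decide) m24Words2 m24Targets2 (by decide +kernel)

theorem m24_level3 : ∀ q ∈ m24Targets3, q < 24 ∧ ∃ g ∈ Cfsg.Agent.Helper7.stabL H ([23, 0, 1].map pt), g (pt 2) = pt q :=
  reach_targets (((goodTabs_all H h1 h2 h3).subset (tabs' := m24Tabs3) (by decide)).stabL [23, 0, 1]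
    (by decide) (by decide)) 2 (by decide) m24Words3 m24Targets3 (by decide +kernel)

theorem m24_level4 : ∀ q ∈ m24Targets4, q < 24 ∧ ∃ g ∈ Cfsg.Agent.Helper7.stabL H ([23, 0, 1, 2].map pt), g (pt 3) = pt q :=
  reach_targets (((goodTabs_all H h1 h2 h3).subset (tabs' := m24Tabs4) (by decide)).stabL [23, 0, 1, 2]
    (by decide) (by decide)) 3 (by decide) m24Words4 m24Targets4 (by decide +kernel)

theorem m24_level5 : ∀ q ∈ m24Targets5, q < 24 ∧ ∃ g ∈ Cfsg.Agent.Helper7.stabL H ([23, 0, 1, 2, 3].map pt), g (pt 5) = pt q :=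
  reach_targets (((goodTabs_all H h1 h2 h3).subset (tabs' := m24Tabs5) (by decide)).stabL [23, 0, 1, 2, 3]
    (by decide) (by decide)) 5 (by decide) m24Words5 m24Targets5 (by decide +kernel)

theorem m24_level6 : ∀ q ∈ m24Targets6, q < 24 ∧ ∃ g ∈ Cfsg.Agent.Helper7.stabL H ([23, 0, 1, 2, 3, 5].map pt), g (pt 4) = pt q :=
  reach_targets (((goodTabs_all H h1 h2 h3).subset (tabs' := m24Tabs6) (by decide)).stabL [23, 0, 1, 2, 3, 5]
    (by decide) (by decide)) 4 (by decide) m24Words6 m24Targets6 (by decide +kernel)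

end

end Cfsg.Agent.Helper7
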