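import Mathlib
import Cfsg.Prelude.Def_Sporadic_a

set_option autoImplicit false

namespace Cfsg.Agent.Helper7
open Cfsg

/-- Words of length 24 over `ZMod 2`. -/
abbrev W := GolayPt → ZMod 2

/-- Index of a point: residues `0..22`, the extra point is `23`. -/
def idx : GolayPt → ℕ
  | none => 23
  | some x => x.val

/-- The point with a given index. -/
def pt (i : ℕ) : GolayPt := if i < 23 then some (i : ZMod 23) else none

theorem idx_lt (p : GolayPt) : idx p < 24 := by revert p; decide

theorem pt_idx (p : GolayPt) : pt (idx p) = p := by revert p; decide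

theorem idx_pt (i : ℕ) (hi : i < 24) : idx (pt i) = i := by
  revert i; decide

theorem idx_injective : Function.Injective idx := by
  intro p q h
  rw [← pt_idx p, ← pt_idx q, h]

/-- The finite set of points coded by a bitmask. -/
def ofMask (n : ℕ) : Finset GolayPt := Finset.univ.filter fun p => n.testBit (idx p) = true

/-- The bitmask of a finite set of points. -/
def toMask (b : Finset GolayPt) : ℕ := Nat.ofBits fun i : Fin 24 => decide (pt i ∈ b)

/-- The word coded by a bitmask. -/
def decW (n : ℕ) : W := fun p => if n.testBit (idx p) then 1 else 0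

@[simp] theorem mem_ofMask (n : ℕ) (p : GolayPt) : p ∈ ofMask n ↔ n.testBit (idx p) = true := by
  simp [ofMask]

theorem toMask_lt (b : Finset GolayPt) : toMask b < 2 ^ 24 := Nat.ofBits_lt_two_pow _

theorem testBit_toMask (b : Finset GolayPt) (p : GolayPt) :
    (toMask b).testBit (idx p) = decide (p ∈ b) := by
  unfold toMask
  rw [Nat.testBit_ofBits_lt _ _ (idx_lt p)]
  simp [pt_idx]

@[simp] theorem ofMask_toMask (b : Finset GolayPt) : ofMask (toMask b) = b := by
  ext p
  simp [testBit_toMask]

theorem testBit_of_lt (n : ℕ) (hn : n < 2 ^ 24) (i : ℕ) (hi : 24 ≤ i) : n.testBit i = false := by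
  apply Nat.testBit_lt_two_pow
  exact lt_of_lt_of_le hn (Nat.pow_le_pow_right (by norm_num) hi)

theorem ofMask_injOn (m n : ℕ) (hm : m < 2 ^ 24) (hn : n < 2 ^ 24) (h : ofMask m = ofMask n) :
    m = n := by
  apply Nat.eq_of_testBit_eq
  intro i
  by_cases hi : i < 24
  · have := Finset.ext_iff.mp h (pt i)
    simp only [mem_ofMask, idx_pt i hi] at this
    cases h1 : m.testBit i <;> cases h2 : n.testBit i <;> simp_all
  · rw [testBit_of_lt m hm i (by omega), testBit_of_lt n hn i (by omega)]

theorem toMask_ofMask (n : ℕ) (hn : n < 2 ^ 24) : toMask (ofMask n) = n :=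
  ofMask_injOn _ _ (toMask_lt _) hn (ofMask_toMask _)

theorem mem_support₂ (w : W) (p : GolayPt) : p ∈ support₂ w ↔ w p ≠ 0 := by
  unfold support₂
  rw [Finset.mem_filter]
  simp

theorem support₂_decW (n : ℕ) : support₂ (decW n) = ofMask n := by
  ext p
  rw [mem_support₂, mem_ofMask]
  unfold decW
  cases n.testBit (idx p) <;> simp

theorem decW_xor (m n : ℕ) : decW (m ^^^ n) = decW m + decW n := by
  funext p
  simp only [decW, Nat.testBit_xor, Pi.add_apply]
  cases m.testBit (idx p) <;> cases n.testBit (idx p) <;> simp
  decide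

theorem decW_zero : decW 0 = 0 := by
  funext p
  simp [decW]

theorem decW_injOn (m n : ℕ) (hm : m < 2 ^ 24) (hn : n < 2 ^ 24) (h : decW m = decW n) :
    m = n := by
  apply ofMask_injOn m n hm hn
  rw [← support₂_decW, ← support₂_decW, h]

/-- The word with a given support. -/
def indW (b : Finset GolayPt) : W := fun p => if p ∈ b then 1 else 0

theorem support₂_indW (b : Finset GolayPt) : support₂ (indW b) = b := by
  ext p
  rw [mem_support₂]
  unfold indW
  by_cases h : p ∈ b <;> simp [h]

theorem indW_support₂ (w : W) : indW (support₂ w) = w := by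
  funext p
  unfold indW
  by_cases h : w p = 0
  · have : p ∉ support₂ w := by rw [mem_support₂]; simpa using h
    simp [this, h]
  · have h' : p ∈ support₂ w := by rw [mem_support₂]; exact h
    rw [if_pos h']
    have : ∀ x : ZMod 2, x ≠ 0 → 1 = x := by decide
    exact this _ h

theorem support₂_injective : Function.Injective (support₂ : W → Finset GolayPt) := by
  intro v w h
  rw [← indW_support₂ v, ← indW_support₂ w, h]

theorem decW_toMask (b : Finset GolayPt) : decW (toMask b) = indW b := by
  apply support₂_injective
  rw [support₂_decW, support₂_indW, ofMask_toMask]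

theorem mem_supports_iff (C : Set W) (b : Finset GolayPt) : b ∈ supports C ↔ indW b ∈ C := by
  constructor
  · rintro ⟨w, hw, rfl⟩
    rwa [indW_support₂]
  · intro h
    exact ⟨indW b, h, support₂_indW b⟩

end Cfsg.Agent.Helper7
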