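import Mathlib
import Cfsg.Prelude.Def_Sporadic
import Cfsg.Prelude.Def_Sporadic_a
import Cfsg.Prelude.Def_Spor_Mathieu
import Cfsg.Agent.Lib.Helper7.M11UDefs
import Cfsg.Agent.Lib.Helper7.NSEDefs
import Cfsg.Agent.Lib.Helper38.NSEG3
import Cfsg.Agent.Lib.Helper38.NSEG6
import Cfsg.Agent.Lib.Helper42.NSEM3
import Cfsg.Agent.Lib.Helper42.NSEM4
import Cfsg.Agent.Lib.Helper48.NSEG4
import Cfsg.Agent.Lib.Helper57.NSEG1
import Cfsg.Agent.Lib.Helper57.NSEG5b
import Cfsg.Agent.Lib.Helper57.NSEM5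
import Cfsg.Agent.Lib.Helper60.NSEM2b
import Cfsg.Agent.Lib.Helper69.NSEM2a
import Cfsg.Agent.Lib.Helper69.NSEM2c
import Cfsg.Agent.Lib.Helper71.NSEG5
import Cfsg.Agent.Lib.Helper78.NSEM2
import Cfsg.Agent.Lib.Helper86.NSEG5a
import Cfsg.Agent.Lib.Helper99.NSEM1

/-!
# NSE glue: the delivered pieces of the helper7 lemma server "NSE" (S3592), restated in one namespace.
-/

set_option autoImplicit false

namespace Cfsg.Agent.Helper7.NSEG

open Subgroup Cfsg.Agent.Helper7.M11U Cfsg.Agent.Helper7.NSE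
open scoped Pointwise

universe u

/-! ## Part M: the model side (simple groups of order 7920) -/

theorem spor_iso : (some 0 : Cfsg.GolayPt) ∈ Cfsg.Spor.squareDodecad ∧
    Nonempty (↥(MulAction.stabilizer Cfsg.M24 Cfsg.Spor.squareDodecad ⊓
      MulAction.stabilizer Cfsg.M24 (some 0 : Cfsg.GolayPt)) ≃* ↥Cfsg.Spor.M11) :=
  Cfsg.Agent.Helper99.NSE.spor_iso

section M

variable {H : Type*} [Group H] [Finite H]

theorem cent_le_of_five_eleven (B : Base H) (g : H) (h : 5 ∣ orderOf g ∨ 11 ∣ orderOf g) :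
    Nat.card (centralizer ({g} : Set H)) ≤ 11 :=
  Cfsg.Agent.Helper69.NSE.cent_le_of_five_eleven B g h

theorem cent_le_of_three (B : Base H) (L : Loc H) (g : H) (h : 3 ∣ orderOf g) (h3 : orderOf g ≠ 3) :
    Nat.card (centralizer ({g} : Set H)) ≤ 9 :=
  Cfsg.Agent.Helper60.NSE.cent_le_of_three B L g h h3

theorem cent_le_of_two_pow (B : Base H) (L : Loc H) (g : H) (a : ℕ) (ha : 2 ≤ a) (h : orderOf g = 2 ^ a) :
    Nat.card (centralizer ({g} : Set H)) ≤ 16 :=
  Cfsg.Agent.Helper69.NSE.cent_le_of_two_pow B L g a ha h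

theorem cent_le_17 (B : Base H) (g : H) (h1 : orderOf g ≠ 1) (h2 : orderOf g ≠ 2) (h3 : orderOf g ≠ 3)
    (ha : ∀ g : H, (5 ∣ orderOf g ∨ 11 ∣ orderOf g) → Nat.card (centralizer ({g} : Set H)) ≤ 11)
    (hb : ∀ g : H, 3 ∣ orderOf g → orderOf g ≠ 3 → Nat.card (centralizer ({g} : Set H)) ≤ 9)
    (hc : ∀ (g : H) (a : ℕ), 2 ≤ a → orderOf g = 2 ^ a → Nat.card (centralizer ({g} : Set H)) ≤ 16) :
    Nat.card (centralizer ({g} : Set H)) ≤ 17 :=
  Cfsg.Agent.Helper78.NSE.cent_le_17 B g h1 h2 h3 ha hb hc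

theorem card_involutions (B : Base H) : sn H 2 = 165 :=
  Cfsg.Agent.Helper42.NSE.card_involutions B

theorem card_order_three (B : Base H) (L : Loc H) : sn H 3 = 440 :=
  Cfsg.Agent.Helper42.NSE.card_order_three B L

theorem card_le_sn_mul_centralizer (g : H) :
    Nat.card H ≤ sn H (orderOf g) * Nat.card (centralizer ({g} : Set H)) :=
  Cfsg.Agent.Helper57.NSE.card_le_sn_mul_centralizer g

end M

/-! ## Part G: a group `G` of order 7920 with 144 Sylow 11-subgroups is simple -/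

section G

theorem card_order_eleven {G : Type*} [Group G] [Finite G] (hc : Nat.card G = 7920) :
    sn G 11 = 10 * Nat.card (Sylow 11 G) :=
  Cfsg.Agent.Helper57.NSE.card_order_eleven hc

theorem no_1584 {X : Type*} [Group X] [Finite X] (hX : Nat.card X = 1584) (P : Sylow 11 X)
    (hN : Nat.card (normalizer ((P : Subgroup X) : Set X)) = 11) : False :=
  Cfsg.Agent.Helper38.NSE.no_1584 hX P hN

theorem normal_eleven {G : Type u} [Group G] [Finite G] (hc : Nat.card G = 7920)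
    (h144 : Nat.card (Sylow 11 G) = 144)
    (h1584 : ∀ (X : Type u) [Group X] [Finite X], Nat.card X = 1584 → ∀ P : Sylow 11 X,
      Nat.card (normalizer ((P : Subgroup X) : Set X)) = 11 → False)
    (N : Subgroup G) (hN : N.Normal) (h11 : 11 ∣ Nat.card N) : N = ⊤ :=
  Cfsg.Agent.Helper48.NSE.normal_eleven hc h144 h1584 N hN h11

theorem exists_sylow_normalizing {G : Type*} [Group G] [Finite G] (hc : Nat.card G = 7920)
    (N : Subgroup G) (hN : N.Normal) (h11 : ¬ 11 ∣ Nat.card N) (p : ℕ) (hp : p.Prime) (T : Sylow p N) :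
    ∃ P : Sylow 11 G, (P : Subgroup G) ≤ normalizer ((((T : Subgroup N).map N.subtype : Subgroup G)) : Set G) :=
  Cfsg.Agent.Helper86.NSE.exists_sylow_normalizing hc N hN h11 p hp T

theorem card_modEq_of_normalizes {G : Type*} [Group G] [Finite G] (P : Subgroup G) (hP : Nat.card P = 11)
    (T : Subgroup G) (hPT : P ≤ normalizer (T : Set G)) :
    Nat.card T ≡ Nat.card (T ⊓ centralizer (P : Set G) : Subgroup G) [MOD 11] :=
  Cfsg.Agent.Helper57.NSE.card_modEq_of_normalizes P hP T hPT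

theorem normal_coprime {G : Type*} [Group G] [Finite G] (hc : Nat.card G = 7920)
    (h144 : Nat.card (Sylow 11 G) = 144)
    (h5a : ∀ (N : Subgroup G), N.Normal → ¬ 11 ∣ Nat.card N → ∀ (p : ℕ), p.Prime → ∀ T : Sylow p N,
      ∃ P : Sylow 11 G, (P : Subgroup G) ≤ normalizer ((((T : Subgroup N).map N.subtype : Subgroup G)) : Set G))
    (h5b : ∀ (P : Subgroup G), Nat.card P = 11 → ∀ T : Subgroup G, P ≤ normalizer (T : Set G) →
      Nat.card T ≡ Nat.card (T ⊓ centralizer (P : Set G) : Subgroup G) [MOD 11])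
    (N : Subgroup G) (hN : N.Normal) (h11 : ¬ 11 ∣ Nat.card N) (hne : N ≠ ⊥) : Nat.card N = 5 :=
  Cfsg.Agent.Helper71.NSE.normal_coprime hc h144 h5a h5b N hN h11 hne

theorem no_normal_five {G : Type*} [Group G] [Finite G] (hc : Nat.card G = 7920)
    (hA : ∀ M : Subgroup G, M.Normal → 11 ∣ Nat.card M → M = ⊤)
    (h5b : ∀ (P : Subgroup G), Nat.card P = 11 → ∀ T : Subgroup G, P ≤ normalizer (T : Set G) →
      Nat.card T ≡ Nat.card (T ⊓ centralizer (P : Set G) : Subgroup G) [MOD 11])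
    (N : Subgroup G) (hN : N.Normal) (h5 : Nat.card N = 5) : False :=
  Cfsg.Agent.Helper38.NSE.no_normal_five hc hA h5b N hN h5

end G

end Cfsg.Agent.Helper7.NSEG
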