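import Mathlib
import Cfsg.Prelude.Def_Sporadic
import Cfsg.Prelude.Def_Sporadic_a
import Cfsg.Prelude.Def_Spor_Mathieu
import Cfsg.Agent.Lib.Helper7.M11UMain
import Cfsg.Agent.Lib.Helper7.NSEGlue
import Cfsg.Agent.Lib.Helper74.M11Main
import Cfsg.Agent.Lib.Helper83.Ord7920Main
import Cfsg.Agent.Lib.Helper91.M11Sylow
import Cfsg.Agent.S0388

/-!
# `M₁₁` is determined by its order and its `nse` (S3592): assembly of the "NSE" pieces (helper7)
-/

set_option autoImplicit false

namespace Cfsg.Agent.Helper7.NSE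

open Subgroup Cfsg.Agent.Helper7.M11U Cfsg.Agent.Helper7.NSEG
open scoped Pointwise

section model

variable {H : Type*} [Group H] [Finite H]

omit [Finite H] in
theorem sn_one : sn H 1 = 1 := by
  unfold sn
  simp only [orderOf_eq_one_iff]
  rw [Nat.card_eq_one_iff_unique]
  exact ⟨⟨fun a b => Subtype.ext (a.2.trans b.2.symm)⟩, ⟨⟨1, rfl⟩⟩⟩

/-- in a simple group of order 7920 no `s_n` equals 10, 120 or 450 -/
theorem sn_not (hs : IsSimpleGroup H) (hc : Nat.card H = 7920) (n : ℕ) (hpos : 0 < sn H n) :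
    sn H n ≠ 10 ∧ sn H n ≠ 120 ∧ sn H n ≠ 450 := by
  have B : Base H := Cfsg.Agent.Helper7.M11UG.base_of_simple hs hc
    (fun R => Cfsg.Agent.Helper74.M11.main144 hs hc R)
  have L : Loc H := loc_of_base B
  by_cases h1 : n = 1
  · subst h1; rw [sn_one]; omega
  by_cases h2 : n = 2
  · subst h2; rw [card_involutions B]; omega
  by_cases h3 : n = 3
  · subst h3; rw [card_order_three B L]; omega
  have hne : Nonempty {g : H // orderOf g = n} := by
    by_contra hne
    rw [not_nonempty_iff] at hne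
    have : sn H n = 0 := by unfold sn; exact Nat.card_of_isEmpty
    omega
  obtain ⟨⟨g, hg⟩⟩ := hne
  have h17 := cent_le_17 B g (hg ▸ h1) (hg ▸ h2) (hg ▸ h3)
    (fun g h => cent_le_of_five_eleven B g h)
    (fun g h h3 => cent_le_of_three B L g h h3)
    (fun g a ha h => cent_le_of_two_pow B L g a ha h)
  have hle := card_le_sn_mul_centralizer g
  rw [hg, hc] at hle
  have h2' : 7920 ≤ sn H n * 17 := le_trans hle (Nat.mul_le_mul_left _ h17)
  omega

end model

section abstract

universe u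

variable {G : Type u} [Group G] [Finite G]

/-- a group of order 7920 with 144 Sylow 11-subgroups is simple -/
theorem simple_of_n11 (hc : Nat.card G = 7920) (h144 : Nat.card (Sylow 11 G) = 144) :
    IsSimpleGroup G := by
  have h5b : ∀ (P : Subgroup G), Nat.card P = 11 → ∀ T : Subgroup G, P ≤ normalizer (T : Set G) →
      Nat.card T ≡ Nat.card (T ⊓ centralizer (P : Set G) : Subgroup G) [MOD 11] :=
    fun P hP T hPT => card_modEq_of_normalizes P hP T hPT
  have hA : ∀ M : Subgroup G, M.Normal → 11 ∣ Nat.card M → M = ⊤ :=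
    fun M hM h11 => normal_eleven hc h144 (fun X _ _ hX P hN => no_1584 hX P hN) M hM h11
  haveI : Nontrivial G := by
    apply (Finite.one_lt_card_iff_nontrivial).mp
    rw [hc]; norm_num
  refine IsSimpleGroup.mk (fun N hN => ?_)
  by_cases h11 : 11 ∣ Nat.card N
  · exact Or.inr (hA N hN h11)
  · left
    by_contra hne
    have h5 := normal_coprime hc h144
      (fun N hN h11 p hp T => exists_sylow_normalizing hc N hN h11 p hp T) h5b N hN h11 hne
    exact no_normal_five hc hA h5b N hN h5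

end abstract

/-- the concrete `Cfsg.Spor.M11` is a simple group -/
theorem spor_simple : IsSimpleGroup ↥Cfsg.Spor.M11 := by
  obtain ⟨hp0, ⟨e⟩⟩ := spor_iso
  have hd := Cfsg.Agent.Helper91.squareDodecad_mem
  haveI := Cfsg.Agent.S0388.result _ hd _ hp0
  exact e.symm.isSimpleGroup

/-- a simple group of order 7920 is isomorphic to the concrete `Cfsg.Spor.M11` (S0420 restated) -/
theorem iso_spor_of_simple {G : Type*} [Group G] [Finite G] (hs : IsSimpleGroup G)
    (hc : Nat.card G = 7920) : Nonempty (G ≃* ↥Cfsg.Spor.M11) := by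
  obtain ⟨hp0, ⟨e⟩⟩ := spor_iso
  have hd := Cfsg.Agent.Helper91.squareDodecad_mem
  obtain ⟨f⟩ := iso_model hs hc (fun R => Cfsg.Agent.Helper74.M11.main144 hs hc R) _ hd _ hp0
  exact ⟨f.trans e⟩

/-- a group of order 7920 with 144 Sylow 11-subgroups is isomorphic to the concrete `Cfsg.Spor.M11` -/
theorem iso_spor_of_n11 {G : Type*} [Group G] [Finite G] (hc : Nat.card G = 7920)
    (h144 : Nat.card (Sylow 11 G) = 144) : Nonempty (G ≃* ↥Cfsg.Spor.M11) :=
  iso_spor_of_simple (simple_of_n11 hc h144) hc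

/-- **S3592**: `M₁₁` is determined by its order and its set `nse`. -/
theorem final {G : Type*} [Group G] [Finite G]
    (hcard : Nat.card G = Nat.card ↥Cfsg.Spor.M11)
    (hnse : {c : ℕ | 0 < c ∧ ∃ n : ℕ, c = Nat.card {g : G // orderOf g = n}} =
      {c : ℕ | 0 < c ∧ ∃ n : ℕ, c = Nat.card {g : ↥Cfsg.Spor.M11 // orderOf g = n}}) :
    Nonempty (G ≃* ↥Cfsg.Spor.M11) := by
  have hcM : Nat.card ↥Cfsg.Spor.M11 = 7920 := Cfsg.Agent.Helper91.card_M11
  have hc : Nat.card G = 7920 := by rw [hcard, hcM]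
  have hsM : IsSimpleGroup ↥Cfsg.Spor.M11 := spor_simple
  haveI : Fact (Nat.Prime 11) := ⟨by norm_num⟩
  have h11 : 11 ∣ Nat.card G := by rw [hc]; norm_num
  obtain ⟨x, hx⟩ := exists_prime_orderOf_dvd_card' 11 h11
  have hpos : 0 < sn G 11 := by
    unfold sn
    haveI : Nonempty {g : G // orderOf g = 11} := ⟨⟨x, hx⟩⟩
    exact Nat.card_pos
  have hmem : sn G 11 ∈ {c : ℕ | 0 < c ∧ ∃ n : ℕ, c = Nat.card {g : G // orderOf g = n}} :=
    ⟨hpos, 11, rfl⟩
  rw [hnse] at hmem
  obtain ⟨-, n, hn⟩ := hmem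
  have hn' : sn G 11 = sn ↥Cfsg.Spor.M11 n := hn
  have hnot := sn_not hsM hcM n (hn' ▸ hpos)
  have h1 := card_order_eleven hc
  have h144 : Nat.card (Sylow 11 G) = 144 := by
    rcases Cfsg.Agent.Helper83.Ord7920.card_sylow_mem hc with h | h | h | h
    · exfalso; rw [h] at h1; exact hnot.1 (by rw [← hn', h1])
    · exfalso; rw [h] at h1; exact hnot.2.1 (by rw [← hn', h1])
    · exfalso; rw [h] at h1; exact hnot.2.2 (by rw [← hn', h1])
    · exact h
  exact iso_spor_of_n11 hc h144

end Cfsg.Agent.Helper7.NSE
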