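import Mathlib
import Cfsg.Agent.Lib.Helper48.O5760IDX
import Cfsg.Agent.Lib.Helper48.O5760N5
import Cfsg.Agent.Lib.Helper48.O5760NS
import Cfsg.Agent.Lib.Helper7.O5760OVER
import Cfsg.Agent.Lib.Helper48.O5760C16a
import Cfsg.Agent.Lib.Helper56.O5760C16b
import Cfsg.Agent.Lib.Helper48.O5760C36a
import Cfsg.Agent.Lib.Helper78.O5760C36c
import Cfsg.Agent.Lib.Helper56.O5760C36d
import Cfsg.Agent.Lib.Helper81.O5760A0
import Cfsg.Agent.Lib.Helper76.O5760A3b
import Cfsg.Agent.Lib.Helper81.O5760A4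
import Cfsg.Agent.Lib.Helper81.O5760A5
import Cfsg.Agent.Lib.Helper7.O5760B96
import Cfsg.Agent.Lib.Helper47.O5760C36b
import Cfsg.Agent.Lib.Helper95.O5760A1
import Cfsg.Agent.Lib.Helper17.PrimeTIApp
import Cfsg.Agent.Lib.Helper79.CharBasic

/-!
# O5760 assembly (helper7): no simple group of order 5760
-/

set_option autoImplicit false

namespace Cfsg.Agent.Helper7.O5760

open Cfsg MulAction

universe u

theorem main {G : Type u} [Group G] [Finite G] [IsSimpleGroup G] : Nat.card G ≠ 5760 := by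
  intro hG
  obtain ⟨R⟩ : Nonempty (Sylow 5 G) := inferInstance
  obtain ⟨hR, h16, h36, h96, h576⟩ := Cfsg.Agent.Helper48.O5760.card_normalizer_centralizer hG R
  have hidx := Cfsg.Agent.Helper48.O5760.index_ge_ten hG
  have hover := Cfsg.Agent.Helper7.O5760.card_overgroup R hR
  rcases Cfsg.Agent.Helper48.O5760.card_sylow5_cases hG with h | h | h | h
  · -- n_5 = 16
    obtain ⟨hN, hC⟩ := h16 h
    refine Cfsg.Agent.Helper56.O5760.false_of_sixteen hG h R ?_ (fun x hx hxR => Cfsg.Agent.Helper48.O5760.sixteen_fix hG h R hR x hx hxR)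
    rcases hC with hC | hC <;> rw [hC] <;> norm_num
  · -- n_5 = 36
    obtain ⟨hN, hC⟩ := h36 h
    have hmax := Cfsg.Agent.Helper48.O5760.max_of_thirtysix hG R hN hidx hover
    obtain ⟨c, hc8, hCc⟩ : ∃ c : ℕ, (c = 8 ∨ c = 16) ∧
        Nat.card (Subgroup.centralizer ((R : Subgroup G) : Set G)) = 5 * c := by
      rcases hC with hC | hC
      · exact ⟨8, Or.inl rfl, by rw [hC]⟩
      · exact ⟨16, Or.inr rfl, by rw [hC]⟩
    obtain ⟨K, hKC, hKc, hKn⟩ := Cfsg.Agent.Helper47.O5760.exists_complement_K R hR c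
      (by rcases hc8 with rfl | rfl <;> norm_num) hCc
    have hCN : Subgroup.centralizer ((R : Subgroup G) : Set G) ≤
        Subgroup.normalizer ((R : Subgroup G) : Set G) := Subgroup.centralizer_le_normalizer _
    obtain ⟨T, g, hTN, hT, hKT, hgN, hgT, hgg⟩ := Cfsg.Agent.Helper78.O5760.exists_T_g hG R hN K (hKC.trans hCN) hKn
      (by rcases hc8 with rfl | rfl
          · exact ⟨3, by rw [hKc]; norm_num⟩
          · exact ⟨4, by rw [hKc]; norm_num⟩)
    exact Cfsg.Agent.Helper56.O5760.false_of_thirtysix hG R hR hN hmax K hKC (by rw [hKc]; exact hc8) hKn T g hTN hT hKT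
      hgN hgT hgg
  · -- n_5 = 96
    exact false_of_ninetysix hG h
  · -- n_5 = 576
    obtain ⟨hN, hC⟩ := h576 h
    have := Fintype.ofFinite G
    obtain ⟨ε, w, d, x, X, θ₁, θ₂, hε, hw, hdeg, hX, h1, h2, h12, hX1, hX2, hXt, h1t, h2t, hXv, hθv,
      h0, hag⟩ := Cfsg.Agent.Helper95.O5760.ti_data R hR hN hC
    have : Fact (Nat.Prime 5) := ⟨by norm_num⟩
    obtain ⟨y, hy, hy1⟩ := Cfsg.Agent.Helper17.PrimeTI.exists_ne_one_of_prime_card (R : Subgroup G) hR
    have hcs := fun u hu => Cfsg.Agent.Helper76.O5760b.class_sum R ε w d x X θ₁ θ₂ hε hw hdeg hX h1 h2 h12 hX1 hX2 hXt h1t h2t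
      hXv hθv h0 hag hR y hy hy1 u hu
    have hperf : commutator G = ⊤ :=
      Cfsg.Agent.Helper17.PrimeTI.perfect_of_simple (by rw [hG]; norm_num)
    have hx2 : 2 ≤ x := by
      have hpos := (Cfsg.Agent.Helper79.irr_one_eq X).2
      rw [hX] at hpos
      by_contra hlt
      have hx1 : x = 1 := by omega
      exact hXt (Cfsg.Agent.Helper17.PrimeTI.linear_trivial_of_perfect hperf X (by rw [hX, hx1]))
    obtain ⟨u, hu, h128⟩ := Cfsg.Agent.Helper81.O5760.exists_central_invol hG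
    have hlt := Cfsg.Agent.Helper81.O5760.invol_centralizer_lt hG R hR hC d x ε w hε hw hdeg hx2 θ₁ h1
      (fun g hg => Cfsg.Agent.Helper81.O5760.irr_faithful θ₁ h1t g hg) y hy hy1 hcs u hu
    have hpos : 0 < Nat.card (Subgroup.centralizer ({u} : Set G)) := Nat.card_pos
    obtain ⟨k, hk⟩ := h128
    rw [hk] at hlt hpos
    omega

end Cfsg.Agent.Helper7.O5760
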