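import Cfsg.Agent.Lib.Helper7.Orbit

set_option autoImplicit false

namespace Cfsg.Agent.Helper7

def osProg : List (ℕ × ℕ) := [(0, 0), (0, 2), (3, 2), (0, 5), (1, 6), (1, 7), (2, 7), (3, 7), (0, 8), (4, 9), (2, 10), (0, 11), (1, 13), (0, 14), (0, 16), (3, 17), (0, 18), (3, 20), (4, 21), (0, 19), (12, 3), (25, 2), (26, 2), (27, 24), (1, 19), (15, 0), (30, 29), (0, 23), (22, 32)]

def osTabs : List (List ℕ) := [[2, 5, 1, 3, 10, 17, 4, 20, 16, 11, 19, 8, 6, 7, 14, 22, 18, 0, 9, 12, 15, 21, 13, 23], [17, 3, 0, 1, 6, 5, 9, 15, 16, 10, 20, 21, 7, 4, 14, 11, 13, 23, 22, 12, 8, 18, 19, 2], [14, 23, 17, 5, 4, 2, 8, 10, 13, 16, 7, 15, 12, 9, 0, 20, 18, 1, 6, 21, 11, 22, 19, 3]]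

def osWords : List (List ℕ) := [[], [2, 2, 1, 0, 2], [2], [2, 2, 2], [2, 2, 1, 0], [1, 0], [0, 0, 2, 2, 0, 1], [2, 2], [1, 0, 2], [2, 2, 2, 2], [2, 1, 0], [1, 2, 0, 1, 1], [1, 0, 2, 2], [1, 0, 1, 0], [1, 2, 2, 1], [2, 2, 1], [1, 1, 2, 2, 2], [0, 0, 1, 2, 0], [1], [2, 2, 2, 1], [1, 0, 2, 1], [0, 0, 0, 0], [2, 0, 0, 1, 0], [0, 0, 1, 0], [2, 1], [1, 0, 1, 0, 1], [1, 2, 2, 1, 1], [0, 0, 2, 1, 2], [1, 0, 1], [2, 1, 0, 1], [0, 2], [1, 1, 0, 0, 2, 0], [0, 0, 1, 1], [1, 2, 2, 0], [2, 2, 0, 2], [1, 1, 1, 2], [0, 0, 0, 1], [1, 0, 0, 2], [2, 2, 2, 0, 2], [2, 1, 0, 0, 2], [2, 0, 2], [1, 0, 2, 0, 2], [1, 0, 2, 2, 0, 2], [0, 0, 1, 2, 1], [1, 1, 2, 1, 0], [2, 0, 1, 1], [0, 1, 0, 2, 1], [2, 2, 2, 1, 2], [0, 1, 1], [2, 0, 2, 0, 1], [0, 2, 1, 1, 0], [1, 1, 0, 0], [1, 0, 0, 1, 1], [1,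 0, 2, 1, 2], [1, 2], [2, 1, 2], [2, 1, 0, 1, 2], [0, 2, 0, 1], [1, 2, 2, 0, 0, 1], [1, 0, 1, 2], [1, 2, 0, 2, 0], [1, 2, 2, 2], [0, 0, 0, 0, 1], [2, 1, 2, 2, 2], [1, 1], [0, 0, 1, 0, 1], [0, 1, 1, 1, 0, 0], [2, 1, 1], [1, 1, 2, 0, 0], [0, 0, 1, 2, 0, 1], [1, 0, 1, 1], [1, 1, 2, 2, 0], [1, 1, 2, 1, 2], [1, 0, 2, 1, 1], [0, 0, 2, 1, 0], [0], [2, 0, 2, 2], [2, 2, 0], [1, 0, 0], [2, 1, 0, 0], [2, 2, 2, 0], [0, 0, 0, 1, 2], [0, 0, 1, 1, 2], [1, 0, 2, 2, 0], [2, 0], [2, 2, 2, 2, 0], [2, 2, 1, 0, 0], [1, 1, 1], [1, 0, 1, 0, 0], [1, 0, 2, 0], [0, 1, 0, 2, 2], [0, 1, 0, 1], [0, 2, 0, 2], [0, 1, 2], [0, 2, 1, 1], [1, 0, 0, 2, 0, 2], [0, 2, 0, 0, 1], [0, 2, 1, 2, 2], [2, 0, 1, 0, 1], [2, 0, 2, 0, 2], [1, 0, 0, 1, 2], [1, 1, 0], [2, 2, 0, 1, 2], [1, 0, 2, 0, 1, 2], [0, 2, 0, 0, 2,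 2], [0, 2, 1, 0, 1, 0], [0, 2, 1, 0, 2, 1], [1, 0, 2, 0, 0, 0], [2, 2, 0, 0, 1], [2, 0, 0, 0], [0, 2, 1, 0, 2, 0], [0, 0, 1, 2], [1, 0, 0, 0, 1], [0, 0, 1, 2, 2], [2, 0, 0, 0, 2], [1, 0, 0, 0, 0], [0, 0, 0], [0, 0, 1], [0, 0, 0, 2], [2, 0, 0, 1], [1, 2, 1, 1], [2, 1, 2, 2], [2, 0, 2, 0, 1, 2], [0, 0, 2, 0, 2, 0], [0, 1, 2, 1, 2, 0], [0, 2, 1, 0, 0], [0, 2, 0, 1, 2], [1, 1, 0, 0, 2], [1, 1, 2, 1], [0, 1, 1, 2], [1, 2, 2], [0, 0, 2, 2, 0], [0, 1, 1, 1, 1], [0, 1, 1, 0, 1], [1, 2, 0, 1], [0, 1, 0], [0, 2, 1], [2, 0, 1, 0], [0, 1, 0, 1, 2], [0, 2, 1, 2, 2, 2], [0, 1, 0, 2, 0], [2, 0, 2, 0, 0], [0, 2, 0, 0, 1, 2], [0, 1, 2, 2], [0, 0, 1, 1, 1], [1, 0, 0, 1, 0], [0, 2, 0, 0], [2, 2, 0, 2, 1], [1, 1, 0, 2], [2, 0, 2, 1], [0, 1, 0, 2, 1, 0], [1, 0, 1, 1, 2], [1, 1, 2], [0, 2,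 0, 1, 1], [2, 1, 1, 2], [0, 1, 1, 1], [0, 1, 1, 0], [2, 1, 0, 1, 2, 0], [1, 2, 1], [0, 2, 0, 1, 0], [1, 2, 0], [1, 0, 1, 2, 1], [1, 1, 2, 0, 0, 2], [0, 2, 1, 1, 0, 1], [2, 1, 2, 1], [1, 0, 1, 1, 2, 0], [1, 2, 0, 2], [1, 2, 1, 0], [0, 0, 2, 0, 1], [1, 2, 0, 0], [1, 1, 2, 2], [2, 1, 1, 2, 0], [1, 0, 1, 2, 1, 0], [0, 1, 2, 1, 1], [0, 0, 2, 1], [2, 1, 1, 2, 2], [0, 1, 1, 1, 0], [1, 1, 2, 0], [1, 0, 1, 2, 1, 2], [0, 1, 2, 1, 0, 1], [0, 2, 1, 0, 2], [0, 2, 1, 0, 1], [0, 0, 2, 2, 2], [2, 2, 2, 0, 0], [2, 0, 2, 1, 0, 2], [0, 0], [2, 1, 0, 0, 0], [0, 2, 0, 0, 0, 2], [1, 0, 2, 0, 0], [1, 1, 1, 0], [1, 0, 0, 0], [2, 0, 0], [2, 2, 0, 0], [0, 0, 2, 0, 2, 1], [0, 1, 2, 1, 2, 1], [0, 1, 0, 2], [0, 1], [1, 0, 0, 2, 0], [0, 2, 1, 2], [2, 0, 2, 0], [0, 2, 0], [1, 2, 2, 0, 0], [1, 0, 2,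 0, 2, 0], [2, 0, 1], [2, 2, 0, 1], [1, 0, 0, 1], [0, 0, 1, 1, 1, 2], [1, 0, 2, 0, 1], [0, 2, 0, 0, 2], [1, 1, 0, 2, 2], [2, 0, 0, 2, 0], [2, 0, 0, 2], [0, 0, 2], [0, 2, 1, 0, 1, 2], [0, 1, 0, 1, 1], [0, 2, 1, 1, 1], [2, 2, 0, 0, 2], [1, 1, 0, 1], [2, 0, 2, 0, 2, 1], [0, 0, 2, 0, 0], [0, 1, 2, 1], [0, 1, 2, 1, 0], [0, 2, 1, 1, 1, 0], [0, 0, 2, 0], [0, 0, 2, 0, 0, 0], [0, 2, 1, 0], [0, 1, 2, 1, 0, 2], [0, 1, 2, 2, 0], [1, 1, 2, 0, 1], [1, 2, 0, 2, 1], [0, 0, 2, 2], [0, 0, 2, 0, 2], [0, 2, 0, 0, 0], [2, 0, 2, 1, 0], [1, 2, 1, 0, 1], [0, 0, 2, 0, 1, 1], [0, 1, 2, 1, 2], [0, 1, 0, 2, 0, 0], [1, 1, 2, 2, 1], [1, 1, 0, 2, 0]]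

def osTargets : List (ℕ × ℕ) := [(4, 6), (4, 7), (4, 8), (4, 9), (4, 10), (4, 11), (4, 12), (4, 13), (4, 15), (4, 16), (4, 18), (4, 19), (4, 20), (4, 21), (4, 22), (6, 4), (6, 7), (6, 8), (6, 9), (6, 10), (6, 11), (6, 12), (6, 13), (6, 15), (6, 16), (6, 18), (6, 19), (6, 20), (6, 21), (6, 22), (7, 4), (7, 6), (7, 8), (7, 9), (7, 10), (7, 11), (7, 12), (7, 13), (7, 15), (7, 16), (7, 18), (7, 19), (7, 20), (7, 21), (7, 22), (8, 4), (8, 6), (8, 7), (8, 9), (8, 10), (8, 11), (8, 12), (8, 13), (8, 15), (8, 16), (8, 18), (8, 19), (8, 20), (8, 21), (8, 22), (9, 4), (9, 6), (9, 7), (9, 8), (9, 10), (9, 11), (9, 12), (9, 13), (9, 15), (9, 16), (9, 18), (9, 19), (9, 20), (9, 21), (9, 22), (10, 4), (10, 6), (10, 7), (10, 8), (10, 9), (10, 11), (10, 12), (10, 13), (10, 15), (10,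 16), (10, 18), (10, 19), (10, 20), (10, 21), (10, 22), (11, 4), (11, 6), (11, 7), (11, 8), (11, 9), (11, 10), (11, 12), (11, 13), (11, 15), (11, 16), (11, 18), (11, 19), (11, 20), (11, 21), (11, 22), (12, 4), (12, 6), (12, 7), (12, 8), (12, 9), (12, 10), (12, 11), (12, 13), (12, 15), (12, 16), (12, 18), (12, 19), (12, 20), (12, 21), (12, 22), (13, 4), (13, 6), (13, 7), (13, 8), (13, 9), (13, 10), (13, 11), (13, 12), (13, 15), (13, 16), (13, 18), (13, 19), (13, 20), (13, 21), (13, 22), (15, 4), (15, 6), (15, 7), (15, 8), (15, 9), (15, 10), (15, 11), (15, 12), (15, 13), (15, 16), (15, 18), (15, 19), (15, 20), (15, 21), (15, 22), (16, 4), (16, 6), (16, 7), (16, 8), (16, 9), (16, 10), (16, 11), (16, 12), (16, 13), (16, 15), (16, 18), (16, 19), (16, 20), (16, 21), (16, 22),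 (18, 4), (18, 6), (18, 7), (18, 8), (18, 9), (18, 10), (18, 11), (18, 12), (18, 13), (18, 15), (18, 16), (18, 19), (18, 20), (18, 21), (18, 22), (19, 4), (19, 6), (19, 7), (19, 8), (19, 9), (19, 10), (19, 11), (19, 12), (19, 13), (19, 15), (19, 16), (19, 18), (19, 20), (19, 21), (19, 22), (20, 4), (20, 6), (20, 7), (20, 8), (20, 9), (20, 10), (20, 11), (20, 12), (20, 13), (20, 15), (20, 16), (20, 18), (20, 19), (20, 21), (20, 22), (21, 4), (21, 6), (21, 7), (21, 8), (21, 9), (21, 10), (21, 11), (21, 12), (21, 13), (21, 15), (21, 16), (21, 18), (21, 19), (21, 20), (21, 22), (22, 4), (22, 6), (22, 7), (22, 8), (22, 9), (22, 10), (22, 11), (22, 12), (22, 13), (22, 15), (22, 16), (22, 18), (22, 19), (22, 20), (22, 21)]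

def osWords0 : List (List ℕ) := [[], [0, 0], [0], [0, 0, 1], [0, 0, 0], [2], [1], [1, 1]]

def osTargets0 : List ℕ := [0, 1, 2, 3, 5, 14, 17, 23]

end Cfsg.Agent.Helper7
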