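import Cfsg.Agent.Lib.Helper7.LeechAct

/-!
# Orbit certificates for stabilisers in the automorphism group of the Leech lattice
-/

set_option autoImplicit false

namespace Cfsg.Agent.Helper7
open Cfsg Cfsg.Agent.Helper91 Cfsg.Agent.Helper92

/-! ### Sorting natural numbers, for duplicate detection -/

/-- merging with fuel -/
def mergeF : ℕ → List ℕ → List ℕ → List ℕ
  | 0, xs, ys => xs ++ ys
  | _ + 1, [], ys => ys
  | _ + 1, x :: xs, [] => x :: xs
  | f + 1, x :: xs, y :: ys =>
    bif Nat.ble x y then x :: mergeF f xs (y :: ys) else y :: mergeF f (x :: xs) ys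

theorem mergeF_perm : ∀ (f : ℕ) (xs ys : List ℕ), (mergeF f xs ys).Perm (xs ++ ys)
  | 0, xs, ys => by rw [mergeF]
  | f + 1, [], ys => by rw [mergeF]; simp
  | f + 1, x :: xs, [] => by rw [mergeF]; simp
  | f + 1, x :: xs, y :: ys => by
      rw [mergeF]
      cases Nat.ble x y
      · rw [cond_false]
        refine ((mergeF_perm f (x :: xs) ys).cons y).trans ?_
        exact (List.perm_middle (a := y) (l₁ := x :: xs) (l₂ := ys)).symm
      · rw [cond_true]
        exact (mergeF_perm f xs (y :: ys)).cons x

/-- splitting a list into two halves -/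
def splitL : List ℕ → List ℕ × List ℕ
  | [] => ([], [])
  | [a] => ([a], [])
  | a :: b :: l => (a :: (splitL l).1, b :: (splitL l).2)

theorem splitL_perm : ∀ l : List ℕ, ((splitL l).1 ++ (splitL l).2).Perm l
  | [] => by simp [splitL]
  | [a] => by simp [splitL]
  | a :: b :: l => by
      simp only [splitL, List.cons_append]
      refine List.Perm.cons a ?_
      refine (List.perm_middle (a := b) (l₁ := (splitL l).1) (l₂ := (splitL l).2)).trans ?_
      exact (splitL_perm l).cons b

/-- merge sort with a depth bound -/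
def msort : ℕ → List ℕ → List ℕ
  | 0, l => l
  | d + 1, l => mergeF l.length (msort d (splitL l).1) (msort d (splitL l).2)

theorem msort_perm : ∀ (d : ℕ) (l : List ℕ), (msort d l).Perm l
  | 0, l => by rw [msort]
  | d + 1, l => by
      rw [msort]
      refine (mergeF_perm _ _ _).trans ?_
      exact ((msort_perm d _).append (msort_perm d _)).trans (splitL_perm l)

/-- the check that a list is strictly increasing -/
def isStrictSorted : List ℕ → Bool
  | [] => true
  | [_] => true
  | a :: b :: l => Nat.blt a b && isStrictSorted (b :: l)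

theorem pairwise_of_isStrictSorted : ∀ l : List ℕ, isStrictSorted l = true → l.Pairwise (· < ·)
  | [], _ => List.Pairwise.nil
  | [a], _ => List.pairwise_singleton _ _
  | a :: b :: l, h => by
      rw [isStrictSorted, Bool.and_eq_true, Nat.blt_eq] at h
      have ih := pairwise_of_isStrictSorted (b :: l) h.2
      refine List.Pairwise.cons ?_ ih
      intro x hx
      rcases List.mem_cons.mp hx with rfl | hx
      · exact h.1
      · exact lt_trans h.1 (List.rel_of_pairwise_cons ih hx)

theorem nodup_of_msort (d : ℕ) (l : List ℕ) (h : isStrictSorted (msort d l) = true) : l.Nodup := by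
  rw [← (msort_perm d l).nodup_iff]
  exact (pairwise_of_isStrictSorted _ h).imp (fun hab => ne_of_lt hab)

/-! ### Duplicate detection from a sorting permutation -/

/-- the number with given digits in base `B` -/
def ofDB (B : ℕ) : List ℕ → ℕ
  | [] => 0
  | a :: l => Nat.add a (Nat.mul B (ofDB B l))

theorem digit_ofDB (B : ℕ) (hB : 0 < B) : ∀ (L : List ℕ), (∀ d ∈ L, d < B) → ∀ k, k < L.length →
    ofDB B L / B ^ k % B = L.getD k 0
  | [], _, k, hk => by simp at hk
  | a :: L, hL, 0, _ => by
      have ha := hL a List.mem_cons_self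
      show (a + B * ofDB B L) / B ^ 0 % B = _
      rw [pow_zero, Nat.div_one, List.getD_cons_zero, Nat.add_mul_mod_self_left,
        Nat.mod_eq_of_lt ha]
  | a :: L, hL, k + 1, hk => by
      have ha := hL a List.mem_cons_self
      have ih := digit_ofDB B hB L (fun d hd => hL d (List.mem_cons_of_mem _ hd)) k
        (by simpa using hk)
      show (a + B * ofDB B L) / B ^ (k + 1) % B = _
      rw [List.getD_cons_succ, ← ih, pow_succ', ← Nat.div_div_eq_div_mul]
      have : (a + B * ofDB B L) / B = ofDB B L := by
        rw [Nat.add_mul_div_left _ _ hB, Nat.div_eq_of_lt ha, Nat.zero_add]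
      rw [this]

/-- the entry of index `i` of a packed list -/
def getB (P i : ℕ) : ℕ :=
  Nat.land (Nat.shiftRight P (Nat.mul 144 i)) 22300745198530623141535718272648361505980415

theorem getB_ofDB (L : List ℕ) (hL : ∀ d ∈ L, d < 2 ^ 144) (k : ℕ) (hk : k < L.length) :
    getB (ofDB (2 ^ 144) L) k = L.getD k 0 := by
  rw [← digit_ofDB (2 ^ 144) (by norm_num) L hL k hk]
  unfold getB
  have h1 : (22300745198530623141535718272648361505980415 : ℕ) = 2 ^ 144 - 1 := by norm_num
  rw [h1]
  show (ofDB (2 ^ 144) L >>> (144 * k)) &&& (2 ^ 144 - 1) = _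
  rw [Nat.and_two_pow_sub_one_eq_mod, Nat.shiftRight_eq_div_pow, pow_mul]

/-- decoding a list of indices packed into one number: `n` digits in base 65536 -/
def decodeIdx : ℕ → ℕ → List ℕ
  | 0, _ => []
  | n + 1, m => Nat.mod m 65536 :: decodeIdx n (Nat.div m 65536)

/-- the check that the entries of `out`, read in the order `I`, increase strictly -/
def nodupCheck (out : List ℕ) (I : List ℕ) : Bool :=
  out.all (fun a => Nat.blt a 22300745198530623141535718272648361505980416) &&
    Nat.beq I.length out.length && I.all (fun i => Nat.blt i out.length) &&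
    isStrictSorted (I.map (getB (ofDB 22300745198530623141535718272648361505980416 out)))

theorem nodup_of_check (out I : List ℕ) (h : nodupCheck out I = true) : out.Nodup := by
  unfold nodupCheck at h
  simp only [Bool.and_eq_true, List.all_eq_true, Nat.blt_eq, Nat.beq_eq] at h
  obtain ⟨⟨⟨h1, h2⟩, h3⟩, h4⟩ := h
  have e : (22300745198530623141535718272648361505980416 : ℕ) = 2 ^ 144 := by norm_num
  rw [e] at h1 h4
  have hvals : I.map (getB (ofDB (2 ^ 144) out)) = I.map (fun i => out.getD i 0) := by
    apply List.map_congr_left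
    intro i hi
    exact getB_ofDB out h1 i (h3 i hi)
  rw [hvals] at h4
  have hnd : (I.map (fun i => out.getD i 0)).Nodup :=
    (pairwise_of_isStrictSorted _ h4).imp (fun hab => ne_of_lt hab)
  have hI : I.Nodup := List.Nodup.of_map _ hnd
  have hperm : I.Perm (List.range out.length) := by
    apply List.perm_of_nodup_nodup_toFinset_eq hI List.nodup_range
    apply Finset.eq_of_subset_of_card_le
    · intro i hi
      rw [List.mem_toFinset] at hi ⊢
      exact List.mem_range.mpr (h3 i hi)
    · rw [List.toFinset_card_of_nodup hI, List.toFinset_card_of_nodup List.nodup_range,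
        List.length_range, h2]
  have hout : (List.range out.length).map (fun i => out.getD i 0) = out := by
    apply List.ext_getElem
    · simp
    · intro i h1 h2
      simp only [List.getElem_map, List.getElem_range]
      exact List.getD_eq_getElem _ _ _
  rw [← hout]
  exact (hperm.map _).nodup_iff.mp hnd

/-! ### Codes of vectors -/

/-- a number depending only on the first 24 entries of a list -/
def codeV (v : List ℤ) : ℕ :=
  (List.range 24).foldr (fun i acc => (v.getD i 0 + 32).toNat + 64 * acc) 0

theorem codeV_congr {v v' : List ℤ} (h : vecOf v = vecOf v') : codeV v = codeV v' := by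
  unfold codeV
  apply List.foldr_ext
  intro i hi acc
  rw [List.mem_range] at hi
  rw [← vecOf_pt v i hi, ← vecOf_pt v' i hi, h]

/-! ### Packed vectors -/

/-- the entries of a list are small enough for the packing -/
def Bounded (v : List ℤ) : Prop := ∀ i < 24, -32 < v.getD i 0 ∧ v.getD i 0 < 32

/-- the `k`-th digit in base 64 -/
def digitN (c k : ℕ) : ℕ := c / 64 ^ k % 64

/-- the number with given digits in base 64 -/
def ofD (L : List ℕ) : ℕ := L.foldr (fun d acc => d + 64 * acc) 0

theorem ofD_cons (a : ℕ) (L : List ℕ) : ofD (a :: L) = a + 64 * ofD L := rfl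

theorem digitN_ofD : ∀ (L : List ℕ), (∀ d ∈ L, d < 64) → ∀ k, k < L.length →
    digitN (ofD L) k = L.getD k 0
  | [], _, k, hk => by simp at hk
  | a :: L, hL, 0, _ => by
      have ha := hL a List.mem_cons_self
      rw [ofD_cons, List.getD_cons_zero]
      unfold digitN
      rw [pow_zero, Nat.div_one]
      omega
  | a :: L, hL, k + 1, hk => by
      have ha := hL a List.mem_cons_self
      have ih := digitN_ofD L (fun d hd => hL d (List.mem_cons_of_mem _ hd)) k
        (by simpa using hk)
      rw [ofD_cons, List.getD_cons_succ, ← ih]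
      unfold digitN
      rw [pow_succ', ← Nat.div_div_eq_div_mul]
      have : (a + 64 * ofD L) / 64 = ofD L := by omega
      rw [this]

theorem codeV_eq_ofD (v : List ℤ) :
    codeV v = ofD ((List.range 24).map fun i => (v.getD i 0 + 32).toNat) := by
  unfold codeV ofD
  rw [List.foldr_map]

theorem digitN_codeV (v : List ℤ) (hB : Bounded v) (k : ℕ) (hk : k < 24) :
    digitN (codeV v) k = (v.getD k 0 + 32).toNat := by
  rw [codeV_eq_ofD, digitN_ofD _ _ k (by simpa using hk), getD_map_range _ _ _ _ hk]
  intro d hd
  rw [List.mem_map] at hd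
  obtain ⟨i, hi, rfl⟩ := hd
  have := hB i (List.mem_range.mp hi)
  omega

/-- unpacking a number into a list of 24 coordinates -/
def unpackN (c : ℕ) : List ℤ := (List.range 24).map fun i => (digitN c i : ℤ) - 32

theorem vecOf_unpackN (v : List ℤ) (hB : Bounded v) : vecOf (unpackN (codeV v)) = vecOf v := by
  funext p
  unfold vecOf unpackN
  rw [getD_map_range _ _ _ _ (idx_lt p), digitN_codeV v hB _ (idx_lt p)]
  have := hB (idx p) (idx_lt p)
  omega

theorem vecOf_eq_of_codeV {v v' : List ℤ} (hB : Bounded v) (hB' : Bounded v')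
    (h : codeV v = codeV v') : vecOf v = vecOf v' := by
  rw [← vecOf_unpackN v hB, ← vecOf_unpackN v' hB', h]

theorem bounded_of_norm {x : leechLattice} {v : List ℤ} (hx : x.1 = vecOf v)
    (hn : sqNorm x.1 < 1024) : Bounded v := by
  intro i hi
  have h1 : x.1 (pt i) ^ 2 ≤ sqNorm x.1 := by
    unfold sqNorm
    exact Finset.single_le_sum (f := fun j => x.1 j ^ 2) (fun j _ => sq_nonneg (x.1 j))
      (Finset.mem_univ (pt i))
  have h2 : x.1 (pt i) ^ 2 < 1024 := lt_of_le_of_lt h1 hn
  rw [hx, vecOf_pt v i hi] at h2
  constructor <;> nlinarith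

/-- a signed permutation acting on a packed vector -/
def monoN (li : List ℕ) (cm : ℕ) (c : ℕ) : ℕ :=
  (List.range 24).foldr (fun i acc =>
    (if cm.testBit i = true then 64 - digitN c (li.getD i 0) else digitN c (li.getD i 0)) +
      64 * acc) 0

theorem monoN_codeV (li : List ℕ) (hli : ∀ i < 24, li.getD i 0 < 24) (cm : ℕ) (v : List ℤ)
    (hB : Bounded v) : monoN li cm (codeV v) = codeV (monoL li cm v) := by
  unfold monoN codeV
  apply List.foldr_ext
  intro i hi acc
  rw [List.mem_range] at hi
  have hd := digitN_codeV v hB (li.getD i 0) (hli i hi)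
  unfold codeV at hd
  rw [hd]
  unfold monoL
  rw [getD_map_range _ _ _ _ hi]
  have hb := hB (li.getD i 0) (hli i hi)
  split_ifs <;> omega

/-- a signed permutation acting on a packed vector, from a table of pairs
(`64 ^ source`, sign), written with the primitive operations the kernel evaluates fast -/
def monoT : List (ℕ × Bool) → ℕ → ℕ
  | [], _ => 0
  | (p, b) :: t, c =>
    Nat.add (bif b then Nat.sub 64 (Nat.mod (Nat.div c p) 64) else Nat.mod (Nat.div c p) 64)
      (Nat.mul 64 (monoT t c))

theorem monoT_map (li : List ℕ) (cm : ℕ) (c : ℕ) : ∀ L : List ℕ,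
    monoT (L.map fun i => (64 ^ (li.getD i 0), cm.testBit i)) c =
      L.foldr (fun i acc =>
        (if cm.testBit i = true then 64 - digitN c (li.getD i 0) else digitN c (li.getD i 0)) +
          64 * acc) 0
  | [] => rfl
  | i :: L => by
      rw [List.map_cons, monoT, List.foldr_cons, monoT_map li cm c L]
      cases cm.testBit i <;> rfl

theorem monoT_eq (tbl : List (ℕ × Bool)) (li : List ℕ) (cm : ℕ)
    (h : tbl = (List.range 24).map fun i => (64 ^ (li.getD i 0), cm.testBit i)) (c : ℕ) :
    monoT tbl c = monoN li cm c := by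
  rw [h, monoT_map]
  rfl

/-! ### Good packed actions -/

/-- a map of packed vectors realised by an automorphism of the lattice -/
def GoodActN (a : ℕ → ℕ) : Prop :=
  ∃ g : Equiv.Perm leechLattice, g ∈ Co0 ∧ ∀ (x : leechLattice) (v : List ℤ), x.1 = vecOf v →
    sqNorm x.1 < 1024 → ∃ v', (g x).1 = vecOf v' ∧ a (codeV v) = codeV v'

theorem goodActN_id : GoodActN id := ⟨1, Co0.one_mem, fun _ v hx _ => ⟨v, hx, rfl⟩⟩

theorem GoodActN.comp {a a' : ℕ → ℕ} (h : GoodActN a) (h' : GoodActN a') : GoodActN (a' ∘ a) := by
  obtain ⟨g, hg, hga⟩ := h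
  obtain ⟨g', hg', hga'⟩ := h'
  refine ⟨g' * g, Co0.mul_mem hg' hg, fun x v hx hn => ?_⟩
  obtain ⟨v1, hv1, ha1⟩ := hga x v hx hn
  obtain ⟨v2, hv2, ha2⟩ := hga' (g x) v1 hv1 (by rw [hg.2]; exact hn)
  exact ⟨v2, hv2, by rw [Function.comp_apply, ha1, ha2]⟩

/-- the action of a word in a list of actions: the first letter acts first -/
def wordAct (acts : List (ℕ → ℕ)) : List ℕ → ℕ → ℕ
  | [], c => c
  | j :: w, c => wordAct acts w (acts.getD j id c)

theorem goodActN_word {acts : List (ℕ → ℕ)} (hA : ∀ a ∈ acts, GoodActN a) :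
    ∀ w : List ℕ, GoodActN (wordAct acts w)
  | [] => goodActN_id
  | j :: w => by
      have hj : GoodActN (acts.getD j id) := by
        by_cases hj : j < acts.length
        · rw [List.getD_eq_getElem _ _ hj]
          exact hA _ (List.getElem_mem hj)
        · rw [List.getD_eq_default _ _ (by omega)]
          exact goodActN_id
      exact hj.comp (goodActN_word hA w)

theorem goodActN_mono (l li : List ℕ) (cm : ℕ) (h : tabOK l li = true) (hm : m24OK l = true)
    (hc : codeOK cm = true) : GoodActN (monoN li cm) := by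
  obtain ⟨g, hg, hgf⟩ := goodAct_mono l li cm h hm hc
  exact ⟨g, hg, fun x v hx hn => ⟨monoL li cm v, hgf x v hx,
    monoN_codeV li (fun i hi => (tabOK_spec h i hi).2.1) cm v (bounded_of_norm hx hn)⟩⟩

theorem goodActN_monoT (tbl : List (ℕ × Bool)) (l li : List ℕ) (cm : ℕ)
    (ht : tbl = (List.range 24).map fun i => (64 ^ (li.getD i 0), cm.testBit i))
    (h : tabOK l li = true) (hm : m24OK l = true) (hc : codeOK cm = true) :
    GoodActN (monoT tbl) := by
  have : monoT tbl = monoN li cm := funext (monoT_eq tbl li cm ht)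
  rw [this]
  exact goodActN_mono l li cm h hm hc

/-- any good action on lists gives a good packed action -/
theorem goodActN_of_list (f : List ℤ → List ℤ) (hf : GoodAct f) :
    GoodActN (fun c => codeV (f (unpackN c))) := by
  obtain ⟨g, hg, hgf⟩ := hf
  exact ⟨g, hg, fun x v hx hn => ⟨f (unpackN (codeV v)),
    hgf x _ (by rw [vecOf_unpackN v (bounded_of_norm hx hn)]; exact hx), rfl⟩⟩

/-! ### The traversal -/

/-- Depth-first traversal driven by a certificate: an entry `(k, j)` pops `k` vectors off the
stack and applies the action `j` to the top of the stack. Returns all vectors produced. -/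
def dfsN (acts : List (ℕ → ℕ)) (root : ℕ) : List (ℕ × ℕ) → List ℕ → List ℕ → List ℕ
  | [], _, out => out
  | (k, j) :: cs, stack, out =>
    dfsN acts root cs ((acts.getD j id) ((stack.drop k).headD root) :: stack.drop k)
      ((acts.getD j id) ((stack.drop k).headD root) :: out)

/-- decoding a certificate packed into one number: `n` digits in base 1024, a digit being
`8 * k + j` -/
def decodeCert : ℕ → ℕ → List (ℕ × ℕ)
  | 0, _ => []
  | n + 1, m => (Nat.div (Nat.mod m 1024) 8, Nat.mod m 8) :: decodeCert n (Nat.div m 1024)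

/-- reachability from the root by automorphisms fixing the base vectors -/
def SReach (us : List leechLattice) (root : leechLattice) (c : ℕ) : Prop :=
  ∃ g : Equiv.Perm leechLattice, g ∈ Co0 ∧ (∀ u ∈ us, g u = u) ∧
    ∃ v, (g root).1 = vecOf v ∧ codeV v = c

/-- the actions are realised by automorphisms and fix the codes of the base vectors -/
def GoodActs (uc : List ℕ) (acts : List (ℕ → ℕ)) : Prop :=
  ∀ a ∈ acts, GoodActN a ∧ ∀ c ∈ uc, a c = c

theorem GoodActs.getD {uc : List ℕ} {acts : List (ℕ → ℕ)}
    (h : GoodActs uc acts) (j : ℕ) : GoodActN (acts.getD j id) ∧ ∀ c ∈ uc, (acts.getD j id) c = c := by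
  by_cases hj : j < acts.length
  · rw [List.getD_eq_getElem _ _ hj]
    exact h _ (List.getElem_mem hj)
  · rw [List.getD_eq_default _ _ (by omega)]
    exact ⟨goodActN_id, fun _ _ => rfl⟩

/-- the base vectors, with lists of coordinates, of small norm -/
def BaseOK (us : List leechLattice) (ul : List (List ℤ)) : Prop :=
  List.Forall₂ (fun (u : leechLattice) v => u.1 = vecOf v ∧ sqNorm u.1 < 1024) us ul

theorem SReach.step {us : List leechLattice} {ul : List (List ℤ)} (hus : BaseOK us ul)
    {root : leechLattice} (hrn : sqNorm root.1 < 1024) {c : ℕ} (h : SReach us root c)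
    {a : ℕ → ℕ} (ha : GoodActN a) (hfix : ∀ c ∈ ul.map codeV, a c = c) :
    SReach us root (a c) := by
  obtain ⟨g, hg, hgu, v, hgr, rfl⟩ := h
  obtain ⟨k, hk, hka⟩ := ha
  obtain ⟨v', hv', hav'⟩ := hka (g root) v hgr (by rw [hg.2]; exact hrn)
  refine ⟨k * g, Co0.mul_mem hk hg, ?_, v', ?_, hav'.symm⟩
  · intro u hu
    rw [Equiv.Perm.mul_apply, hgu u hu]
    obtain ⟨i, hi, rfl⟩ := List.getElem_of_mem hu
    have hlen := hus.length_eq
    have hi' : i < ul.length := by omega
    obtain ⟨huv, hun⟩ : (us[i]).1 = vecOf (ul[i]) ∧ sqNorm (us[i]).1 < 1024 :=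
      (List.forall₂_iff_get.mp hus).2 i hi hi'
    have hBu : Bounded (ul[i]) := bounded_of_norm huv hun
    obtain ⟨w, hw, haw⟩ := hka (us[i]) (ul[i]) huv hun
    have hfx := hfix (codeV ul[i]) (List.mem_map.mpr ⟨_, List.getElem_mem hi', rfl⟩)
    rw [hfx] at haw
    have hBw : Bounded w := bounded_of_norm hw (by rw [hk.2]; exact hun)
    apply Subtype.ext
    rw [hw, huv]
    exact (vecOf_eq_of_codeV hBu hBw haw).symm
  · rw [Equiv.Perm.mul_apply]
    exact hv'

theorem dfsN_reach {us : List leechLattice} {ul : List (List ℤ)} (hus : BaseOK us ul)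
    {acts : List (ℕ → ℕ)} (hA : GoodActs (ul.map codeV) acts) (root : leechLattice)
    (hrn : sqNorm root.1 < 1024) (rl : List ℤ) (hroot : root.1 = vecOf rl)
    (cert : List (ℕ × ℕ)) (stack out : List ℕ)
    (hs : ∀ c ∈ stack, SReach us root c) (ho : ∀ c ∈ out, SReach us root c) :
    ∀ c ∈ dfsN acts (codeV rl) cert stack out, SReach us root c := by
  induction cert generalizing stack out with
  | nil => exact ho
  | cons c cs ih =>
    obtain ⟨k, j⟩ := c
    rw [dfsN]
    obtain ⟨hf, hfix⟩ := hA.getD j
    have htop : SReach us root ((stack.drop k).headD (codeV rl)) := by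
      cases hd : stack.drop k with
      | nil => exact ⟨1, Co0.one_mem, fun _ _ => rfl, rl, hroot, rfl⟩
      | cons a as =>
        apply hs
        apply List.mem_of_mem_drop (i := k)
        rw [hd]
        exact List.mem_cons_self
    have hnew := htop.step hus hrn hf hfix
    apply ih
    · intro m hm
      rcases List.mem_cons.mp hm with rfl | hm
      · exact hnew
      · exact hs m (List.mem_of_mem_drop hm)
    · intro m hm
      rcases List.mem_cons.mp hm with rfl | hm
      · exact hnew
      · exact ho m hm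

/-- The counting argument behind the main criterion. -/
theorem orbit_cover_aux {us : List leechLattice} (root : leechLattice) (out : List ℕ)
    (hreach : ∀ c ∈ out, SReach us root c) (hnd : out.Nodup)
    (X : Set leechLattice) (n : ℕ) (hn : 0 < n) (hX : X.ncard = n) (hrX : root ∈ X)
    (hinv : ∀ g : Equiv.Perm leechLattice, g ∈ Co0 → (∀ u ∈ us, g u = u) → ∀ x ∈ X, g x ∈ X)
    (hlen : out.length = n) :
    ∀ x ∈ X, ∃ g : Equiv.Perm leechLattice, g ∈ Co0 ∧ (∀ u ∈ us, g u = u) ∧ g root = x := by
  classical
  have hXfin : X.Finite := Set.finite_of_ncard_pos (by omega)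
  -- choose the automorphism of each code
  choose! G hG using hreach
  have hφinj : ∀ a ∈ out, ∀ b ∈ out, (G a root).1 = (G b root).1 → a = b := by
    intro a ha b hb hab
    obtain ⟨-, -, v, hv, hva⟩ := hG a ha
    obtain ⟨-, -, w, hw, hwb⟩ := hG b hb
    rw [← hva, ← hwb]
    apply codeV_congr
    rw [← hv, ← hw]
    exact hab
  have hFnd : (out.map fun c => (G c root).1).Nodup := List.Nodup.map_on hφinj hnd
  have hFcard : ((out.map fun c => (G c root).1).toFinset).card = n := by
    rw [List.toFinset_card_of_nodup hFnd, List.length_map, hlen]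
  have hFsub : (((out.map fun c => (G c root).1).toFinset : Finset (GolayPt → ℤ)) :
      Set (GolayPt → ℤ)) ⊆ Subtype.val '' X := by
    intro w hw
    rw [Finset.mem_coe, List.mem_toFinset, List.mem_map] at hw
    obtain ⟨c, hc, rfl⟩ := hw
    obtain ⟨hg, hgu, -⟩ := hG c hc
    exact ⟨G c root, hinv (G c) hg hgu root hrX, rfl⟩
  have himg : (Subtype.val '' X).ncard = n := by
    rw [Set.ncard_image_of_injective _ Subtype.val_injective, hX]
  have hEq := Set.eq_of_subset_of_ncard_le hFsub
    (by rw [himg, Set.ncard_coe_finset, hFcard]) (hXfin.image _)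
  intro x hx
  have : x.1 ∈ (((out.map fun c => (G c root).1).toFinset : Finset (GolayPt → ℤ)) :
      Set (GolayPt → ℤ)) := by rw [hEq]; exact ⟨x, hx, rfl⟩
  rw [Finset.mem_coe, List.mem_toFinset, List.mem_map] at this
  obtain ⟨c, hc, hcx⟩ := this
  obtain ⟨hg, hgu, -⟩ := hG c hc
  exact ⟨G c, hg, hgu, Subtype.ext hcx⟩

/-- The main criterion: if the traversal produces as many distinct vectors as the set `X`
has elements, then everything in `X` is reached from the root. -/
theorem orbit_cover {us : List leechLattice} {ul : List (List ℤ)} (hus : BaseOK us ul)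
    {acts : List (ℕ → ℕ)} (hA : GoodActs (ul.map codeV) acts) (root : leechLattice)
    (hrn : sqNorm root.1 < 1024) (rl : List ℤ) (hroot : root.1 = vecOf rl)
    (cert : List (ℕ × ℕ)) (X : Set leechLattice) (n : ℕ) (hn : 0 < n) (hX : X.ncard = n)
    (hrX : root ∈ X)
    (hinv : ∀ g : Equiv.Perm leechLattice, g ∈ Co0 → (∀ u ∈ us, g u = u) → ∀ x ∈ X, g x ∈ X)
    (hlen : (dfsN acts (codeV rl) cert [] [codeV rl]).length = n) (I : List ℕ)
    (hsort : nodupCheck (dfsN acts (codeV rl) cert [] [codeV rl]) I = true) :
    ∀ x ∈ X, ∃ g : Equiv.Perm leechLattice, g ∈ Co0 ∧ (∀ u ∈ us, g u = u) ∧ g root = x := by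
  apply orbit_cover_aux root (dfsN acts (codeV rl) cert [] [codeV rl]) _
    (nodup_of_check _ I hsort) X n hn hX hrX hinv hlen
  apply dfsN_reach hus hA root hrn rl hroot cert [] [codeV rl]
  · intro v hv
    exact absurd hv List.not_mem_nil
  · intro v hv
    have hv' : v = codeV rl := List.mem_singleton.mp hv
    exact ⟨1, Co0.one_mem, fun _ _ => rfl, rl, hroot, hv'.symm⟩

end Cfsg.Agent.Helper7
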