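import Cfsg.Agent.Lib.Helper7.OrbCert

/-!
# Explicit enumerations of sets of lattice vectors by orbit certificates
-/

set_option autoImplicit false

namespace Cfsg.Agent.Helper7
open Cfsg Cfsg.Agent.Helper91 Cfsg.Agent.Helper92

/-- `Y` enumerates the set `X` by the codes in `out`, each vector being the image of the root
under an automorphism fixing the vectors in `us` -/
structure EnumOK (us : List leechLattice) (root : leechLattice) (X : Set leechLattice)
    (out : List ℕ) (Y : ℕ → leechLattice) : Prop where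
  mem : ∀ c ∈ out, Y c ∈ X
  code : ∀ c ∈ out, ∃ v, (Y c).1 = vecOf v ∧ codeV v = c
  reach : ∀ c ∈ out, ∃ g : Equiv.Perm leechLattice, g ∈ Co0 ∧ (∀ u ∈ us, g u = u) ∧ g root = Y c
  inj : ∀ a ∈ out, ∀ b ∈ out, Y a = Y b → a = b
  surj : ∀ x ∈ X, ∃ c ∈ out, Y c = x
  nodup : out.Nodup

theorem orbit_enum_aux {us : List leechLattice} (root : leechLattice) (out : List ℕ)
    (hreach : ∀ c ∈ out, SReach us root c) (hnd : out.Nodup)
    (X : Set leechLattice) (n : ℕ) (hn : 0 < n) (hX : X.ncard = n) (hrX : root ∈ X)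
    (hinv : ∀ g : Equiv.Perm leechLattice, g ∈ Co0 → (∀ u ∈ us, g u = u) → ∀ x ∈ X, g x ∈ X)
    (hlen : out.length = n) : ∃ Y : ℕ → leechLattice, EnumOK us root X out Y := by
  classical
  have hXfin : X.Finite := Set.finite_of_ncard_pos (by omega)
  choose! G hG using hreach
  have hφinj : ∀ a ∈ out, ∀ b ∈ out, (G a root).1 = (G b root).1 → a = b := by
    intro a ha b hb hab
    obtain ⟨-, -, v, hv, hva⟩ := hG a ha
    obtain ⟨-, -, w, hw, hwb⟩ := hG b hb
    rw [← hva, ← hwb]
    apply codeV_congr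
    rw [← hv, ← hw]
    exact hab
  have hFnd : (out.map fun c => (G c root).1).Nodup := List.Nodup.map_on hφinj hnd
  have hFcard : ((out.map fun c => (G c root).1).toFinset).card = n := by
    rw [List.toFinset_card_of_nodup hFnd, List.length_map, hlen]
  have hFsub : (((out.map fun c => (G c root).1).toFinset : Finset (GolayPt → ℤ)) :
      Set (GolayPt → ℤ)) ⊆ Subtype.val '' X := by
    intro w hw
    rw [Finset.mem_coe, List.mem_toFinset, List.mem_map] at hw
    obtain ⟨c, hc, rfl⟩ := hw
    obtain ⟨hg, hgu, -⟩ := hG c hc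
    exact ⟨G c root, hinv (G c) hg hgu root hrX, rfl⟩
  have himg : (Subtype.val '' X).ncard = n := by
    rw [Set.ncard_image_of_injective _ Subtype.val_injective, hX]
  have hEq := Set.eq_of_subset_of_ncard_le hFsub
    (by rw [himg, Set.ncard_coe_finset, hFcard]) (hXfin.image _)
  refine ⟨fun c => G c root, ⟨?_, ?_, ?_, ?_, ?_, hnd⟩⟩
  · intro c hc
    obtain ⟨hg, hgu, -⟩ := hG c hc
    exact hinv (G c) hg hgu root hrX
  · intro c hc
    exact (hG c hc).2.2
  · intro c hc
    obtain ⟨hg, hgu, -⟩ := hG c hc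
    exact ⟨G c, hg, hgu, rfl⟩
  · intro a ha b hb hab
    exact hφinj a ha b hb (congrArg Subtype.val hab)
  · intro x hx
    have : x.1 ∈ (((out.map fun c => (G c root).1).toFinset : Finset (GolayPt → ℤ)) :
        Set (GolayPt → ℤ)) := by rw [hEq]; exact ⟨x, hx, rfl⟩
    rw [Finset.mem_coe, List.mem_toFinset, List.mem_map] at this
    obtain ⟨c, hc, hcx⟩ := this
    exact ⟨c, hc, Subtype.ext hcx⟩

/-- The enumeration produced by a traversal certificate. -/
theorem orbit_enum {us : List leechLattice} {ul : List (List ℤ)} (hus : BaseOK us ul)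
    {acts : List (ℕ → ℕ)} (hA : GoodActs (ul.map codeV) acts) (root : leechLattice)
    (hrn : sqNorm root.1 < 1024) (rl : List ℤ) (hroot : root.1 = vecOf rl)
    (cert : List (ℕ × ℕ)) (X : Set leechLattice) (n : ℕ) (hn : 0 < n) (hX : X.ncard = n)
    (hrX : root ∈ X)
    (hinv : ∀ g : Equiv.Perm leechLattice, g ∈ Co0 → (∀ u ∈ us, g u = u) → ∀ x ∈ X, g x ∈ X)
    (hlen : (dfsN acts (codeV rl) cert [] [codeV rl]).length = n) (I : List ℕ)
    (hsort : nodupCheck (dfsN acts (codeV rl) cert [] [codeV rl]) I = true) :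
    ∃ Y : ℕ → leechLattice, EnumOK us root X (dfsN acts (codeV rl) cert [] [codeV rl]) Y := by
  apply orbit_enum_aux root (dfsN acts (codeV rl) cert [] [codeV rl]) _
    (nodup_of_check _ I hsort) X n hn hX hrX hinv hlen
  apply dfsN_reach hus hA root hrn rl hroot cert [] [codeV rl]
  · intro v hv
    exact absurd hv List.not_mem_nil
  · intro v hv
    have hv' : v = codeV rl := List.mem_singleton.mp hv
    exact ⟨1, Co0.one_mem, fun _ _ => rfl, rl, hroot, hv'.symm⟩

/-- transitivity from an enumeration -/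
theorem EnumOK.trans {us : List leechLattice} {root : leechLattice} {X : Set leechLattice}
    {out : List ℕ} {Y : ℕ → leechLattice} (h : EnumOK us root X out Y) (x x' : leechLattice)
    (hx : x ∈ X) (hx' : x' ∈ X) :
    ∃ g : Equiv.Perm leechLattice, g ∈ Co0 ∧ (∀ u ∈ us, g u = u) ∧ g x = x' := by
  obtain ⟨c, hc, rfl⟩ := h.surj x hx
  obtain ⟨c', hc', rfl⟩ := h.surj x' hx'
  obtain ⟨g, hg, hgu, hgr⟩ := h.reach c hc
  obtain ⟨g', hg', hgu', hgr'⟩ := h.reach c' hc'
  refine ⟨g' * g⁻¹, Co0.mul_mem hg' (Co0.inv_mem hg), ?_, ?_⟩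
  · intro u hu
    have : g⁻¹ u = u := by rw [Equiv.Perm.inv_eq_iff_eq]; exact (hgu u hu).symm
    rw [Equiv.Perm.mul_apply, this, hgu' u hu]
  · have : g⁻¹ (Y c) = root := by rw [Equiv.Perm.inv_eq_iff_eq]; exact hgr.symm
    rw [Equiv.Perm.mul_apply, this, hgr']

/-- counting a subset cut out by a condition which can be tested on codes -/
theorem EnumOK.ncard_filter {us : List leechLattice} {root : leechLattice}
    {X : Set leechLattice} {out : List ℕ} {Y : ℕ → leechLattice} (h : EnumOK us root X out Y)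
    (Q : leechLattice → Prop) (q : ℕ → Bool) (hq : ∀ c ∈ out, Q (Y c) ↔ q c = true) :
    {x : leechLattice | x ∈ X ∧ Q x}.ncard = (out.filter q).length := by
  classical
  have hnd : (out.filter q).Nodup := h.nodup.filter _
  have hinj : ∀ a ∈ out.filter q, ∀ b ∈ out.filter q, Y a = Y b → a = b := fun a ha b hb hab =>
    h.inj a (List.mem_of_mem_filter ha) b (List.mem_of_mem_filter hb) hab
  have hset : {x : leechLattice | x ∈ X ∧ Q x} = (((out.filter q).map Y).toFinset : Set _) := by
    ext x
    rw [Finset.mem_coe, List.mem_toFinset, List.mem_map]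
    constructor
    · rintro ⟨hx, hQ⟩
      obtain ⟨c, hc, rfl⟩ := h.surj x hx
      exact ⟨c, List.mem_filter.mpr ⟨hc, (hq c hc).mp hQ⟩, rfl⟩
    · rintro ⟨c, hc, rfl⟩
      rw [List.mem_filter] at hc
      exact ⟨h.mem c hc.1, (hq c hc.1).mpr hc.2⟩
  rw [hset, Set.ncard_coe_finset, List.toFinset_card_of_nodup (List.Nodup.map_on hinj hnd),
    List.length_map]

/-- the code of an enumerated vector given by an explicit list -/
theorem EnumOK.code_eq {us : List leechLattice} {root : leechLattice}
    {X : Set leechLattice} {out : List ℕ} {Y : ℕ → leechLattice} (h : EnumOK us root X out Y)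
    (c : ℕ) (hc : c ∈ out) (l : List ℤ) (hl : (Y c).1 = vecOf l) : c = codeV l := by
  obtain ⟨v, hv, hvc⟩ := h.code c hc
  rw [← hvc]
  exact codeV_congr (hv.symm.trans hl)

/-! ### Inner products on codes -/

/-- the inner product of a vector given by a list with a packed vector -/
def dotC (wl : List ℤ) (c : ℕ) : ℤ :=
  ((List.range 24).map fun i => wl.getD i 0 * ((digitN c i : ℤ) - 32)).sum

theorem dotInt_eq_dotC {w x : leechLattice} {wl v : List ℤ} (hw : w.1 = vecOf wl)
    (hx : x.1 = vecOf v) (hn : sqNorm x.1 < 1024) : dotInt w.1 x.1 = dotC wl (codeV v) := by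
  have hB : Bounded v := bounded_of_norm hx hn
  unfold dotInt dotC
  rw [sum_allPts]
  unfold allPts
  rw [List.map_map]
  apply congrArg
  apply List.map_congr_left
  intro i hi
  rw [List.mem_range] at hi
  simp only [Function.comp_apply]
  rw [hw, hx, vecOf_pt wl i hi, vecOf_pt v i hi, digitN_codeV v hB i hi]
  have := hB i hi
  congr 1
  omega

end Cfsg.Agent.Helper7
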