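import Cfsg.Agent.Lib.Helper7.Code

set_option autoImplicit false

namespace Cfsg.Agent.Helper7
open Cfsg
open scoped Pointwise

/-- Iterated or of `g 0, …, g (k-1)`. -/
def orUpTo (g : ℕ → ℕ) : ℕ → ℕ
  | 0 => 0
  | k + 1 => orUpTo g k ||| g k

theorem testBit_orUpTo (g : ℕ → ℕ) (k j : ℕ) :
    (orUpTo g k).testBit j = true ↔ ∃ i < k, (g i).testBit j = true := by
  induction k with
  | zero => simp [orUpTo]
  | succ k ih =>
    rw [orUpTo, Nat.testBit_lor, Bool.or_eq_true, ih]
    constructor
    · rintro (⟨i, hi, h⟩ | h)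
      · exact ⟨i, by omega, h⟩
      · exact ⟨k, by omega, h⟩
    · rintro ⟨i, hi, h⟩
      by_cases hik : i = k
      · right; rw [← hik]; exact h
      · left; exact ⟨i, by omega, h⟩

theorem orUpTo_lt (g : ℕ → ℕ) (k : ℕ) (h : ∀ i < k, g i < 2 ^ 24) : orUpTo g k < 2 ^ 24 := by
  induction k with
  | zero => simp [orUpTo]
  | succ k ih =>
    rw [orUpTo]
    exact Nat.or_lt_two_pow (ih fun i hi => h i (by omega)) (h k (by omega))

/-- Image of a bitmask under the map of indices given by a list. -/
def permMask (l : List ℕ) (m : ℕ) : ℕ :=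
  orUpTo (fun i => if m.testBit i then 2 ^ (l.getD i 0) else 0) 24

theorem testBit_permMask (l : List ℕ) (m j : ℕ) :
    (permMask l m).testBit j = true ↔ ∃ i < 24, m.testBit i = true ∧ l.getD i 0 = j := by
  rw [permMask, testBit_orUpTo]
  constructor
  · rintro ⟨i, hi, h⟩
    refine ⟨i, hi, ?_⟩
    by_cases hm : m.testBit i = true
    · rw [if_pos hm, Nat.testBit_two_pow] at h
      exact ⟨hm, by simpa using h⟩
    · rw [if_neg hm] at h
      simp at h
  · rintro ⟨i, hi, hm, h⟩
    refine ⟨i, hi, ?_⟩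
    rw [if_pos hm, Nat.testBit_two_pow]
    simpa using h

/-- The list `l` tabulates the permutation `σ`. -/
def Tab (σ : Equiv.Perm GolayPt) (l : List ℕ) : Prop := ∀ p, idx (σ p) = l.getD (idx p) 0

instance (σ : Equiv.Perm GolayPt) (l : List ℕ) [DecidablePred fun p => idx (σ p) = l.getD (idx p) 0] :
    Decidable (Tab σ l) := by
  unfold Tab; infer_instance

theorem Tab.lt {σ : Equiv.Perm GolayPt} {l : List ℕ} (h : Tab σ l) (i : ℕ) (hi : i < 24) :
    l.getD i 0 < 24 := by
  have := h (pt i)
  rw [idx_pt i hi] at this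
  rw [← this]
  exact idx_lt _

theorem permMask_lt {σ : Equiv.Perm GolayPt} {l : List ℕ} (h : Tab σ l) (m : ℕ) :
    permMask l m < 2 ^ 24 := by
  apply orUpTo_lt
  intro i hi
  split
  · exact Nat.pow_lt_pow_right (by norm_num) (h.lt i hi)
  · norm_num

theorem smul_finset_eq (σ : Equiv.Perm GolayPt) (b : Finset GolayPt) : σ • b = b.image σ := by
  ext p
  simp [Finset.mem_smul_finset]

theorem image_ofMask {σ : Equiv.Perm GolayPt} {l : List ℕ} (h : Tab σ l) (m : ℕ) :
    (ofMask m).image σ = ofMask (permMask l m) := by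
  ext p
  rw [Finset.mem_image, mem_ofMask, testBit_permMask]
  constructor
  · rintro ⟨q, hq, rfl⟩
    exact ⟨idx q, idx_lt q, (mem_ofMask _ _).mp hq, (h q).symm⟩
  · rintro ⟨i, hi, hm, hl⟩
    refine ⟨pt i, ?_, ?_⟩
    · rw [mem_ofMask, idx_pt i hi]; exact hm
    · apply idx_injective
      rw [h (pt i), idx_pt i hi, hl]

theorem smul_ofMask {σ : Equiv.Perm GolayPt} {l : List ℕ} (h : Tab σ l) (m : ℕ) :
    σ • ofMask m = ofMask (permMask l m) := by
  rw [smul_finset_eq, image_ofMask h]

theorem image_support₂ (σ : Equiv.Perm GolayPt) (w : W) :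
    (support₂ w).image σ = support₂ (fun p => w (σ.symm p)) := by
  ext p
  rw [Finset.mem_image, mem_support₂]
  constructor
  · rintro ⟨q, hq, rfl⟩
    rw [Equiv.symm_apply_apply]
    exact (mem_support₂ _ _).mp hq
  · intro hp
    exact ⟨σ.symm p, (mem_support₂ _ _).mpr hp, Equiv.apply_symm_apply _ _⟩

theorem supports_finite : (supports (golayCode : Set W)).Finite := Set.toFinite _

/-- A permutation mapping every generator into the code lies in `M24`. -/
theorem mem_M24_of_key {σ : Equiv.Perm GolayPt}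
    (hgen : ∀ t : ZMod 23, (fun p => qrWord t (σ.symm p)) ∈ golayCode) : σ ∈ M24 := by
  have key : ∀ w ∈ golayCode, (fun p => w (σ.symm p)) ∈ golayCode := by
    intro w hw
    refine Submodule.span_induction ?_ ?_ ?_ ?_ hw
    · rintro x (⟨t, rfl⟩ | hx)
      · exact hgen t
      · rw [Set.mem_singleton_iff.mp hx]
        exact Submodule.subset_span (Or.inr rfl)
    · exact Submodule.zero_mem _
    · intro x y _ _ hx hy
      exact Submodule.add_mem _ hx hy
    · intro c x _ hx
      exact Submodule.smul_mem _ c hx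
  rw [M24, setSystemAut, MulAction.mem_stabilizer_set' supports_finite]
  rintro b ⟨w, hw, rfl⟩
  rw [smul_finset_eq, image_support₂]
  exact ⟨_, key w hw, rfl⟩

theorem mem_M24_of_tab {σ : Equiv.Perm GolayPt} {l : List ℕ} (h : Tab σ l)
    (hg : ∀ j < 23, encMask (permMask l (genMask j)) = permMask l (genMask j)) : σ ∈ M24 := by
  apply mem_M24_of_key
  intro t
  have hj := ZMod.val_lt t
  have : (fun p => decW (genMask t.val) (σ.symm p)) = decW (permMask l (genMask t.val)) := by
    apply support₂_injective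
    rw [← image_support₂, support₂_decW, support₂_decW, image_ofMask h]
  rw [qrWord_eq, this, decW_mem_iff _ (permMask_lt h _)]
  exact hg _ hj

theorem mem_M24_iff (σ : Equiv.Perm GolayPt) :
    σ ∈ M24 ↔ ∀ b ∈ supports (golayCode : Set W), σ • b ∈ supports (golayCode : Set W) := by
  rw [M24, setSystemAut, MulAction.mem_stabilizer_set' supports_finite]

theorem smul_mem_supports {σ : Equiv.Perm GolayPt} (hσ : σ ∈ M24) {b : Finset GolayPt}
    (hb : b ∈ supports (golayCode : Set W)) : σ • b ∈ supports (golayCode : Set W) :=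
  (mem_M24_iff σ).mp hσ b hb

end Cfsg.Agent.Helper7
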