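import Mathlib
import Cfsg.Agent.Lib.Helper2.SR0

/-!
# SR project (S2281), piece (C15) `param_two`, hypothesis variant (helper7).
`param_two_of` takes the conclusion of piece (G2) `exists_generator` as a hypothesis.
-/

set_option autoImplicit false

namespace Cfsg.Agent.Helper7.SR

open Matrix Cfsg Cfsg.Agent.Helper13 Cfsg.Agent.Helper84.SpRoot Cfsg.Agent.Helper5.SpAut
open Cfsg.Agent.Helper2.SR

section C
variable {F : Type*} [Field F]

/-- (C15), with (G2) as a hypothesis -/
theorem param_two_of [Fintype F] (hG : ∃ x : F, x ≠ 0 ∧ IsGen (x ^ 2))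
    (hq : Fintype.card F ≠ 2) :
    ∃ s κ : F, s ≠ 0 ∧ κ ≠ 0 ∧ IsGen ((κ * s) ^ 2) ∧ ∃ b r : F, κ = s * b * (1 - b) - 2 * r := by
  classical
  obtain ⟨x, hx0, hx⟩ := hG
  by_cases h2 : (2 : F) = 0
  · -- characteristic two
    have hchar : ringChar F = 2 := by
      have hcp : CharP F 2 := CharTwo.of_one_ne_zero_of_two_eq_zero one_ne_zero h2
      exact ringChar.eq F 2
    have hb : ∃ b : F, b ≠ 0 ∧ b ≠ 1 := by
      by_contra hcon
      push Not at hcon
      apply hq
      have hsub : (Finset.univ : Finset F) ⊆ {0, 1} := by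
        intro b _
        by_cases hb0 : b = 0
        · simp [hb0]
        · simp [hcon b hb0]
      have h1 : Fintype.card F ≤ 2 := by
        calc Fintype.card F = (Finset.univ : Finset F).card := rfl
          _ ≤ ({0, 1} : Finset F).card := Finset.card_le_card hsub
          _ ≤ 2 := Finset.card_le_two
      have h2' : 1 < Fintype.card F := Fintype.one_lt_card
      omega
    obtain ⟨b, hb0, hb1⟩ := hb
    have ht0 : b * (1 - b) ≠ 0 := mul_ne_zero hb0 (sub_ne_zero.mpr (Ne.symm hb1))
    obtain ⟨s, hs⟩ := FiniteField.isSquare_of_char_two hchar (x / (b * (1 - b)))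
    have hs0 : s ≠ 0 := by
      rintro rfl
      have : x / (b * (1 - b)) = 0 := by simpa using hs
      exact (div_ne_zero hx0 ht0) this
    refine ⟨s, s * (b * (1 - b)), hs0, mul_ne_zero hs0 ht0, ?_, b, 0, ?_⟩
    · have : s * (b * (1 - b)) * s = x := by
        have : s * s * (b * (1 - b)) = x := by
          rw [← hs]; field_simp
        linear_combination this
      rw [this]; exact hx
    · ring
  · refine ⟨1, x, one_ne_zero, hx0, by simpa using hx, 0, -x / 2, ?_⟩
    field_simp
    ring

end C

end Cfsg.Agent.Helper7.SR
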