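import Mathlib
import Cfsg.Agent.Lib.Helper2.SR0
import Cfsg.Agent.Lib.Helper69.SRG2
import Cfsg.Agent.Lib.Helper7.SRC15of

/-!
# SR project (S2281), piece (C15) `param_two` (helper7), verbatim; (G2) from helper69.
-/

set_option autoImplicit false

namespace Cfsg.Agent.Helper7.SR

open Matrix Cfsg Cfsg.Agent.Helper13 Cfsg.Agent.Helper84.SpRoot Cfsg.Agent.Helper5.SpAut
open Cfsg.Agent.Helper2.SR

section C
variable {F : Type*} [Field F] {m : ℕ}

/-- (C15) uses G2 -/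
theorem param_two [Fintype F] (hq : Fintype.card F ≠ 2) :
    ∃ s κ : F, s ≠ 0 ∧ κ ≠ 0 ∧ IsGen ((κ * s) ^ 2) ∧ ∃ b r : F, κ = s * b * (1 - b) - 2 * r :=
  param_two_of Cfsg.Agent.Helper69.SR.exists_generator hq

end C

end Cfsg.Agent.Helper7.SR
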