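import Mathlib
import Cfsg.Agent.Lib.Helper2.SR0

/-!
# SR project (S2281), piece (C9) `exists_h` (helper7).
Self-contained: carries its own copies of (G1) `frame4_h7` and of the (C0) facts it needs.
-/

set_option autoImplicit false

namespace Cfsg.Agent.Helper7.SR

open Matrix Cfsg Cfsg.Agent.Helper13 Cfsg.Agent.Helper84.SpRoot Cfsg.Agent.Helper5.SpAut
open Cfsg.Agent.Helper2.SR

section G
variable {F : Type*} [Field F] {n : ℕ}

/-- own copy of (G1): transitivity on pairs of orthogonal hyperbolic pairs -/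
theorem frame4_h7 {a b c d a' b' c' d' : Fin n ⊕ Fin n → F}
    (hab : Cfsg.sympForm n F a b = 1) (hcd : Cfsg.sympForm n F c d = 1)
    (hac : Cfsg.sympForm n F a c = 0) (had : Cfsg.sympForm n F a d = 0)
    (hbc : Cfsg.sympForm n F b c = 0) (hbd : Cfsg.sympForm n F b d = 0)
    (hab' : Cfsg.sympForm n F a' b' = 1) (hcd' : Cfsg.sympForm n F c' d' = 1)
    (hac' : Cfsg.sympForm n F a' c' = 0) (had' : Cfsg.sympForm n F a' d' = 0)
    (hbc' : Cfsg.sympForm n F b' c' = 0) (hbd' : Cfsg.sympForm n F b' d' = 0) :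
    ∃ h : Matrix.symplecticGroup (Fin n) F,
      h.val *ᵥ a = a' ∧ h.val *ᵥ b = b' ∧ h.val *ᵥ c = c' ∧ h.val *ᵥ d = d' := by
  obtain ⟨A₁, -, hA₁a, hA₁b⟩ := transvGroup_pairs (⊤ : Submodule F (Fin n ⊕ Fin n → F))
    (Submodule.mem_top) (Submodule.mem_top) (Submodule.mem_top) (Submodule.mem_top) hab hab'
  have hc₁ : A₁.val *ᵥ c ∈ perp2 a' b' := by
    constructor
    · rw [← hA₁a, sympForm_mulVec A₁.2, sympForm_swap, hac, neg_zero]
    · rw [← hA₁b, sympForm_mulVec A₁.2, sympForm_swap, hbc, neg_zero]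
  have hd₁ : A₁.val *ᵥ d ∈ perp2 a' b' := by
    constructor
    · rw [← hA₁a, sympForm_mulVec A₁.2, sympForm_swap, had, neg_zero]
    · rw [← hA₁b, sympForm_mulVec A₁.2, sympForm_swap, hbd, neg_zero]
  have hc'W : c' ∈ perp2 a' b' := by
    constructor
    · rw [sympForm_swap, hac', neg_zero]
    · rw [sympForm_swap, hbc', neg_zero]
  have hd'W : d' ∈ perp2 a' b' := by
    constructor
    · rw [sympForm_swap, had', neg_zero]
    · rw [sympForm_swap, hbd', neg_zero]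
  have h1 : Cfsg.sympForm n F (A₁.val *ᵥ c) (A₁.val *ᵥ d) = 1 := by
    rw [sympForm_mulVec A₁.2, hcd]
  obtain ⟨B, hB, hBc, hBd⟩ := transvGroup_pairs (perp2 a' b') hc₁ hd₁ hc'W hd'W h1 hcd'
  have hBa : B.val *ᵥ a' = a' := by
    apply transvGroup_fix _ hB
    intro x hx
    rw [sympForm_swap, hx.1, neg_zero]
  have hBb : B.val *ᵥ b' = b' := by
    apply transvGroup_fix _ hB
    intro x hx
    rw [sympForm_swap, hx.2, neg_zero]
  refine ⟨B * A₁, ?_, ?_, ?_, ?_⟩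
  · rw [Submonoid.coe_mul, ← Matrix.mulVec_mulVec, hA₁a, hBa]
  · rw [Submonoid.coe_mul, ← Matrix.mulVec_mulVec, hA₁b, hBb]
  · rw [Submonoid.coe_mul, ← Matrix.mulVec_mulVec, hBc]
  · rw [Submonoid.coe_mul, ← Matrix.mulVec_mulVec, hBd]

end G

section C
variable {F : Type*} [Field F] {m : ℕ}

theorem form_be_h7 (x : Fin (m + 2) ⊕ Fin (m + 2) → F) (i : Fin (m + 2)) :
    Cfsg.sympForm (m + 2) F x (be i) = x (Sum.inr i) := sympForm_single_inl' x i

theorem form_bf_h7 (x : Fin (m + 2) ⊕ Fin (m + 2) → F) (i : Fin (m + 2)) :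
    Cfsg.sympForm (m + 2) F x (bf i) = - x (Sum.inl i) := sympForm_single_inr' x i

theorem be_inl_h7 (i j : Fin (m + 2)) : (be i : Fin (m + 2) ⊕ Fin (m + 2) → F) (Sum.inl j)
    = if j = i then 1 else 0 := by
  unfold be; rw [Pi.single_apply]; simp

theorem be_inr_h7 (i j : Fin (m + 2)) : (be i : Fin (m + 2) ⊕ Fin (m + 2) → F) (Sum.inr j) = 0 := by
  unfold be; rw [Pi.single_apply]; simp

theorem bf_inr_h7 (i j : Fin (m + 2)) : (bf i : Fin (m + 2) ⊕ Fin (m + 2) → F) (Sum.inr j)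
    = if j = i then 1 else 0 := by
  unfold bf; rw [Pi.single_apply]; simp

theorem bf_inl_h7 (i j : Fin (m + 2)) : (bf i : Fin (m + 2) ⊕ Fin (m + 2) → F) (Sum.inl j) = 0 := by
  unfold bf; rw [Pi.single_apply]; simp

theorem jA_ne_jB_h7 : (jA : Fin (m + 2)) ≠ jB := by
  intro h; have := congrArg Fin.val h; simp [jA, jB] at this

/-- (C9) -/
theorem exists_h : ∃ h : Matrix.symplecticGroup (Fin (m + 2)) F,
    h.val *ᵥ bf jA = be 0 ∧ h.val *ᵥ bf jB = be 0 - be 1 ∧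
    h.val *ᵥ be jB = bf 1 ∧ h.val *ᵥ be jA = - bf 0 - bf 1 := by
  have h01 : (0 : Fin (m + 2)) ≠ 1 := by
    intro h; have := congrArg Fin.val h; simp at this
  have h10 : (1 : Fin (m + 2)) ≠ 0 := fun h => h01 h.symm
  have hAB : (jA : Fin (m + 2)) ≠ jB := jA_ne_jB_h7
  have hBA : (jB : Fin (m + 2)) ≠ jA := fun h => hAB h.symm
  obtain ⟨h, h1, h2, h3, h4⟩ := frame4_h7 (F := F) (n := m + 2)
    (a := bf jA) (b := be jA) (c := bf jB) (d := be jB)
    (a' := be 0) (b' := - bf 0 - bf 1) (c' := be 0 - be 1) (d' := bf 1)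
    (by rw [form_be_h7, bf_inr_h7]; simp)
    (by rw [form_be_h7, bf_inr_h7]; simp)
    (by rw [form_bf_h7, bf_inl_h7]; simp)
    (by rw [form_be_h7, bf_inr_h7]; simp [hBA])
    (by rw [form_bf_h7, be_inl_h7]; simp [hBA])
    (by rw [form_be_h7, be_inr_h7])
    (by rw [sympForm_sub_right, sympForm_neg_right, form_bf_h7, form_bf_h7, be_inl_h7, be_inl_h7]
        simp [h10])
    (by rw [form_bf_h7]; simp [be_inl_h7, h10])
    (by rw [sympForm_sub_right, form_be_h7, form_be_h7, be_inr_h7, be_inr_h7]; simp)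
    (by rw [form_bf_h7, be_inl_h7]; simp [h10])
    (by rw [sympForm_sub_right, form_be_h7, form_be_h7]
        simp [bf_inr_h7, h01, h10])
    (by rw [form_bf_h7]; simp [bf_inl_h7])
  exact ⟨h, h1, h3, h4, h2⟩

end C

end Cfsg.Agent.Helper7.SR
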