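import Mathlib

/-!
# Counting integer vectors with prescribed coordinate value lists, norm and coordinate sum mod 8

Pure list combinatorics: a dynamic programme, tabulated so that the kernel evaluates it quickly.
-/

set_option autoImplicit false

namespace Cfsg.Agent.Helper7

/-- all lists whose `i`-th entry is drawn from the `i`-th list -/
def vecs : List (List ℤ) → List (List ℤ)
  | [] => [[]]
  | V :: Vs => V.flatMap fun t => (vecs Vs).map (List.cons t)

theorem mem_vecs : ∀ (vs : List (List ℤ)) (l : List ℤ),
    l ∈ vecs vs ↔ List.Forall₂ (fun t V => t ∈ V) l vs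
  | [], l => by
      simp [vecs]
  | V :: Vs, l => by
      simp only [vecs, List.mem_flatMap, List.mem_map]
      constructor
      · rintro ⟨t, ht, l', hl', rfl⟩
        exact List.Forall₂.cons ht ((mem_vecs Vs l').mp hl')
      · intro h
        cases h with
        | cons ht hl' => exact ⟨_, ht, _, (mem_vecs Vs _).mpr hl', rfl⟩

theorem nodup_vecs : ∀ vs : List (List ℤ), (∀ V ∈ vs, V.Nodup) → (vecs vs).Nodup
  | [], _ => by simp [vecs]
  | V :: Vs, h => by
      simp only [vecs]
      rw [List.nodup_flatMap]
      refine ⟨fun t _ => ?_, ?_⟩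
      · exact (nodup_vecs Vs (fun W hW => h W (List.mem_cons_of_mem _ hW))).map
          (List.cons_injective)
      · have hV : V.Nodup := h V List.mem_cons_self
        refine hV.imp ?_
        intro a b hab
        show List.Disjoint _ _
        rw [List.disjoint_left]
        intro l hl1 hl2
        rw [List.mem_map] at hl1 hl2
        obtain ⟨l1, -, rfl⟩ := hl1
        obtain ⟨l2, -, h2⟩ := hl2
        exact hab (List.cons_eq_cons.mp h2).1.symm

/-- the data of a value relevant for the count: its square and its residue modulo 8 -/
def encT (t : ℤ) : ℕ × ℕ := (t.natAbs ^ 2, (t % 8).toNat)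

/-- the predicate: prescribed sum of squares and sum of residues modulo 8 -/
def QL (n r : ℕ) (l : List ℤ) : Prop :=
  (l.map fun t => t.natAbs ^ 2).sum = n ∧ (l.map fun t => (t % 8).toNat).sum % 8 = r

instance (n r : ℕ) : DecidablePred (QL n r) := fun l => by unfold QL; infer_instance

theorem QL_nil (n r : ℕ) : QL n r [] ↔ n = 0 ∧ r = 0 := by
  unfold QL
  simp only [List.map_nil, List.sum_nil, Nat.zero_mod]
  constructor <;> rintro ⟨h1, h2⟩ <;> exact ⟨h1.symm, h2.symm⟩

theorem QL_cons (n r : ℕ) (hr : r < 8) (t : ℤ) (l : List ℤ) :
    QL n r (t :: l) ↔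
      t.natAbs ^ 2 ≤ n ∧ QL (n - t.natAbs ^ 2) ((r + 8 - (t % 8).toNat) % 8) l := by
  unfold QL
  simp only [List.map_cons, List.sum_cons]
  have hb : (t % 8).toNat < 8 := by omega
  generalize (t % 8).toNat = b at hb
  generalize (l.map fun t => (t % 8).toNat).sum = s
  generalize (l.map fun t => t.natAbs ^ 2).sum = q
  generalize t.natAbs ^ 2 = a
  omega

/-- one step of the dynamic programme on functions -/
def stepC (W : List (ℕ × ℕ)) (c : ℕ → ℕ → ℕ) (n r : ℕ) : ℕ :=
  (W.map fun ab => if ab.1 ≤ n then c (n - ab.1) ((r + 8 - ab.2) % 8) else 0).sum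

/-- tabulation of a function on `[0, 65) × [0, 8)` -/
def tab (c : ℕ → ℕ → ℕ) : List (List ℕ) :=
  (List.range 65).map fun n => (List.range 8).map fun r => c n r

/-- table lookup -/
def look (T : List (List ℕ)) (n r : ℕ) : ℕ := (T.getD n []).getD r 0

theorem getD_map_range {α : Type*} (f : ℕ → α) (k n : ℕ) (d : α) (h : n < k) :
    ((List.range k).map f).getD n d = f n := by
  simp [List.getD_eq_getElem?_getD, h]

theorem look_tab (c : ℕ → ℕ → ℕ) (n r : ℕ) (hn : n < 65) (hr : r < 8) :
    look (tab c) n r = c n r := by
  unfold look tab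
  rw [getD_map_range _ _ _ _ hn, getD_map_range _ _ _ _ hr]

/-- the base function -/
def baseC (n r : ℕ) : ℕ := if n = 0 ∧ r = 0 then 1 else 0

/-- the table of counts for a list of value lists -/
def tabs : List (List ℤ) → List (List ℕ)
  | [] => tab baseC
  | V :: Vs => tab (stepC (V.map encT) (look (tabs Vs)))

theorem countP_vecs : ∀ (vs : List (List ℤ)) (n r : ℕ), n < 65 → r < 8 →
    (vecs vs).countP (fun l => decide (QL n r l)) = look (tabs vs) n r
  | [], n, r, hn, hr => by
      simp only [vecs, tabs]
      rw [look_tab _ _ _ hn hr, List.countP_cons, List.countP_nil]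
      unfold baseC
      simp only [QL_nil, zero_add]
      split_ifs <;> simp_all
  | V :: Vs, n, r, hn, hr => by
      simp only [vecs, tabs]
      rw [look_tab _ _ _ hn hr, List.countP_flatMap]
      unfold stepC
      rw [List.map_map]
      congr 1
      apply List.map_congr_left
      intro t _
      simp only [Function.comp_apply]
      rw [List.countP_map]
      have e1 : (encT t).1 = t.natAbs ^ 2 := rfl
      have e2 : (encT t).2 = (t % 8).toNat := rfl
      by_cases hle : (encT t).1 ≤ n
      · rw [if_pos hle, ← countP_vecs Vs _ _ (by omega) (Nat.mod_lt _ (by norm_num))]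
        apply List.countP_congr
        intro l _
        simp only [Function.comp_apply, decide_eq_true_eq]
        rw [QL_cons n r hr, e1, e2]
        rw [e1] at hle
        exact ⟨fun h => h.2, fun h => ⟨hle, h⟩⟩
      · rw [if_neg hle]
        rw [List.countP_eq_zero]
        intro l _
        simp only [Function.comp_apply, decide_eq_true_eq]
        rw [QL_cons n r hr]
        rw [e1] at hle
        exact fun h => hle h.1

/-- iterating the tabulated step -/
def iterT (W : List (ℕ × ℕ)) : ℕ → List (List ℕ) → List (List ℕ)
  | 0, T => T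
  | k + 1, T => tab (stepC W (look (iterT W k T)))

theorem tabs_replicate_append (V : List ℤ) (k : ℕ) (vs : List (List ℤ)) :
    tabs (List.replicate k V ++ vs) = iterT (V.map encT) k (tabs vs) := by
  induction k with
  | zero => rfl
  | succ k ih =>
    rw [List.replicate_succ, List.cons_append]
    simp only [tabs, iterT]
    rw [ih]

/-- Every list of the right length is the list of values of a function along a duplicate-free
list of arguments. -/
theorem exists_map_eq {ι : Type*} [DecidableEq ι] : ∀ (L : List ι), L.Nodup → ∀ (l : List ℤ),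
    l.length = L.length → ∃ x : ι → ℤ, L.map x = l
  | [], _, l, hl => ⟨fun _ => 0, by
      rw [List.length_nil, List.length_eq_zero_iff] at hl
      rw [hl]; rfl⟩
  | a :: L', hnd, l, hl => by
      cases l with
      | nil => simp at hl
      | cons t l' =>
        rw [List.nodup_cons] at hnd
        obtain ⟨x', hx'⟩ := exists_map_eq L' hnd.2 l' (by simpa using hl)
        refine ⟨Function.update x' a t, ?_⟩
        rw [List.map_cons, Function.update_self]
        congr 1
        rw [← hx']
        apply List.map_congr_left
        intro i hi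
        rw [Function.update_of_ne]
        rintro rfl
        exact hnd.1 hi

/-- Counting functions by counting their lists of values. -/
theorem ncard_fun_eq_countP {ι : Type*} [DecidableEq ι] (L : List ι) (hnd : L.Nodup)
    (hall : ∀ i, i ∈ L) (V : ι → List ℤ) (hV : ∀ i, (V i).Nodup) (P : List ℤ → Prop)
    [DecidablePred P] :
    {x : ι → ℤ | (∀ i, x i ∈ V i) ∧ P (L.map x)}.ncard =
      (vecs (L.map V)).countP (fun l => decide (P l)) := by
  set F := (vecs (L.map V)).filter (fun l => decide (P l)) with hF
  have hFnd : F.Nodup := (nodup_vecs _ (by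
    intro W hW
    rw [List.mem_map] at hW
    obtain ⟨i, -, rfl⟩ := hW
    exact hV i)).filter _
  have hinj : Function.Injective (fun x : ι → ℤ => L.map x) := by
    intro x y hxy
    funext i
    exact (List.map_inj_left.mp hxy) i (hall i)
  have himg : (fun x : ι → ℤ => L.map x) '' {x : ι → ℤ | (∀ i, x i ∈ V i) ∧ P (L.map x)} =
      ↑F.toFinset := by
    ext l
    simp only [Set.mem_image, Set.mem_ofPred_eq, Finset.mem_coe, List.mem_toFinset, hF,
      List.mem_filter, decide_eq_true_eq, mem_vecs]
    constructor
    · rintro ⟨x, ⟨hx1, hx2⟩, rfl⟩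
      refine ⟨?_, hx2⟩
      rw [List.forall₂_map_left_iff, List.forall₂_map_right_iff, List.forall₂_same]
      exact fun i _ => hx1 i
    · rintro ⟨h1, h2⟩
      have hlen : l.length = L.length := by
        rw [h1.length_eq, List.length_map]
      obtain ⟨x, rfl⟩ := exists_map_eq L hnd l hlen
      refine ⟨x, ⟨?_, h2⟩, rfl⟩
      rw [List.forall₂_map_left_iff, List.forall₂_map_right_iff, List.forall₂_same] at h1
      exact fun i => h1 i (hall i)
  rw [← Set.ncard_image_of_injective _ hinj, himg, Set.ncard_coe_finset,
    List.toFinset_card_of_nodup hFnd, hF, List.countP_eq_length_filter]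

end Cfsg.Agent.Helper7
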